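import Cfsg.Agent.Lib.MaxSub.SuPow.Good

/-!
Tensor powers of a Hermitian space, characteristic two: dihedral groups, pairs of root elements, root elements as
products of four commuting ones, root elements fixed by involutions.
-/

set_option autoImplicit false
set_option linter.unusedSectionVars false

namespace CfsgLib.MaxSub.SuPow

open CfsgLib.MaxSub.SpPow (InH inv_one_add)

section dihedral

variable {G : Type*} [Group G] {a b : G}

theorem dih_inv (ha : a * a = 1) (hb : b * b = 1) : (a * b)⁻¹ = b * a :=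
  inv_eq_of_mul_eq_one_right (by rw [mul_assoc, ← mul_assoc b b, hb, one_mul, ha])

theorem dih_flip (ha : a * a = 1) (hb : b * b = 1) (j : ℕ) : (a * b) ^ j * a = a * ((a * b) ^ j)⁻¹ := by
  have hs : (a * b) * a = a * (b * a) := mul_assoc a b a
  induction j with
  | zero => simp
  | succ j ih =>
    rw [pow_succ, mul_assoc ((a * b) ^ j), hs, ← mul_assoc, ih, mul_assoc, ← dih_inv ha hb, ← mul_inv_rev,
      ← pow_succ', pow_succ]

theorem dih_conj (ha : a * a = 1) (hb : b * b = 1) (j : ℕ) :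
    (a * b) ^ j * a * ((a * b) ^ j)⁻¹ = (a * b) ^ (2 * j) * a := by
  have h1 : ((a * b) ^ j)⁻¹ = a * (a * b) ^ j * a := by
    rw [mul_assoc, dih_flip ha hb, ← mul_assoc, ha, one_mul]
  rw [h1]
  rw [show (a * b) ^ j * a * (a * (a * b) ^ j * a) = (a * b) ^ j * (a * a) * (a * b) ^ j * a by
    simp only [mul_assoc], ha, mul_one, ← pow_add, two_mul]

theorem dih_conj' (ha : a * a = 1) (hb : b * b = 1) (j : ℕ) :
    ((a * b) ^ j)⁻¹ * a * (a * b) ^ j = a * (a * b) ^ (2 * j) := by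
  have h1 : ((a * b) ^ j)⁻¹ = a * (a * b) ^ j * a := by
    rw [mul_assoc, dih_flip ha hb, ← mul_assoc, ha, one_mul]
  rw [h1, show a * (a * b) ^ j * a * a * (a * b) ^ j = a * ((a * b) ^ j * (a * a) * (a * b) ^ j) by
    simp only [mul_assoc], ha, mul_one, ← pow_add, two_mul]

/-- the second reflection moved -/
theorem dih_conj_right (ha : a * a = 1) (hb : b * b = 1) (j : ℕ) :
    ((a * b) ^ j)⁻¹ * b * (a * b) ^ j = a * (a * b) ^ (2 * j + 1) := by
  have hb' : b = a * (a * b) := by rw [← mul_assoc, ha, one_mul]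
  calc ((a * b) ^ j)⁻¹ * b * (a * b) ^ j = ((a * b) ^ j)⁻¹ * (a * (a * b)) * (a * b) ^ j := by rw [← hb']
    _ = ((a * b) ^ j)⁻¹ * a * (a * b) ^ j * (a * b) := by
        rw [show ((a * b) ^ j)⁻¹ * (a * (a * b)) * (a * b) ^ j = ((a * b) ^ j)⁻¹ * a * ((a * b) * (a * b) ^ j) by
          simp only [mul_assoc], (Commute.self_pow (a * b) j).eq, ← mul_assoc]
    _ = a * (a * b) ^ (2 * j + 1) := by rw [dih_conj' ha hb, mul_assoc, ← pow_succ]

/-- two involutions are conjugate or commute with an involution of the group they generate -/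
theorem dih_cases [Finite G] (ha : a * a = 1) (hb : b * b = 1) :
    (∃ j : ℕ, (a * b) ^ j * a * ((a * b) ^ j)⁻¹ = b) ∨
      ∃ m : ℕ, 0 < m ∧ (a * b) ^ m ≠ 1 ∧ (a * b) ^ m * (a * b) ^ m = 1 ∧ (a * b) ^ m * a = a * (a * b) ^ m ∧
        (a * b) ^ m * b = b * (a * b) ^ m := by
  have hn := orderOf_pos (a * b)
  have h1 := pow_orderOf_eq_one (a * b)
  rcases Nat.even_or_odd (orderOf (a * b)) with ⟨m, hm⟩ | ⟨m, hm⟩
  · right
    have hz : (a * b) ^ m * (a * b) ^ m = 1 := by rw [← pow_add, ← hm, h1]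
    have hza : (a * b) ^ m * a = a * (a * b) ^ m := by
      rw [dih_flip ha hb, inv_eq_of_mul_eq_one_right hz]
    refine ⟨m, by omega, fun h => ?_, hz, hza, ?_⟩
    · have := orderOf_le_of_pow_eq_one (by omega) h
      omega
    · have hw : (a * b) ^ m * (a * b) = (a * b) * (a * b) ^ m := by rw [← pow_succ, ← pow_succ']
      rw [show b = a * (a * b) by rw [← mul_assoc, ha, one_mul], ← mul_assoc a a b, ha, one_mul]
      have : (a * b) ^ m * (a * (a * b)) = (a * (a * b)) * (a * b) ^ m := by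
        rw [← mul_assoc, hza, mul_assoc, hw, ← mul_assoc]
      rwa [← mul_assoc a a b, ha, one_mul] at this
  · left
    refine ⟨m, ?_⟩
    rw [dih_conj ha hb]
    have h2 : (a * b) ^ (2 * m) * (a * b) = 1 := by rw [← pow_succ, ← hm, h1]
    rw [eq_inv_of_mul_eq_one_left h2, dih_inv ha hb, mul_assoc, ha, mul_one]

end dihedral

variable {F A R ι κ : Type*} [Field F] [AddCommGroup A] [Module F A] [Ring R] [Algebra F R] [Fintype κ]
variable {T : Sys F A R ι κ} {H : Subgroup Rˣ}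

/-- two root elements of factors which do not commute -/
theorem IsPure.triple [Nontrivial R] {x y : R} (hx : IsPure T x) (hy : IsPure T y) (h : x * y ≠ y * x) :
    ∃ l : F, l ≠ 0 ∧ x * y * x = l • x := by
  obtain ⟨i, e, he, hee, a, ha, -, rfl⟩ := hx
  obtain ⟨j, v, hv, hvv, b, hb, -, rfl⟩ := hy
  have hij : i = j := by
    by_contra hne
    exact h (by simp only [smul_mul_smul, T.comm i j hne, mul_comm a b])
  subst hij
  refine ⟨a * b * (T.f v e * T.f e v), mul_ne_zero (mul_ne_zero ha hb) (mul_ne_zero ?_ ?_), ?_⟩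
  · intro h0
    exact h (by simp only [smul_mul_smul, T.mul, h0, T.perp_symm h0, zero_smul, smul_zero])
  · intro h0
    exact h (by simp only [smul_mul_smul, T.mul, h0, T.perp_symm h0, zero_smul, smul_zero])
  · simp only [smul_mul_assoc, mul_smul_comm, T.mul, smul_smul]
    congr 1
    ring

variable [Finite F] [Finite R] [Nontrivial R]

/-- a member carrying a factor into itself is a product of an operator of the factor and one commuting with it -/
theorem Grp.split (G : Grp T H) {i : ι} {e f₀ : A} (h : T.Hyp e f₀) {g : Rˣ} (hg : g ∈ H)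
    (hcar : Carries T g i i) : ∃ γ δ, γ ∈ T.phi i ∧ T.Cen i δ ∧ (g : R) = γ * δ := by
  classical
  have he := h.left_ne
  obtain ⟨a, ha, hσ⟩ := T.exists_skew
  have hp : IsPure T (a • T.E i e e) := ⟨i, e, he, h.ee, a, ha, hσ, rfl⟩
  have hm := hcar _ ((T.phi i).smul_mem a (T.E_mem_phi i e e))
  obtain ⟨e', he', -, b, hb, -, hgn⟩ := Sys.IsPure.of_mem_phi (G.pure_of_phi (hp.isRoot.conj hg) hm) hm
  rw [mul_smul_comm, smul_mul_assoc, ← eq_inv_smul_iff₀ ha, smul_smul] at hgn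
  obtain ⟨c₁, hc₁⟩ : ∃ c₁, c₁ = a⁻¹ * b := ⟨_, rfl⟩
  rw [← hc₁] at hgn
  obtain ⟨δ, hδd⟩ : ∃ δ, δ = T.blk i e' f₀ (g : R) := ⟨_, rfl⟩
  have hbase : ∀ u, T.blk i u e (g : R) = (c₁ * T.f e' u) • δ := by
    intro u
    have h0 : (g : R) * T.E i e e = c₁ • (T.E i e' e' * (g : R)) := by
      rw [← smul_mul_assoc, ← hgn, mul_assoc _ (↑g⁻¹ : R), Units.inv_mul, mul_one]
    have h1 := congrArg (T.blk i u f₀) h0
    rw [T.blk_mul_E he, T.blk_smul, T.blk_E_left he, h.fe, one_smul, ← hδd, smul_smul] at h1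
    exact h1
  have hline : ∀ u p, ∃ a : F, T.blk i u p (g : R) = a • δ := by
    intro u p
    have key : ∀ Φ ∈ T.phi i, ∃ a : F, T.blk i u e (Φ * (g : R)) = a • δ := by
      intro Φ hΦ
      induction hΦ using Submodule.span_induction with
      | mem x hx =>
        obtain ⟨⟨a, b⟩, rfl⟩ := hx
        exact ⟨T.f a u * (c₁ * T.f e' b), by rw [T.blk_E_left he, hbase, smul_smul]⟩
      | zero => exact ⟨0, by rw [zero_mul, T.blk_zero, zero_smul]⟩
      | add a b _ _ ha hb =>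
        obtain ⟨x, hx⟩ := ha
        obtain ⟨y, hy⟩ := hb
        exact ⟨x + y, by rw [add_mul, T.blk_add, hx, hy, add_smul]⟩
      | smul c a _ ha =>
        obtain ⟨x, hx⟩ := ha
        exact ⟨c * x, by rw [smul_mul_assoc, T.blk_smul, hx, smul_smul]⟩
    obtain ⟨a, ha⟩ := key _ (hcar _ (T.E_mem_phi i p f₀))
    rw [mul_assoc _ (↑g⁻¹ : R), Units.inv_mul, mul_one, T.blk_mul_E he, h.ef, one_smul] at ha
    exact ⟨a, ha⟩
  choose s₀ hs₀ using hline
  refine ⟨∑ l, ∑ m, s₀ (T.b' l) (T.b m) • T.E i (T.b l) (T.b' m), δ,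
    sum_mem fun l _ => sum_mem fun m _ => (T.phi i).smul_mem _ (T.E_mem_phi i _ _), hδd ▸ T.cen_blk _ _ _ _, ?_⟩
  calc (g : R) = (∑ l, T.E i (T.b l) (T.b' l)) * (g : R) * ∑ m, T.E i (T.b m) (T.b' m) := by
        rw [T.one, one_mul, mul_one]
    _ = _ := by
        rw [Finset.sum_mul, Finset.sum_mul, Finset.sum_mul]
        refine Finset.sum_congr rfl fun l _ => ?_
        rw [Finset.mul_sum, Finset.sum_mul]
        refine Finset.sum_congr rfl fun m _ => ?_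
        rw [← T.E_blk, hs₀, mul_smul_comm, smul_mul_assoc]

/-- an involution carrying a factor into itself commutes with a root element of the factor -/
theorem Grp.fixed_pure (G : Grp T H) (h2 : (2 : F) = 0) {i : ι} {e : A} (he : e ≠ 0) (hee : T.f e e = 0) {g : Rˣ}
    (hg : g ∈ H) (hgg : (g : R) * g = 1) (hcar : Carries T g i i) :
    ∃ y, IsPure T y ∧ y ∈ T.phi i ∧ (g : R) * y = y * (g : R) := by
  classical
  haveI : CharP F 2 := CharTwo.of_one_ne_zero_of_two_eq_zero one_ne_zero h2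
  have two : ∀ y : R, y + y = 0 := fun y => by rw [← two_smul F y, h2, zero_smul]
  obtain ⟨f₀, h⟩ := T.exists_hyp he hee
  obtain ⟨a, ha, hσ⟩ := T.exists_skew
  have inj : ∀ a b : F, a • (1 : R) = b • 1 → a = b := fun a b h => smul_left_injective F one_ne_zero h
  obtain ⟨γ, δ, hγ, hδ, hgγ⟩ := G.split h hg hcar
  choose t ht using T.blk_phi (T.mul_mem_phi hγ hγ) (i := i)
  have key : ∀ u v, t u v • (δ * δ) = T.f v u • (1 : R) := fun u v => by
    have h1 := congrArg (T.blk i u v) hgg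
    rw [T.blk_cen (T.cen_one i), hgγ, mul_assoc γ δ, ← mul_assoc δ γ, T.phi_comm_cen hγ hδ, mul_assoc γ δ δ,
      ← mul_assoc, T.blk_mul_cen (hδ.mul hδ), ht, smul_mul_assoc, one_mul] at h1
    exact h1
  have h0 := key f₀ e
  rw [h.ef, one_smul] at h0
  have ht0 : t f₀ e ≠ 0 := fun e1 => one_ne_zero (α := R) (by rw [← h0, e1, zero_smul])
  obtain ⟨ν, hν⟩ : ∃ ν : F, δ * δ = ν • (1 : R) := ⟨(t f₀ e)⁻¹, by rw [← h0, inv_smul_smul₀ ht0]⟩
  obtain ⟨μ, hμ⟩ := FiniteField.isSquare_of_char_two (ringChar.eq F 2) ν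
  have hμ0 : μ ≠ 0 := by
    rintro rfl
    rw [hν, hμ, mul_zero, zero_smul, smul_zero] at h0
    exact zero_ne_one h0
  obtain ⟨δ₁, hδ₁⟩ : ∃ δ₁, δ₁ = μ⁻¹ • δ := ⟨_, rfl⟩
  obtain ⟨γ₁, hγ₁⟩ : ∃ γ₁, γ₁ = μ • γ := ⟨_, rfl⟩
  have hδ₁c : T.Cen i δ₁ := hδ₁ ▸ hδ.smul _
  have hγ₁m : γ₁ ∈ T.phi i := hγ₁ ▸ (T.phi i).smul_mem _ hγ
  have hg₁ : (g : R) = γ₁ * δ₁ := by
    rw [hγ₁, hδ₁, smul_mul_smul, mul_inv_cancel₀ hμ0, one_smul, hgγ]
  have hδsq : δ₁ * δ₁ = 1 := by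
    rw [hδ₁, smul_mul_smul, hν, smul_smul, hμ]
    field_simp
    rw [one_smul]
  have hγsq : γ₁ * γ₁ = 1 := by
    have h1 := hgg
    rw [hg₁, mul_assoc γ₁ δ₁, ← mul_assoc δ₁ γ₁, T.phi_comm_cen hγ₁m hδ₁c, mul_assoc γ₁ δ₁ δ₁, hδsq, mul_one] at h1
    exact h1
  -- self-adjoint
  have hadg : T.ad (g : R) = g := by rw [← G.inv_eq hg, Units.inv_eq_of_mul_eq_one_right hgg]
  choose s hs using T.blk_phi hγ₁m (i := i)
  choose s' hs' using T.blk_phi (T.ad_mem_phi hγ₁m) (i := i)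
  have hprod : ∀ u v, s' u v • T.ad δ₁ = s u v • δ₁ := fun u v => by
    have h1 := congrArg (T.blk i u v) hadg
    rw [hg₁, T.ad_mul, T.phi_comm_cen (T.ad_mem_phi hγ₁m) hδ₁c.ad, T.blk_mul_cen hδ₁c.ad, T.blk_mul_cen hδ₁c,
      hs', hs, smul_mul_assoc, smul_mul_assoc, one_mul, one_mul] at h1
    exact h1
  have hadγsq : T.ad γ₁ * T.ad γ₁ = 1 := by rw [← T.ad_mul, hγsq, T.ad_one]
  obtain ⟨u₀, v₀, huv⟩ : ∃ u v, s' u v ≠ 0 := by
    by_contra hc
    simp only [not_exists, not_not] at hc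
    have : T.ad γ₁ = 0 := T.eq_zero_of_blk i fun u v => by rw [hs', hc, zero_smul]
    rw [this, mul_zero] at hadγsq
    exact zero_ne_one hadγsq
  obtain ⟨c, hc⟩ : ∃ c, T.ad δ₁ = c • δ₁ :=
    ⟨(s' u₀ v₀)⁻¹ * s u₀ v₀, by rw [← smul_smul, ← hprod, inv_smul_smul₀ huv]⟩
  have hc1 : c = 1 := by
    have h1 := congrArg T.ad hδsq
    rw [T.ad_mul, T.ad_one, hc, smul_mul_smul, hδsq] at h1
    have h1' : c * c = 1 := inj _ _ (by rw [h1, one_smul])
    rcases mul_self_eq_one_iff.1 h1' with e1 | e1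
    · exact e1
    · rw [e1]
      exact neg_eq_of_add_eq_zero_left (by rw [one_add_one_eq_two, h2])
  rw [hc1, one_smul] at hc
  have hadγ : T.ad γ₁ = γ₁ := by
    have h1 := hadg
    rw [hg₁, T.ad_mul, hc, T.phi_comm_cen (T.ad_mem_phi hγ₁m) hδ₁c] at h1
    have h2' := congrArg (fun x => x * δ₁) h1
    simpa [mul_assoc, hδsq] using h2'
  obtain ⟨φ, hφd⟩ : ∃ φ, φ = γ₁ + 1 := ⟨_, rfl⟩
  have hφ : φ ∈ T.phi i := hφd ▸ add_mem hγ₁m (T.one_mem_phi i)
  have hadφ : T.ad φ = φ := by rw [hφd, map_add, hadγ, T.ad_one]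
  have hφφ : φ * φ = 0 := by
    rw [hφd, mul_add, add_mul, mul_one, one_mul, hγsq, add_comm 1 γ₁, two]
  have hcomm : ∀ y ∈ T.phi i, φ * y = 0 → y * φ = 0 → (g : R) * y = y * (g : R) := by
    intro y hy h1 h1'
    have e1 : γ₁ * y = -y := by rw [hφd, add_mul, one_mul] at h1; exact eq_neg_of_add_eq_zero_left h1
    have e2 : y * γ₁ = -y := by rw [hφd, mul_add, mul_one] at h1'; exact eq_neg_of_add_eq_zero_left h1'
    rw [hg₁, mul_assoc, T.phi_comm_cen hy hδ₁c, ← mul_assoc, e1, ← mul_assoc, e2]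
  have hmem : ∀ v, a • T.E i v v ∈ T.phi i := fun v => (T.phi i).smul_mem a (T.E_mem_phi i v v)
  by_cases hφ0 : φ = 0
  · exact ⟨a • T.E i e e, ⟨i, e, he, hee, a, ha, hσ, rfl⟩, hmem e,
      hcomm _ (hmem e) (by rw [hφ0, zero_mul]) (by rw [hφ0, mul_zero])⟩
  choose r hr using T.blk_phi hφ (i := i)
  obtain ⟨L, hL⟩ : ∃ L : A → A, ∀ p q, φ * T.E i p q = T.E i (L p) q := by
    refine ⟨fun p => ∑ l, r (T.b' l) p • T.b l, fun p q => ?_⟩
    calc φ * T.E i p q = (∑ l, T.E i (T.b l) (T.b' l)) * φ * T.E i p q := by rw [T.one, one_mul]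
      _ = _ := by
        rw [Finset.sum_mul, Finset.sum_mul, map_sum, LinearMap.sum_apply]
        refine Finset.sum_congr rfl fun l _ => ?_
        rw [← T.E_blk, hr, mul_smul_comm, mul_one, map_smul, LinearMap.smul_apply]
  obtain ⟨p, hp⟩ : ∃ p, L p ≠ 0 := by
    by_contra hall
    simp only [not_exists, not_not] at hall
    refine hφ0 ?_
    rw [← mul_one φ, ← T.one i, Finset.mul_sum]
    exact Finset.sum_eq_zero fun l _ => by rw [hL, hall, map_zero, LinearMap.zero_apply]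
  have hpp : T.f (L p) (L p) = 0 := by
    have h1 : T.ad (φ * T.E i p e) * (φ * T.E i p e) = 0 := by
      rw [T.ad_mul, hadφ, mul_assoc, ← mul_assoc φ φ, hφφ, zero_mul, mul_zero]
    rw [hL, T.ad_E, T.mul, smul_eq_zero] at h1
    exact h1.resolve_right (T.E_ne_zero i he he)
  have hk : φ * T.E i (L p) (L p) = 0 := by rw [← hL, ← mul_assoc, hφφ, zero_mul]
  have hk' : T.E i (L p) (L p) * φ = 0 := by
    have := congrArg T.ad hk
    rwa [T.ad_mul, T.ad_E, hadφ, map_zero] at this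
  exact ⟨a • T.E i (L p) (L p), ⟨i, L p, hp, hpp, a, ha, hσ, rfl⟩, hmem _,
    hcomm _ (hmem _) (by rw [mul_smul_comm, hk, smul_zero]) (by rw [smul_mul_assoc, hk', smul_zero])⟩

/-- a root element is the product of four others commuting with it -/
theorem Sys.exists_four (T : Sys F A R ι κ) (hk : T.Big ∨ 4 < Nat.card F) (h2 : (2 : F) = 0) {i : ι} {x : R}
    (hx : IsPure T x) (hxi : x ∈ T.phi i) :
    ∃ y : Fin 4 → R, (∀ r, IsPure T (y r) ∧ y r ∈ T.phi i ∧ y r ≠ x ∧ y r * x = x * y r) ∧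
      (1 + y 0) * (1 + y 1) * (1 + y 2) * (1 + y 3) = 1 + x := by
  classical
  obtain ⟨e, he, hee, a, ha, hσ, rfl⟩ := Sys.IsPure.of_mem_phi hx hxi
  have hneg : ∀ c : F, -c = c := fun c => neg_eq_of_add_eq_zero_left (by rw [← two_mul, h2, zero_mul])
  have hzz : T.E i e e * T.E i e e = 0 := T.n_mul_self i hee
  by_cases hq : ∃ ν : F, ν ≠ 0 ∧ ν ≠ 1 ∧ T.σ ν = ν
  · obtain ⟨ν, h0, h1, hν⟩ := hq
    obtain ⟨y₁, hy₁⟩ : ∃ y, y = (ν * a) • T.E i e e := ⟨_, rfl⟩
    obtain ⟨y₂, hy₂⟩ : ∃ y, y = ((ν + 1) * a) • T.E i e e := ⟨_, rfl⟩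
    have h1' : ν + 1 ≠ 0 := fun e1 => h1 ((eq_neg_of_add_eq_zero_left e1).trans (hneg 1))
    have inj : ∀ c d : F, c • T.E i e e = d • T.E i e e → c = d := fun c d h =>
      smul_left_injective F (T.E_ne_zero i he he) h
    have p1 : IsPure T y₁ ∧ y₁ ∈ T.phi i ∧ y₁ ≠ a • T.E i e e ∧ y₁ * (a • T.E i e e) = a • T.E i e e * y₁ :=
      ⟨⟨i, e, he, hee, _, mul_ne_zero h0 ha, by rw [map_mul, hν, hσ, mul_neg], hy₁⟩,
        hy₁ ▸ (T.phi i).smul_mem _ (T.E_mem_phi i e e),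
        fun e1 => h1 (mul_right_cancel₀ ha ((inj _ _ (hy₁ ▸ e1)).trans (one_mul a).symm)),
        by rw [hy₁, smul_mul_smul, smul_mul_smul, hzz, smul_zero, smul_zero]⟩
    have p2 : IsPure T y₂ ∧ y₂ ∈ T.phi i ∧ y₂ ≠ a • T.E i e e ∧ y₂ * (a • T.E i e e) = a • T.E i e e * y₂ :=
      ⟨⟨i, e, he, hee, _, mul_ne_zero h1' ha, by rw [map_mul, map_add, map_one, hν, hσ, mul_neg], hy₂⟩,
        hy₂ ▸ (T.phi i).smul_mem _ (T.E_mem_phi i e e),
        fun e1 => h0 (add_eq_right.1 (mul_right_cancel₀ ha ((inj _ _ (hy₂ ▸ e1)).trans (one_mul a).symm))),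
        by rw [hy₂, smul_mul_smul, smul_mul_smul, hzz, smul_zero, smul_zero]⟩
    refine ⟨![y₁, y₂, y₁, y₁], fun r => by fin_cases r <;> assumption, ?_⟩
    show (1 + y₁) * (1 + y₂) * (1 + y₁) * (1 + y₁) = _
    have hsum : ∀ c d : F, (1 + c • T.E i e e) * (1 + d • T.E i e e) = 1 + (c + d) • T.E i e e := fun c d => by
      simp only [mul_add, add_mul, one_mul, mul_one, smul_mul_smul, hzz, smul_zero, add_zero]
      module
    rw [hy₁, hy₂, hsum, hsum, hsum]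
    congr 2
    linear_combination (2 * ν * a) * h2
  -- the field of four elements
  simp only [not_exists, not_and] at hq
  have hfix : ∀ c : F, T.σ c = c → c = 0 ∨ c = 1 := fun c hc => by
    by_contra hcon
    rw [not_or] at hcon
    exact hq c hcon.1 hcon.2 hc
  have hB : T.Big := hk.resolve_right fun h4 => by
    obtain ⟨l, hl, hl1⟩ := T.exists_norm_ne_one h4
    exact hq (T.σ l * l) (mul_ne_zero (T.σ_ne_zero.2 hl) hl) hl1 (by rw [map_mul, T.σσ, mul_comm])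
  obtain ⟨ω, hω⟩ := T.σ_ne
  have hω0 : ω ≠ 0 := fun e1 => hω (by rw [e1, map_zero])
  have hsum : ω + T.σ ω = 1 := by
    rcases hfix (ω + T.σ ω) (by rw [map_add, T.σσ, add_comm]) with e1 | e1
    · exact absurd ((eq_neg_of_add_eq_zero_right e1).trans (hneg ω)) hω
    · exact e1
  have hnorm : ω * T.σ ω = 1 :=
    (hfix (ω * T.σ ω) (by rw [map_mul, T.σσ, mul_comm])).resolve_left (mul_ne_zero hω0 (T.σ_ne_zero.2 hω0))
  obtain ⟨f₀, h⟩ := T.exists_hyp he hee
  obtain ⟨w, hw0, hww, hwe, hwf⟩ := hB e f₀ h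
  have hew := T.perp_symm hwe
  obtain ⟨w'', hw''⟩ := T.exists_f_eq_one hw0
  obtain ⟨w', hwd⟩ : ∃ w', w' = T.proj e f₀ w'' := ⟨_, rfl⟩
  have hew' : T.f e w' = 0 := T.perp_symm (hwd ▸ h.proj_e w'')
  have hww' : T.f w w' = 1 := by
    rw [hwd, T.proj_apply]
    simp [hw'', hwe, hwf]
  -- the vectors `d • e + c • w`
  obtain ⟨d, hd⟩ : ∃ d : Fin 4 → F, d = ![1, 1, 1, 0] := ⟨_, rfl⟩
  obtain ⟨c, hc⟩ : ∃ c : Fin 4 → F, c = ![1, ω, T.σ ω, 1] := ⟨_, rfl⟩
  obtain ⟨v, hv⟩ : ∃ v : Fin 4 → A, ∀ r, v r = d r • e + c r • w := ⟨_, fun r => rfl⟩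
  have hc0 : ∀ r, c r ≠ 0 := fun r => by
    rw [hc]; fin_cases r <;> simp [hω0]
  have hvv : ∀ r s, T.f (v r) (v s) = 0 := fun r s => by simp [hv, hee, hww, hwe, hew]
  have hev : ∀ r, T.f e (v r) = 0 := fun r => by simp [hv, hee, hew]
  have hvw : ∀ r, T.f (v r) w' = c r := fun r => by simp [hv, hew', hww']
  have hne : ∀ r, a • T.E i (v r) (v r) ≠ a • T.E i e e := fun r e1 => by
    have h1 := congrArg (fun z => T.blk i w' w' (z * 1)) (smul_right_injective R ha e1)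
    simp only [T.blk_E_mul (T.cen_one i), hew', hvw, zero_mul, zero_smul] at h1
    rw [← T.herm (v r) w', hvw] at h1
    exact (smul_eq_zero.1 h1).elim (mul_ne_zero (hc0 r) (T.σ_ne_zero.2 (hc0 r))) one_ne_zero
  have hp : ∀ r, IsPure T (a • T.E i (v r) (v r)) := fun r => by
    refine ⟨i, v r, fun e0 => hc0 r ?_, hvv r r, a, ha, hσ, rfl⟩
    rw [← hvw, e0, map_zero, LinearMap.zero_apply]
  refine ⟨fun r => a • T.E i (v r) (v r), fun r => ⟨hp r, (T.phi i).smul_mem _ (T.E_mem_phi i _ _), hne r, ?_⟩, ?_⟩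
  · simp only [smul_mul_assoc, mul_smul_comm, T.mul, hev r, T.perp_symm (hev r), zero_smul, smul_zero]
  have hmul : ∀ r s, (a • T.E i (v r) (v r)) * (a • T.E i (v s) (v s)) = 0 := fun r s => by
    rw [smul_mul_smul_comm, T.mul, hvv, zero_smul, smul_zero]
  have e1 : (1 + a • T.E i (v 0) (v 0)) * (1 + a • T.E i (v 1) (v 1)) * (1 + a • T.E i (v 2) (v 2)) *
      (1 + a • T.E i (v 3) (v 3)) =
      1 + a • (T.E i (v 0) (v 0) + T.E i (v 1) (v 1) + T.E i (v 2) (v 2) + T.E i (v 3) (v 3)) := by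
    simp only [add_mul, mul_add, one_mul, mul_one, hmul, add_zero, smul_add]
    abel
  rw [e1]
  congr 2
  have h11 : (1 : F) + 1 = 0 := by rw [one_add_one_eq_two, h2]
  simp only [hv, hd, hc, Matrix.cons_val_zero, Matrix.cons_val_one, Matrix.cons_val, map_add, map_smul, map_smulₛₗ,
    LinearMap.add_apply, LinearMap.smul_apply, map_one, map_zero, T.σσ, RingHom.id_apply]
  match_scalars
  · linear_combination h11
  · linear_combination hsum + h11
  · linear_combination hsum + h11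
  · linear_combination 2 * hnorm + 2 * h2

end CfsgLib.MaxSub.SuPow
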