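import Cfsg.Agent.Lib.MaxSub.SuPow.TwoBase

/-!
Tensor powers of a Hermitian space, characteristic two: a root living in a set of factors is pure, provided the roots
living in smaller sets are.  The involutions of the dihedral groups generated by a root and a root element, or by a
root and a product of root elements of two factors, are compared.
-/

set_option autoImplicit false
set_option linter.unusedSectionVars false

namespace CfsgLib.MaxSub.SuPow

open CfsgLib.MaxSub.SpPow (InH inv_one_add)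

variable {F A R ι κ : Type*} [Field F] [AddCommGroup A] [Module F A] [Ring R] [Algebra F R] [Fintype κ]

namespace Two

/-- `u` is a root element of the factor `k` -/
def At (T : Sys F A R ι κ) (k : ι) (u : Rˣ) : Prop := ∃ x, IsPure T x ∧ x ∈ T.phi k ∧ (u : R) = 1 + x

/-- `u` is a root element of a factor in `S` -/
def PU (T : Sys F A R ι κ) (S : Finset ι) (u : Rˣ) : Prop := ∃ x, IsPure T x ∧ T.Off S x ∧ (u : R) = 1 + x

/-- `u` is a root element living in `S` -/
def DU (T : Sys F A R ι κ) (H : Subgroup Rˣ) (S : Finset ι) (u : Rˣ) : Prop :=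
  ∃ x, IsRoot T H x ∧ T.Off S x ∧ (u : R) = 1 + x

/-- the members living in `S` -/
def K (T : Sys F A R ι κ) (H : Subgroup Rˣ) (S : Finset ι) : Subgroup Rˣ where
  carrier := {g | g ∈ H ∧ T.Off S (g : R)}
  mul_mem' := fun ha hb => ⟨mul_mem ha.1 hb.1, by rw [Units.val_mul]; exact ha.2.mul hb.2⟩
  one_mem' := ⟨one_mem H, by rw [Units.val_one]; exact T.off_one S⟩
  inv_mem' := fun ha => ⟨inv_mem ha.1, ha.2.inv⟩

/-- the assumptions of the step -/
structure Ctx [Finite F] [Finite R] (T : Sys F A R ι κ) (H : Subgroup Rˣ) (S : Finset ι) : Prop where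
  G : Grp T H
  Z : Ctr T H
  hw : T.Wide
  hk : T.Big ∨ 4 < Nat.card F
  h2 : (2 : F) = 0
  L : Low T H S
  hne : S.Nonempty
  he : ∃ e : A, e ≠ 0 ∧ T.f e e = 0
  two : ∀ i ∈ S, ∃ j ∈ S, j ≠ i

variable {T : Sys F A R ι κ} {H : Subgroup Rˣ} {S : Finset ι}

theorem add_self (h2 : (2 : F) = 0) (x : R) : x + x = 0 := by rw [← two_smul F x, h2, zero_smul]

theorem eq_one_of_sq (h2 : (2 : F) = 0) {s : F} (h : s * s = 1) : s = 1 := by
  rcases mul_self_eq_one_iff.1 h with e1 | e1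
  · exact e1
  · rw [e1]
    exact neg_eq_of_add_eq_zero_left (by rw [one_add_one_eq_two, h2])

theorem PU.du {u : Rˣ} (h : PU T S u) : DU T H S u := let ⟨x, h1, h2, h3⟩ := h; ⟨x, h1.isRoot, h2, h3⟩

theorem At.pu {u : Rˣ} {k : ι} (h : At T k u) (hk : k ∈ S) : PU T S u :=
  let ⟨x, h1, h2, h3⟩ := h; ⟨x, h1, T.off_of_phi hk h2, h3⟩

theorem PU.slot [Nontrivial R] {u : Rˣ} (h : PU T S u) : ∃ k ∈ S, At T k u := by
  obtain ⟨x, hx, hS, hu⟩ := h
  obtain ⟨k, hk, e, he, hee, a, ha, hσ, rfl⟩ := hx.factor hS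
  exact ⟨k, hk, _, hx, (T.phi k).smul_mem a (T.E_mem_phi k e e), hu⟩

theorem At.mem_phi {u : Rˣ} {k : ι} (h : At T k u) : (u : R) ∈ T.phi k := by
  obtain ⟨x, -, hx, hu⟩ := h
  exact hu ▸ add_mem (T.one_mem_phi k) hx

theorem At.ne_one [Nontrivial R] {u : Rˣ} {k : ι} (h : At T k u) : u ≠ 1 := by
  obtain ⟨x, hx, -, hu⟩ := h
  rintro rfl
  exact hx.ne_zero (left_eq_add.1 (Units.val_one.symm.trans hu))

theorem DU.sq (h2 : (2 : F) = 0) {u : Rˣ} (h : DU T H S u) : u * u = 1 := by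
  obtain ⟨x, hx, -, hu⟩ := h
  refine Units.ext ?_
  rw [Units.val_mul, Units.val_one, hu]
  simp only [add_mul, mul_add, one_mul, mul_one, hx.sq, add_zero]
  rw [add_assoc, add_self h2, add_zero]

theorem At.sq (h2 : (2 : F) = 0) {u : Rˣ} {k : ι} (h : At T k u) : u * u = 1 := by
  obtain ⟨x, hx, -, hu⟩ := h
  refine Units.ext ?_
  rw [Units.val_mul, Units.val_one, hu]
  simp only [add_mul, mul_add, one_mul, mul_one, hx.sq, add_zero]
  rw [add_assoc, add_self h2, add_zero]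

theorem DU.mem_K (G : Grp T H) {u : Rˣ} (h : DU T H S u) : u ∈ K T H S := by
  obtain ⟨x, hx, hS, hu⟩ := h
  obtain ⟨g, hg, hgx⟩ := hx.mem G
  exact ⟨(Units.ext (hgx.trans hu.symm) : g = u) ▸ hg, hu ▸ (T.off_one S).add hS⟩

theorem DU.conj {u g : Rˣ} (h : DU T H S u) (hg : g ∈ K T H S) : DU T H S (g * u * g⁻¹) := by
  obtain ⟨x, hx, hS, hu⟩ := h
  refine ⟨_, hx.conj hg.1, hg.2.conj hS, ?_⟩
  rw [Units.val_mul, Units.val_mul, hu, mul_add, mul_one, add_mul, Units.mul_inv]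

theorem inv_cen {k : ι} {g : Rˣ} (h : T.Cen k (g : R)) : T.Cen k (↑g⁻¹ : R) := fun u v =>
  (Commute.units_inv_left (h u v : Commute (g : R) (T.E k u v))).eq

theorem At.cen {u : Rˣ} {k l : ι} (h : At T k u) (hl : l ≠ k) : T.Cen l (u : R) :=
  T.cen_of_phi_ne hl h.mem_phi

theorem At.comm {a b : Rˣ} {k l : ι} (ha : At T k a) (hb : At T l b) (hkl : k ≠ l) : a * b = b * a :=
  Units.ext (T.phi_comm_cen ha.mem_phi (hb.cen hkl)).symm

/-- two commuting or distant root elements of factors -/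
theorem pair4 [Nontrivial R] (h2 : (2 : F) = 0) {x y : R} (hx : IsPure T x) (hy : IsPure T y)
    (h4 : ((1 + x) * (1 + y)) * ((1 + x) * (1 + y)) = ((1 + y) * (1 + x)) * ((1 + y) * (1 + x))) :
    x * y = y * x := by
  by_contra h
  obtain ⟨l, hl, hxyx⟩ := hx.triple hy h
  obtain ⟨l', -, hyxy⟩ := hy.triple hx fun e => h e.symm
  have hxy : x * y ≠ 0 := fun e => smul_ne_zero hl hx.ne_zero (by rw [← hxyx, e, zero_mul])
  have hll : l = l' := smul_left_injective F hxy (by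
    show l • (x * y) = l' • (x * y)
    rw [← smul_mul_assoc, ← hxyx, mul_assoc (x * y) x y, ← mul_smul_comm, ← hyxy]
    simp only [mul_assoc])
  subst hll
  refine h (sub_eq_zero.1 ((smul_eq_zero.1 (?_ : l • (x * y - y * x) = 0)).resolve_left hl))
  have e1 : x * (y * x) = l • x := by rw [← mul_assoc]; exact hxyx
  have e2 : y * (x * y) = l • y := by rw [← mul_assoc]; exact hyxy
  have k1 : ∀ z : R, x * (x * z) = 0 := fun z => by rw [← mul_assoc, hx.sq, zero_mul]
  have k2 : ∀ z : R, y * (y * z) = 0 := fun z => by rw [← mul_assoc, hy.sq, zero_mul]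
  have k3 : ∀ z : R, x * (y * (x * z)) = l • (x * z) := fun z => by
    rw [← mul_assoc y, ← mul_assoc x, e1, smul_mul_assoc]
  have k4 : ∀ z : R, y * (x * (y * z)) = l • (y * z) := fun z => by
    rw [← mul_assoc x, ← mul_assoc y, e2, smul_mul_assoc]
  simp only [add_mul, mul_add, one_mul, mul_one, mul_assoc, hx.sq, hy.sq, mul_zero, zero_mul, k1, k2, k3, k4, e1,
    e2, add_zero, zero_add, smul_zero, mul_smul_comm] at h4
  have h4' := sub_eq_zero.2 h4
  rw [smul_sub]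
  linear_combination (norm := abel) h4' - add_self h2 (x * y - y * x)

variable [Finite F] [Finite R] [Nontrivial R]

theorem Ctx.not_cen (C : Ctx T H S) {k : ι} {v : Rˣ} (hv : (v : R) ∈ T.phi k) (hvv : v * v = 1) (h1 : v ≠ 1) :
    ¬ T.Cen k (v : R) := fun hc => by
  obtain ⟨e, he, -⟩ := C.he
  obtain ⟨w, hw⟩ := T.exists_f_eq_one he
  obtain ⟨s, hs⟩ := T.blk_phi hv w e
  rw [T.blk_cen hc, hw, one_smul] at hs
  have h := congrArg Units.val hvv
  rw [Units.val_mul, Units.val_one, hs, smul_mul_smul_comm, one_mul] at h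
  have : s * s = 1 := smul_left_injective F (one_ne_zero (α := R)) (by simpa using h)
  exact h1 (Units.ext (by rw [hs, eq_one_of_sq C.h2 this, one_smul, Units.val_one]))

theorem Ctx.at_not_cen (C : Ctx T H S) {k : ι} {u : Rˣ} (h : At T k u) : ¬ T.Cen k (u : R) :=
  C.not_cen h.mem_phi (h.sq C.h2) h.ne_one

theorem Ctx.cen_pair (C : Ctx T H S) {i j : ι} {a r : Rˣ} (ha : At T i a) (hr : At T j r) (hij : i ≠ j) :
    ¬ T.Cen i ((a * r : Rˣ) : R) ∧ ¬ T.Cen j ((a * r : Rˣ) : R) := by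
  constructor
  · intro hc
    refine C.at_not_cen ha ?_
    have := hc.mul (inv_cen (hr.cen hij))
    rwa [← Units.val_mul, mul_inv_cancel_right] at this
  · intro hc
    refine C.at_not_cen hr ?_
    have := (inv_cen (ha.cen (Ne.symm hij))).mul hc
    rwa [← Units.val_mul, inv_mul_cancel_left] at this

/-- the pieces of a product over two factors -/
theorem Ctx.cross_unique (C : Ctx T H S) {i j k l : ι} {a r p q : Rˣ} (ha : At T i a) (hr : At T j r) (hij : i ≠ j)
    (hp : At T k p) (hq : At T l q) (h : p * q = a * r) : p = a ∨ p = r := by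
  obtain ⟨n1, n2⟩ := C.cen_pair ha hr hij
  have other : ∀ m, m ≠ k → m ≠ l → T.Cen m ((a * r : Rˣ) : R) := fun m h1 h2 => by
    rw [← h, Units.val_mul]
    exact (hp.cen h1).mul (hq.cen h2)
  obtain ⟨e, he, -⟩ := C.he
  obtain ⟨w, hw⟩ := T.exists_f_eq_one he
  have piece : ∀ {p q : Rˣ}, At T i p → At T j q → p * q = a * r → p = a := by
    intro p q hp hq h
    have e1 : a * p = r * q := by
      have := congrArg (fun t => a * t * q) h
      simp only [mul_assoc, hq.sq C.h2, mul_one] at this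
      rwa [← mul_assoc a a, ha.sq C.h2, one_mul] at this
    obtain ⟨s, hs⟩ := T.blk_phi (T.mul_mem_phi ha.mem_phi hp.mem_phi) w e
    rw [← Units.val_mul, e1, Units.val_mul, T.blk_cen ((hr.cen hij).mul (hq.cen hij)), hw, one_smul,
      ← Units.val_mul, ← e1, Units.val_mul] at hs
    have e2 : (p : R) = s • (a : R) := by
      have := congrArg (fun t => (a : R) * t) hs
      rwa [← mul_assoc, ← Units.val_mul, ha.sq C.h2, Units.val_one, one_mul, mul_smul_comm, mul_one] at this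
    have e3 := congrArg Units.val (hp.sq C.h2)
    rw [Units.val_mul, Units.val_one, e2, smul_mul_smul_comm, ← Units.val_mul, ha.sq C.h2, Units.val_one] at e3
    have : s * s = 1 := smul_left_injective F (one_ne_zero (α := R)) (by simpa using e3)
    exact Units.ext (by rw [e2, eq_one_of_sq C.h2 this, one_smul])
  have hi : i = k ∨ i = l := by
    by_contra hc
    rw [not_or] at hc
    exact n1 (other i hc.1 hc.2)
  have hj : j = k ∨ j = l := by
    by_contra hc
    rw [not_or] at hc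
    exact n2 (other j hc.1 hc.2)
  rcases hi with rfl | rfl
  · obtain rfl := hj.resolve_left (Ne.symm hij)
    exact Or.inl (piece hp hq h)
  · obtain rfl := hj.resolve_right (Ne.symm hij)
    rw [hp.comm hq (Ne.symm hij)] at h
    have := piece hq hp h
    rw [this] at h
    exact Or.inr (mul_left_cancel h)

theorem Ctx.cross_not_at (C : Ctx T H S) {i j k : ι} {a r : Rˣ} (ha : At T i a) (hr : At T j r) (hij : i ≠ j) :
    ¬ ((a * r : Rˣ) : R) ∈ T.phi k := by
  intro hm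
  obtain ⟨n1, n2⟩ := C.cen_pair ha hr hij
  rcases ne_or_eq i k with h | rfl
  · exact n1 (T.cen_of_phi_ne h hm)
  · exact n2 (T.cen_of_phi_ne (Ne.symm hij) hm)

theorem Ctx.cross_ne_pu (C : Ctx T H S) {i j : ι} {a r : Rˣ} (ha : At T i a) (hr : At T j r) (hij : i ≠ j) :
    ¬ PU T S (a * r) := fun h =>
  let ⟨_, _, hk⟩ := h.slot
  C.cross_not_at ha hr hij hk.mem_phi

theorem Ctx.pu_of_comm (C : Ctx T H S) {a b : Rˣ} (ha : PU T S a) (hb : DU T H S b) (h : a * b = b * a) :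
    PU T S b := by
  obtain ⟨x, hx, hxS, hax⟩ := ha
  obtain ⟨y, hy, hyS, hby⟩ := hb
  refine ⟨y, C.G.pure_of_commute C.Z C.hw C.hk C.L hx hxS hy hyS ?_, hyS, hby⟩
  have h1 := congrArg Units.val h
  simp only [Units.val_mul, hax, hby, add_mul, mul_add, one_mul, mul_one] at h1
  rw [← sub_eq_zero] at h1 ⊢
  rw [← h1]
  abel

theorem Ctx.good (C : Ctx T H S) {g a : Rˣ} (hg : g ∈ K T H S) (ha : PU T S a) (himg : PU T S (g * a * g⁻¹)) :
    Good T H S g := by
  obtain ⟨x, hx, hxS, hax⟩ := ha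
  obtain ⟨y, hy, -, hgy⟩ := himg
  refine C.G.good_of_image C.Z C.hw C.hk C.L hg.1 hg.2 hx hxS ?_
  rw [Units.val_mul, Units.val_mul, hax, mul_add, mul_one, add_mul, Units.mul_inv, add_right_inj] at hgy
  rwa [hgy]

theorem Ctx.good_self (C : Ctx T H S) {a : Rˣ} (ha : PU T S a) : Good T H S a :=
  C.good (ha.du.mem_K C.G) ha (by rwa [mul_inv_cancel_right])

theorem Ctx.conj_at (C : Ctx T H S) {g a : Rˣ} {k : ι} (hg : Good T H S g) (ha : At T k a) (hk : k ∈ S) :
    ∃ k' ∈ S, Carries T g k k' ∧ At T k' (g * a * g⁻¹) := by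
  obtain ⟨x, hx, hxm, hax⟩ := ha
  obtain ⟨k', hk', hc⟩ := hg.2.2 k hk
  refine ⟨k', hk', hc, _, C.G.pure_of_phi (hx.isRoot.conj hg.1) (hc x hxm), hc x hxm, ?_⟩
  rw [Units.val_mul, Units.val_mul, hax, mul_add, mul_one, add_mul, Units.mul_inv]

theorem Ctx.conj_pu (C : Ctx T H S) {g a : Rˣ} (hg : Good T H S g) (ha : PU T S a) : PU T S (g * a * g⁻¹) :=
  let ⟨_, hk, hk'⟩ := ha.slot
  let ⟨_, hk'', _, h⟩ := C.conj_at hg hk' hk
  h.pu hk''

variable [Fintype ι]

theorem Ctx.pu_of_good (C : Ctx T H S) {b : Rˣ} (hb : DU T H S b) (hg : Good T H S b) : PU T S b := by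
  obtain ⟨x, hx, hxS, hbx⟩ := hb
  obtain ⟨i, hi⟩ := C.hne
  exact ⟨x, C.G.pure_of_good C.Z C.hw C.hk C.L hi hx hxS hg hbx, hxS, hbx⟩

/-- the involution of a dihedral group of a root element and a root which is not pure -/
theorem Ctx.odd_half (C : Ctx T H S) {a b : Rˣ} (ha : PU T S a) (hb : DU T H S b) (hb' : ¬ PU T S b) {m : ℕ}
    (hz1 : (a * b) ^ m ≠ 1) (hzz : (a * b) ^ m * (a * b) ^ m = 1) (hza : (a * b) ^ m * a = a * (a * b) ^ m) :
    ∃ j, m = 2 * j + 1 ∧ a * (a * b) ^ m = ((a * b) ^ j)⁻¹ * b * (a * b) ^ j ∧ PU T S (a * (a * b) ^ m) ∧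
      DU T H S (b * (a * b) ^ m) := by
  have haa := ha.du (H := H) |>.sq C.h2
  have hbb := hb.sq C.h2
  have hw : a * b ∈ K T H S := mul_mem (ha.du.mem_K C.G) (hb.mem_K C.G)
  rcases Nat.even_or_odd' m with ⟨k, rfl | rfl⟩
  · exfalso
    obtain ⟨g, hg⟩ : ∃ g, g = (a * b) ^ k := ⟨_, rfl⟩
    have e1 : g * a * g⁻¹ = (a * b) ^ (2 * k) * a := hg ▸ dih_conj haa hbb k
    have hd1 : DU T H S (g * a * g⁻¹) := ha.du.conj (hg ▸ pow_mem hw k)
    have hg' := C.good (hg ▸ pow_mem hw k) ha (C.pu_of_comm ha hd1 (by rw [e1, ← mul_assoc, ← hza]))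
    have hp : DU T H S (a * g) := by
      rcases Nat.even_or_odd' k with ⟨l, rfl | rfl⟩
      · rw [hg, ← dih_conj' haa hbb l]
        simpa using ha.du.conj (inv_mem (pow_mem hw l))
      · rw [hg, ← dih_conj_right haa hbb l]
        simpa using hb.conj (inv_mem (pow_mem hw l))
    have hP := C.pu_of_good hp ((C.good_self ha).mul hg')
    have hgg : g * g = (a * b) ^ (2 * k) := by rw [hg, ← pow_add, two_mul]
    have hpp := (hP.du (H := H)).sq C.h2
    obtain ⟨x, hx, -, hax⟩ := ha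
    obtain ⟨y, hy, -, hpy⟩ := hP
    have h4 : (a * (a * g)) * (a * (a * g)) = ((a * g) * a) * ((a * g) * a) := by
      have e2 : (a * g) * a = g⁻¹ := eq_inv_of_mul_eq_one_left (by rw [mul_assoc]; exact hpp)
      rw [← mul_assoc a a, haa, one_mul, e2, ← mul_inv_rev, hgg]
      exact eq_inv_of_mul_eq_one_left hzz
    have hc : a * (a * g) = (a * g) * a := by
      have hmap : ∀ s t : Rˣ, ((s * t : Rˣ) : R) = s * t := fun _ _ => Units.val_mul _ _
      have h5 := congrArg Units.val h4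
      rw [hmap (a * (a * g)), hmap ((a * g) * a), hmap a (a * g), hmap (a * g) a, hax, hpy] at h5
      refine Units.ext ?_
      rw [hmap a (a * g), hmap (a * g) a, hax, hpy]
      simp only [add_mul, mul_add, one_mul, mul_one, pair4 C.h2 hx hy h5]
      abel
    refine hz1 ?_
    rw [← hgg]
    calc g * g = (a * (a * g)) * (a * (a * g)) := by rw [← mul_assoc a a, haa, one_mul]
      _ = (a * (a * g)) * ((a * g) * a) := by rw [← hc]
      _ = a * ((a * g) * (a * g)) * a := by simp only [mul_assoc]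
      _ = 1 := by rw [hpp, mul_one, haa]
  · refine ⟨k, rfl, (dih_conj_right haa hbb k).symm, ?_, ?_⟩
    · refine C.pu_of_comm ha ?_ (by rw [mul_assoc, hza])
      rw [← dih_conj_right haa hbb k]
      simpa using hb.conj (inv_mem (pow_mem hw k))
    · have e1 : (a * b) ^ k * a * ((a * b) ^ k)⁻¹ = (a * b) ^ (2 * k + 1) * b := by
        rw [dih_conj haa hbb, pow_succ, mul_assoc ((a * b) ^ (2 * k)), mul_assoc a b b, hbb, mul_one]
      have hzb : b * (a * b) ^ (2 * k + 1) = (a * b) ^ (2 * k + 1) * b := by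
        have hcomm := (Commute.pow_self (a * b) (2 * k + 1))
        have e2 : b = a * (a * b) := by rw [← mul_assoc, haa, one_mul]
        have := ((show Commute ((a * b) ^ (2 * k + 1)) a from hza).mul_right hcomm)
        rw [← e2] at this
        exact this.symm
      rw [hzb, ← e1]
      exact ha.du.conj (pow_mem hw k)

/-- second root elements for an involution centralised by a root which is not pure -/
theorem Ctx.step (C : Ctx T H S) {z b r₀ : Rˣ} (hb : DU T H S b) (hb' : ¬ PU T S b) (hbz : b * z = z * b)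
    (hdz : DU T H S (b * z)) (hr : PU T S r₀) (hrz : r₀ * z = z * r₀) :
    PU T S (r₀ * z) ∨ ∃ r', PU T S r' ∧ r' ≠ r₀ ∧ r₀ * r' = r' * r₀ ∧ PU T S (r' * z) ∧
      b * (r₀ * r') = r₀ * r' * b ∧ DU T H S (b * (r₀ * r')) := by
  haveI : Finite Rˣ := Finite.of_injective _ Units.val_injective
  have haa := (hr.du (H := H)).sq C.h2
  have hw : r₀ * b ∈ K T H S := mul_mem (hr.du.mem_K C.G) (hb.mem_K C.G)
  have hwz : ∀ n : ℕ, Commute ((r₀ * b) ^ n) z := fun n => (Commute.mul_left hrz hbz).pow_left n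
  have move : ∀ (n : ℕ), ((r₀ * b) ^ n)⁻¹ * (b * z) * (r₀ * b) ^ n = ((r₀ * b) ^ n)⁻¹ * b * (r₀ * b) ^ n * z := by
    intro n
    simp only [mul_assoc, (hwz n).eq]
  rcases dih_cases haa (hb.sq C.h2) with ⟨j, hj⟩ | ⟨m, -, hz1, hzz, hza, hzb⟩
  · left
    have e1 : r₀ = ((r₀ * b) ^ j)⁻¹ * b * (r₀ * b) ^ j := by
      have := congrArg (fun t => ((r₀ * b) ^ j)⁻¹ * t * (r₀ * b) ^ j) hj
      simpa [mul_assoc] using this
    refine C.pu_of_comm hr ?_ ?_
    · have := hdz.conj (inv_mem (pow_mem hw j))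
      rwa [inv_inv, move, ← e1] at this
    · rw [← mul_assoc, haa, one_mul, mul_assoc, ← hrz, ← mul_assoc, haa, one_mul]
  · right
    obtain ⟨j, -, ej, hP, hD⟩ := C.odd_half hr hb hb' hz1 hzz hza
    refine ⟨r₀ * (r₀ * b) ^ m, hP, fun e => hz1 (by simpa using e), ?_, ?_, ?_, ?_⟩
    · rw [mul_assoc r₀, hza]
    · refine C.pu_of_comm hP ?_ ?_
      · have := hdz.conj (inv_mem (pow_mem hw j))
        rwa [inv_inv, move, ← ej] at this
      · have hc : Commute (r₀ * (r₀ * b) ^ m) z := Commute.mul_left hrz (hwz m)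
        exact ((Commute.refl _).mul_right hc).eq
    · rw [show r₀ * (r₀ * (r₀ * b) ^ m) = (r₀ * b) ^ m by rw [← mul_assoc, haa, one_mul]]
      exact hzb.symm
    · rwa [show r₀ * (r₀ * (r₀ * b) ^ m) = (r₀ * b) ^ m by rw [← mul_assoc, haa, one_mul]]

/-- a root element as a product of four others -/
theorem Ctx.four (C : Ctx T H S) {i : ι} {a : Rˣ} (ha : At T i a) :
    ∃ u : Fin 4 → Rˣ, (∀ n, At T i (u n) ∧ u n ≠ a ∧ u n * a = a * u n) ∧ u 0 * u 1 * u 2 * u 3 = a := by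
  obtain ⟨x, hx, hxi, hax⟩ := ha
  obtain ⟨y, hy, hprod⟩ := T.exists_four C.hk C.h2 hx hxi
  have hmem : ∀ n, InH H (1 + y n) := fun n => (hy n).1.mem C.G
  choose u hu huy using hmem
  refine ⟨u, fun n => ⟨⟨y n, (hy n).1, (hy n).2.1, huy n⟩,
    fun e => (hy n).2.2.1 (add_left_cancel ((huy n).symm.trans ((congrArg Units.val e).trans hax))), ?_⟩,
    Units.ext (by simp only [Units.val_mul, huy, hax]; exact hprod)⟩
  refine Units.ext ?_
  simp only [Units.val_mul, huy, hax, add_mul, mul_add, one_mul, mul_one, (hy n).2.2.2]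
  abel

/-- no root centralises the product of root elements of two factors, times it again a root -/
theorem Ctx.cross_false (C : Ctx T H S) {i j : ι} (hi : i ∈ S) (hj : j ∈ S) (hij : i ≠ j) {a r b : Rˣ}
    (ha : At T i a) (hr : At T j r) (hb : DU T H S b) (hb' : ¬ PU T S b) (hbz : b * (a * r) = a * r * b)
    (hdz : DU T H S (b * (a * r))) : False := by
  obtain ⟨u, hu, hprod⟩ := C.four ha
  have hat : ∀ n, At T i (u n) := fun n => (hu n).1
  have huc : ∀ n, u n * a = a * u n := fun n => (hu n).2.2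
  have hne : ∀ n, u n ≠ a := fun n => (hu n).2.1
  have hcomm : ∀ n, Commute b (a * u n) := by
    intro n
    have hcz : u n * (a * r) = a * r * u n := by
      rw [← mul_assoc, huc, mul_assoc, (hat n).comm hr hij, ← mul_assoc]
    have hdec : ∀ p, PU T S p → PU T S (p * (a * r)) → p = a ∨ p = r := by
      intro p hp hq
      obtain ⟨k, -, hpk⟩ := hp.slot
      obtain ⟨l, -, hql⟩ := hq.slot
      exact C.cross_unique ha hr hij hpk hql (by rw [← mul_assoc, (hp.du (H := H)).sq C.h2, one_mul])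
    rcases C.step hb hb' hbz hdz ((hat n).pu hi) hcz with h | ⟨r', hP', -, hcr, hq, hbc, -⟩
    · rcases hdec _ ((hat n).pu hi) h with e | e
      · exact absurd e (hne n)
      · exact absurd e fun e => C.at_not_cen (hat n) (e ▸ hr.cen hij)
    · rcases hdec r' hP' hq with rfl | rfl
      · rw [← huc n]; exact hbc
      · have h1 : Commute b ((a * r') * (u n * r')) := (show Commute b (a * r') from hbz).mul_right hbc
        rwa [mul_assoc a r', ← mul_assoc r' (u n), ← hcr, mul_assoc (u n), (hP'.du (H := H)).sq C.h2,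
          mul_one] at h1
  refine hb' (C.pu_of_comm (ha.pu hi) hb ?_)
  have h4 : a = (a * u 0) * (a * u 1) * (a * u 2) * (a * u 3) := by
    have e : u 0 * u 1 * u 2 * u 3 = a := hprod
    have aa := ha.sq C.h2
    calc a = u 0 * u 1 * u 2 * u 3 := e.symm
      _ = a * a * (u 0 * u 1) * (a * a) * (u 2 * u 3) := by rw [aa, one_mul, mul_one, ← mul_assoc]
      _ = a * (a * u 0) * u 1 * (a * (a * u 2)) * u 3 := by simp only [mul_assoc]
      _ = a * (u 0 * a) * u 1 * (a * (u 2 * a)) * u 3 := by rw [huc, huc]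
      _ = (a * u 0) * (a * u 1) * (a * u 2) * (a * u 3) := by simp only [mul_assoc]
  have : Commute b a := h4 ▸ (((hcomm 0).mul_right (hcomm 1)).mul_right (hcomm 2)).mul_right (hcomm 3)
  exact this.eq.symm

theorem Ctx.exists_at (C : Ctx T H S) (j : ι) : ∃ u, At T j u := by
  obtain ⟨e, he, hee⟩ := C.he
  obtain ⟨a, ha, hσ⟩ := T.exists_skew
  have hx : IsPure T (a • T.E j e e) := ⟨j, e, he, hee, a, ha, hσ, rfl⟩
  obtain ⟨u, -, hu⟩ := hx.mem C.G
  exact ⟨u, _, hx, (T.phi j).smul_mem a (T.E_mem_phi j e e), hu⟩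

theorem Ctx.at_unique (C : Ctx T H S) {u : Rˣ} {k l : ι} (h : At T k u) (h' : At T l u) : k = l :=
  Classical.byContradiction fun hne => C.at_not_cen h (h'.cen hne)

theorem Ctx.carries_inj (C : Ctx T H S) {h : Rˣ} (hh : Good T H S h) {k l m : ι} (hk : k ∈ S)
    (h1 : Carries T h k m) (h2 : Carries T h l m) : k = l := by
  obtain ⟨e, he, hee⟩ := C.he
  obtain ⟨m', hm', c1⟩ := hh.2.2 k hk
  obtain rfl := h1.right_unique he hee c1
  obtain ⟨k', -, hb⟩ := hh.inv.2.2 m hm'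
  have e1 := h1.comp hb
  have e2 := h2.comp hb
  rw [inv_mul_cancel] at e1 e2
  exact (Carries.right_unique he hee (Carries.refl T k) e1).trans
    (Carries.right_unique he hee (Carries.refl T l) e2).symm

theorem Ctx.not_cen_mul (C : Ctx T H S) {i : ι} {u v : Rˣ} (hu : ¬ T.Cen i (u : R)) (hv : T.Cen i (v : R)) :
    ¬ T.Cen i ((u * v : Rˣ) : R) ∧ ¬ T.Cen i ((v * u : Rˣ) : R) := by
  constructor
  · intro h
    refine hu ?_
    have := h.mul (inv_cen hv)
    rwa [← Units.val_mul, mul_inv_cancel_right] at this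
  · intro h
    refine hu ?_
    have := (inv_cen hv).mul h
    rwa [← Units.val_mul, inv_mul_cancel_left] at this

theorem Ctx.not_pu_mul (C : Ctx T H S) {i l : ι} {u z : Rˣ} (hu : At T l u) (hli : l ≠ i) (hz : (z : R) ∈ T.phi i)
    (hzn : ¬ T.Cen i (z : R)) : ¬ PU T S (u * z) := by
  intro h
  obtain ⟨k, -, hk⟩ := h.slot
  have e1 : u * (u * z) = z := by rw [← mul_assoc, hu.sq C.h2, one_mul]
  rcases eq_or_ne k l with rfl | hne
  · refine hzn ?_
    rw [← e1, Units.val_mul]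
    exact (hu.cen (Ne.symm hli)).mul (hk.cen (Ne.symm hli))
  · exact C.cross_not_at hu hk hne.symm (k := i) (by rw [e1]; exact hz)

theorem Ctx.at_pair (C : Ctx T H S) {i : ι} {a r : Rˣ} (ha : At T i a) (hr : At T i r) (hne : a ≠ r)
    (hc : a * r = r * a) : ((a * r : Rˣ) : R) ∈ T.phi i ∧ ¬ T.Cen i ((a * r : Rˣ) : R) := by
  have hm : ((a * r : Rˣ) : R) ∈ T.phi i := by
    rw [Units.val_mul]; exact T.mul_mem_phi ha.mem_phi hr.mem_phi
  refine ⟨hm, C.not_cen hm ?_ fun e => hne ?_⟩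
  · calc a * r * (a * r) = a * r * (r * a) := by rw [hc]
      _ = 1 := by rw [← mul_assoc, mul_assoc a r r, hr.sq C.h2, mul_one, ha.sq C.h2]
  · have := congrArg (fun t => a * t) e
    simpa [← mul_assoc, ha.sq C.h2] using this.symm

/-- no root centralises the product of two commuting root elements, times it again a root -/
theorem Ctx.pair_false (C : Ctx T H S) {a r b : Rˣ} (ha : PU T S a) (hr : PU T S r) (hne : a ≠ r)
    (hc : a * r = r * a) (hb : DU T H S b) (hb' : ¬ PU T S b) (hbz : b * (a * r) = a * r * b)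
    (hdz : DU T H S (b * (a * r))) : False := by
  obtain ⟨i, hi, hai⟩ := ha.slot
  obtain ⟨k, hk, hrk⟩ := hr.slot
  rcases ne_or_eq i k with hik | rfl
  · exact C.cross_false hi hk hik hai hrk hb hb' hbz hdz
  obtain ⟨hzm, hzn⟩ := C.at_pair hai hrk hne hc
  obtain ⟨j, hj, hji⟩ := C.two i hi
  obtain ⟨r₀, hr₀⟩ := C.exists_at j
  have hrz : r₀ * (a * r) = a * r * r₀ := by
    rw [← mul_assoc, hr₀.comm hai hji, mul_assoc, hr₀.comm hrk hji, ← mul_assoc]
  rcases C.step hb hb' hbz hdz (hr₀.pu hj) hrz with h | ⟨r', hP', -, -, hq, hbc, hD⟩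
  · exact C.not_pu_mul hr₀ hji hzm hzn h
  obtain ⟨l, hl, hrl⟩ := hP'.slot
  rcases ne_or_eq l i with hli | rfl
  · exact C.not_pu_mul hrl hli hzm hzn hq
  · exact C.cross_false hj hl hji hr₀ hrl hb hb' hbc hD

/-- a root element and a root which is not pure are conjugate in the group they generate -/
theorem Ctx.odd_conj (C : Ctx T H S) {a b : Rˣ} (ha : PU T S a) (hb : DU T H S b) (hb' : ¬ PU T S b) :
    ∃ g ∈ K T H S, b = g * a * g⁻¹ ∧ ∀ z, a * z = z * a → b * z = z * b → g * z = z * g := by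
  haveI : Finite Rˣ := Finite.of_injective _ Units.val_injective
  have haa := (ha.du (H := H)).sq C.h2
  rcases dih_cases haa (hb.sq C.h2) with ⟨j, hj⟩ | ⟨m, -, hz1, hzz, hza, hzb⟩
  · exact ⟨(a * b) ^ j, pow_mem (mul_mem (ha.du.mem_K C.G) (hb.mem_K C.G)) j, hj.symm,
      fun z h1 h2 => ((Commute.mul_left h1 h2).pow_left j).eq⟩
  · exfalso
    obtain ⟨j, -, -, hP, hD⟩ := C.odd_half ha hb hb' hz1 hzz hza
    have e : a * (a * (a * b) ^ m) = (a * b) ^ m := by rw [← mul_assoc, haa, one_mul]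
    refine C.pair_false ha hP (fun e0 => hz1 (by simpa using e0.symm)) ?_ hb hb' ?_ ?_
    · rw [mul_assoc a ((a * b) ^ m), hza]
    · rw [e]; exact hzb.symm
    · rw [e]; exact hD

/-- roots centralising a product of commuting root elements which is no root element -/
theorem Ctx.pu_of_cen (C : Ctx T H S) {a r f : Rˣ} (ha : PU T S a) (hr : PU T S r) (hne : a ≠ r)
    (hc : a * r = r * a) (hn : ¬ PU T S (a * r)) (hf : DU T H S f) (hfc : f * (a * r) = a * r * f) : PU T S f := by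
  by_contra hf'
  have haa := (ha.du (H := H)).sq C.h2
  have hac : a * (a * r) = a * r * a := by rw [mul_assoc a r, hc]
  obtain ⟨r₀, hr₀, hrz, hr₀n⟩ : ∃ r₀, PU T S r₀ ∧ r₀ * (a * r) = a * r * r₀ ∧ ¬ PU T S (r₀ * (a * r)) := by
    obtain ⟨i, hi, hai⟩ := ha.slot
    obtain ⟨k, hk, hrk⟩ := hr.slot
    rcases ne_or_eq i k with hik | rfl
    · obtain ⟨u, hu, -⟩ := C.four hai
      obtain ⟨hu0, hu0a, hu0c⟩ := hu 0
      refine ⟨u 0, hu0.pu hi, ?_, fun h => ?_⟩
      · rw [← mul_assoc, hu0c, mul_assoc, hu0.comm hrk hik, ← mul_assoc]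
      obtain ⟨l, -, hl⟩ := h.slot
      rcases C.cross_unique hai hrk hik hu0 hl (by rw [← mul_assoc, hu0.sq C.h2, one_mul]) with e | e
      · exact hu0a e
      · exact hik (C.at_unique hu0 (e ▸ hrk))
    · obtain ⟨hzm, hzn⟩ := C.at_pair hai hrk hne hc
      obtain ⟨j, hj, hji⟩ := C.two i hi
      obtain ⟨r₀, hr₀⟩ := C.exists_at j
      refine ⟨r₀, hr₀.pu hj, ?_, C.not_pu_mul hr₀ hji hzm hzn⟩
      rw [← mul_assoc, hr₀.comm hai hji, mul_assoc, hr₀.comm hrk hji, ← mul_assoc]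
  obtain ⟨g, hg, e1, c1⟩ := C.odd_conj ha hf hf'
  obtain ⟨g', hg', e2, c2⟩ := C.odd_conj hr₀ hf hf'
  obtain ⟨h, hh⟩ : ∃ h, h = g'⁻¹ * g := ⟨_, rfl⟩
  have e3 : h * a * h⁻¹ = r₀ := by
    calc h * a * h⁻¹ = g'⁻¹ * (g * a * g⁻¹) * g' := by rw [hh]; group
      _ = r₀ := by rw [← e1, e2]; group
  have hgood : Good T H S h :=
    C.good (hh ▸ mul_mem (inv_mem hg') hg) ha (by rw [e3]; exact hr₀)
  have hcom : Commute h (a * r) :=
    hh ▸ (show Commute g' (a * r) from c2 _ hrz hfc).inv_left.mul_left (c1 _ hac hfc)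
  refine hr₀n ?_
  have := C.conj_pu hgood hr
  have e4 : h * r * h⁻¹ = r₀ * (a * r) := by
    calc h * r * h⁻¹ = h * a * (a * r) * h⁻¹ := by rw [← mul_assoc, mul_assoc h a a, haa, mul_one]
      _ = h * a * h⁻¹ * (h * (a * r) * h⁻¹) := by group
      _ = r₀ * (a * r) := by rw [e3, hcom.eq, mul_inv_cancel_right]
  rwa [e4] at this

theorem Ctx.good_of_cen (C : Ctx T H S) {a r g : Rˣ} (ha : PU T S a) (hr : PU T S r) (hne : a ≠ r)
    (hc : a * r = r * a) (hn : ¬ PU T S (a * r)) (hg : g ∈ K T H S) (hgc : g * (a * r) = a * r * g) :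
    Good T H S g := by
  refine C.good hg ha (C.pu_of_cen ha hr hne hc hn (ha.du.conj hg) ?_)
  exact ((Commute.mul_left (Commute.mul_left hgc (by
    show a * (a * r) = a * r * a
    rw [mul_assoc a r, hc])) (Commute.inv_left hgc))).eq

/-- a good involution fixes no factor unless it commutes with a root element -/
theorem Ctx.fixed (C : Ctx T H S) {g : Rˣ} (hg : Good T H S g) (hgg : g * g = 1) {k : ι} (hk : k ∈ S)
    (hcar : Carries T g k k) : ∃ y, PU T S y ∧ g * y = y * g := by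
  obtain ⟨e, he, hee⟩ := C.he
  obtain ⟨y, hy, hyk, hgy⟩ :=
    C.G.fixed_pure C.h2 he hee hg.1 (by rw [← Units.val_mul, hgg, Units.val_one]) hcar
  obtain ⟨u, -, hu⟩ := hy.mem C.G
  refine ⟨u, ⟨y, hy, T.off_of_phi hk hyk, hu⟩, Units.ext ?_⟩
  rw [Units.val_mul, Units.val_mul, hu, mul_add, add_mul, mul_one, one_mul, hgy]

/-- the case of an odd exponent -/
theorem Ctx.odd_false (C : Ctx T H S) {i j : ι} (hi : i ∈ S) (hj : j ∈ S) (hij : i ≠ j) {a r d : Rˣ}
    (ha : At T i a) (hr : At T j r) (hd : DU T H S d) (hd' : ¬ PU T S d) {k : ℕ}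
    (hzc : Commute ((a * r * d) ^ (2 * k + 1)) (a * r)) (hzd : Commute ((a * r * d) ^ (2 * k + 1)) d)
    (hzz : (a * r * d) ^ (2 * k + 1) * (a * r * d) ^ (2 * k + 1) = 1) : False := by
  obtain ⟨c, hc⟩ : ∃ c, c = a * r := ⟨_, rfl⟩
  rw [← hc] at hzc hzd hzz
  have haa := ha.sq C.h2
  have hrr := hr.sq C.h2
  have har := ha.comm hr hij
  have hcc : c * c = 1 := by
    rw [hc]
    conv_lhs => arg 2; rw [har]
    rw [← mul_assoc, mul_assoc a r r, hrr, mul_one, haa]
  have hn : ¬ PU T S (a * r) := C.cross_ne_pu ha hr hij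
  have hne : a ≠ r := fun e => hij (C.at_unique ha (e ▸ hr))
  have hcK : c ∈ K T H S := hc ▸ mul_mem ((ha.pu hi).du.mem_K C.G) ((hr.pu hj).du.mem_K C.G)
  have hwK : c * d ∈ K T H S := mul_mem hcK (hd.mem_K C.G)
  obtain ⟨z, hz⟩ : ∃ z, z = (c * d) ^ (2 * k + 1) := ⟨_, rfl⟩
  rw [← hz] at hzc hzd hzz
  obtain ⟨r₃, hr₃⟩ : ∃ r₃, r₃ = c * z := ⟨_, rfl⟩
  have er : r₃ = ((c * d) ^ k)⁻¹ * d * (c * d) ^ k := by
    rw [hr₃, hz, dih_conj_right hcc (hd.sq C.h2)]
  have hr₃z : Commute r₃ z := hr₃ ▸ hzc.symm.mul_left (Commute.refl z)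
  have hr₃c : Commute r₃ c := hr₃ ▸ (Commute.refl c).mul_left hzc
  have hP : PU T S r₃ := C.pu_of_cen (ha.pu hi) (hr.pu hj) hne har hn
    (by rw [er]; simpa using hd.conj (inv_mem (pow_mem hwK k))) (hc ▸ hr₃c.eq)
  have key : ∀ r₁, PU T S r₁ → Commute r₁ z →
      ∃ k' l' : ι, ∃ p q, k' ≠ l' ∧ At T k' p ∧ At T l' q ∧ z * r₁ = p * q := by
    intro r₁ h₁ h₁z
    obtain ⟨g, hg, e1, c1⟩ := C.odd_conj h₁ hd hd'
    obtain ⟨h, hh⟩ : ∃ h, h = ((c * d) ^ k)⁻¹ * g := ⟨_, rfl⟩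
    have e2 : h * r₁ * h⁻¹ = r₃ := by
      calc h * r₁ * h⁻¹ = ((c * d) ^ k)⁻¹ * (g * r₁ * g⁻¹) * (c * d) ^ k := by rw [hh]; group
        _ = r₃ := by rw [← e1, er]
    have hhz : Commute h z :=
      hh ▸ ((hzc.symm.mul_left hzd.symm).pow_left k).inv_left.mul_left (c1 _ h₁z hzd.symm)
    have hgood : Good T H S h⁻¹ := (C.good (hh ▸ mul_mem (inv_mem (pow_mem hwK k)) hg) h₁ (by rwa [e2])).inv
    obtain ⟨k', hk', ck, hp⟩ := C.conj_at hgood ha hi
    obtain ⟨l', hl', cl, hq⟩ := C.conj_at hgood hr hj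
    refine ⟨k', l', _, _, fun e => hij (C.carries_inj hgood hi ck (e ▸ cl)), hp, hq, ?_⟩
    calc z * r₁ = h⁻¹ * (h * z * h⁻¹ * (h * r₁ * h⁻¹)) * h := by group
      _ = h⁻¹ * c * h := by
        rw [e2, hhz.eq, mul_inv_cancel_right, hr₃, ← mul_assoc z c z, hzc.eq, mul_assoc c z z, hzz, mul_one]
      _ = _ := by rw [hc]; group
  have ez : z = a * r * r₃ := by rw [hr₃, ← hc, ← mul_assoc, hcc, one_mul]
  obtain ⟨t, ht, hrt⟩ := hP.slot
  rcases eq_or_ne t i with rfl | hti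
  · have e1 : z * r = a * r₃ := by
      rw [ez, mul_assoc, hrt.comm hr hij, mul_assoc a, ← mul_assoc r r r₃, hrr, one_mul]
    obtain ⟨k', l', p, q, hkl, hp, hq, e⟩ := key r (hr.pu hj) (by
      rw [ez]
      exact ((show Commute r a from har.symm).mul_right (Commute.refl r)).mul_right (hr.comm hrt (Ne.symm hij)))
    refine C.cross_not_at hp hq hkl (k := t) ?_
    rw [← e, e1, Units.val_mul]
    exact T.mul_mem_phi ha.mem_phi hrt.mem_phi
  rcases eq_or_ne t j with rfl | htj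
  · have e1 : z * a = r * r₃ := by
      rw [ez, mul_assoc, hrt.comm ha hij.symm, ← mul_assoc, mul_assoc a r a, ← har, ← mul_assoc a a, haa, one_mul]
    obtain ⟨k', l', p, q, hkl, hp, hq, e⟩ := key a (ha.pu hi) (by
      rw [ez]
      exact ((Commute.refl a).mul_right har).mul_right (ha.comm hrt hij))
    refine C.cross_not_at hp hq hkl (k := t) ?_
    rw [← e, e1, Units.val_mul]
    exact T.mul_mem_phi hr.mem_phi hrt.mem_phi
  obtain ⟨u, hu, -⟩ := C.four ha
  obtain ⟨hy, hya, hyc⟩ := hu 0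
  have hyz : Commute (u 0) z := ez ▸ ((show Commute (u 0) a from hyc).mul_right
    (hy.comm hr hij)).mul_right (hy.comm hrt (Ne.symm hti))
  obtain ⟨k', l', p, q, -, hp, hq, e⟩ := key (u 0) (hy.pu hi) hyz
  obtain ⟨-, hay⟩ := C.at_pair ha hy (Ne.symm hya) hyc.symm
  have e1 : z * u 0 = a * u 0 * (r * r₃) := by
    rw [hyz.symm.eq, ez, ← mul_assoc (u 0), ← mul_assoc (u 0), hyc, mul_assoc (a * u 0)]
  have e1' : z * u 0 = r * (a * u 0 * r₃) := by
    rw [e1, ← mul_assoc, ← mul_assoc r, ((show Commute a r from har).mul_left (hy.comm hr hij)).eq]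
  have e1'' : z * u 0 = a * u 0 * r * r₃ := by rw [e1, mul_assoc (a * u 0)]
  have n_i : ¬ T.Cen i ((z * u 0 : Rˣ) : R) := by
    rw [e1]
    exact (C.not_cen_mul hay (by rw [Units.val_mul]; exact (hr.cen hij).mul (hrt.cen (Ne.symm hti)))).1
  have n_j : ¬ T.Cen j ((z * u 0 : Rˣ) : R) := by
    rw [e1']
    exact (C.not_cen_mul (C.at_not_cen hr) (by
      rw [Units.val_mul, Units.val_mul]
      exact ((ha.cen (Ne.symm hij)).mul (hy.cen (Ne.symm hij))).mul (hrt.cen (Ne.symm htj)))).1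
  have n_t : ¬ T.Cen t ((z * u 0 : Rˣ) : R) := by
    rw [e1'']
    exact (C.not_cen_mul (C.at_not_cen hrt) (by
      rw [Units.val_mul, Units.val_mul]
      exact ((ha.cen hti).mul (hy.cen hti)).mul (hr.cen htj))).2
  have out : ∀ m, ¬ T.Cen m ((z * u 0 : Rˣ) : R) → m = k' ∨ m = l' := fun m hm => by
    by_contra hcon
    rw [not_or] at hcon
    exact hm (by rw [e, Units.val_mul]; exact (hp.cen hcon.1).mul (hq.cen hcon.2))
  rcases out i n_i with rfl | rfl <;> rcases out j n_j with rfl | rfl <;> rcases out t n_t with rfl | rfl <;>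
    first
      | exact hij rfl
      | exact hti rfl
      | exact htj rfl

/-- the case of an even exponent -/
theorem Ctx.even_false (C : Ctx T H S) {i j : ι} (hi : i ∈ S) (hj : j ∈ S) (hij : i ≠ j) {a r d z : Rˣ}
    (ha : At T i a) (hr : At T j r) (hd : DU T H S d) (hd' : ¬ PU T S d) (hzK : z ∈ K T H S) (hz1 : z ≠ 1)
    (hzz : z * z = 1) (hzd : d * z = z * d) (hzc : z * (a * r) = a * r * z) (hdz : DU T H S (d * z)) : False := by
  have hne : a ≠ r := fun e => hij (C.at_unique ha (e ▸ hr))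
  have hzG : Good T H S z :=
    C.good_of_cen (ha.pu hi) (hr.pu hj) hne (ha.comm hr hij) (C.cross_ne_pu ha hr hij) hzK hzc
  -- the involution commutes with no root element
  have hnc : ∀ y, PU T S y → y * z ≠ z * y := by
    intro y hy hyz
    obtain ⟨g, hg, e1, c1⟩ := C.odd_conj hy hd hd'
    have hgz := c1 z hyz hzd
    have hyy := (hy.du (H := H)).sq C.h2
    have hD : DU T H S (y * z) := by
      have := hdz.conj (inv_mem hg)
      rwa [inv_inv, show g⁻¹ * (d * z) * g = y * z by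
        rw [e1, mul_assoc, mul_assoc _ z g, ← hgz]; group] at this
    have hP := C.pu_of_comm hy hD (by rw [mul_assoc, ← hyz])
    have e2 : y * (y * z) = z := by rw [← mul_assoc, hyy, one_mul]
    exact C.pair_false hy hP (fun e => hz1 (by simpa using e.symm)) (by rw [mul_assoc y z, ← hyz]) hd hd'
      (by rw [e2]; exact hzd) (by rw [e2]; exact hdz)
  have hmove : ∀ k ∈ S, ¬ Carries T z k k := fun k hk hcar =>
    let ⟨y, hy, hyz⟩ := C.fixed hzG hzz hk hcar
    hnc y hy hyz.symm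
  -- the root element conjugate to the root
  obtain ⟨g, hg, e1, -⟩ := C.odd_conj (ha.pu hi) hd hd'
  have hgG : ¬ Good T H S g := fun h => hd' (e1 ▸ C.conj_pu h (ha.pu hi))
  obtain ⟨z', hz'⟩ : ∃ z', z' = g⁻¹ * z * g := ⟨_, rfl⟩
  have haa := ha.sq C.h2
  have hz'a : a * z' = z' * a := by
    rw [hz']
    calc a * (g⁻¹ * z * g) = g⁻¹ * (g * a * g⁻¹ * z) * g := by group
      _ = g⁻¹ * (z * (g * a * g⁻¹)) * g := by rw [← e1, hzd]
      _ = _ := by group
  have hz'0 : z' ≠ 1 := fun e => hz1 (by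
    rw [show z = g * z' * g⁻¹ by rw [hz']; group, e, mul_one, mul_inv_cancel])
  obtain ⟨r', hr'd⟩ : ∃ r', r' = a * z' := ⟨_, rfl⟩
  have hr' : PU T S r' := by
    refine hr'd ▸ C.pu_of_comm (ha.pu hi) ?_ (by rw [mul_assoc, hz'a])
    have := hdz.conj (inv_mem hg)
    rwa [inv_inv, show g⁻¹ * (d * z) * g = a * z' by rw [hz', e1]; group] at this
  have hz'e : a * r' = z' := by rw [hr'd, ← mul_assoc, haa, one_mul]
  have hne' : a ≠ r' := fun e => hz'0 (by rw [← hz'e, ← e, haa])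
  have hc' : a * r' = r' * a := by rw [hr'd, mul_assoc a z', ← hz'a]
  have hn' : ¬ PU T S (a * r') := by
    rw [hz'e]
    intro h
    have hD : DU T H S z := by
      have := h.du.conj hg
      rwa [show g * z' * g⁻¹ = z by rw [hz']; group] at this
    exact hnc z (C.pu_of_good hD hzG) rfl
  -- the involutions of the centraliser
  have hb : ∀ n, PU T S n → ∀ k ∈ S, Good T H S (g⁻¹ * (n * (z * n * z⁻¹)) * g) ∧
      (g⁻¹ * (n * (z * n * z⁻¹)) * g) * (g⁻¹ * (n * (z * n * z⁻¹)) * g) = 1 ∧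
      Commute (g⁻¹ * (n * (z * n * z⁻¹)) * g) z' ∧ ¬ Carries T (g⁻¹ * (n * (z * n * z⁻¹)) * g) k k := by
    intro n hn
    obtain ⟨s, hs, hns⟩ := hn.slot
    obtain ⟨s', hs', hcs, hns'⟩ := C.conj_at hzG hns hs
    have hss : s ≠ s' := fun e => hmove s hs (by rw [← e] at hcs; exact hcs)
    obtain ⟨c, hc⟩ : ∃ c, c = n * (z * n * z⁻¹) := ⟨_, rfl⟩
    have hzi : z⁻¹ = z := inv_eq_of_mul_eq_one_left hzz
    have hcz : Commute c z := by
      show c * z = z * c
      calc c * z = n * z * n := by rw [hc]; group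
        _ = z * z * n * z * n := by rw [hzz, one_mul]
        _ = z * ((z * n * z⁻¹) * n) := by rw [hzi]; simp only [mul_assoc]
        _ = z * c := by rw [hc, hns.comm hns' hss]
    have hcc : c * c = 1 := by
      rw [hc]
      calc n * (z * n * z⁻¹) * (n * (z * n * z⁻¹)) = n * (z * n * z⁻¹) * ((z * n * z⁻¹) * n) := by
            rw [hns.comm hns' hss]
        _ = 1 := by rw [← mul_assoc, mul_assoc n, hns'.sq C.h2, mul_one, hns.sq C.h2]
    have hnK : c ∈ K T H S := hc ▸ mul_mem (hn.du.mem_K C.G) ((hns'.pu hs').du.mem_K C.G)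
    rw [← hc]
    intro k hk
    have hbz : Commute (g⁻¹ * c * g) z' := by
      show _ = _
      rw [hz']
      calc g⁻¹ * c * g * (g⁻¹ * z * g) = g⁻¹ * (c * z) * g := by group
        _ = g⁻¹ * (z * c) * g := by rw [hcz.eq]
        _ = _ := by group
    have hbG : Good T H S (g⁻¹ * c * g) := C.good_of_cen (ha.pu hi) hr' hne' hc' hn'
      (mul_mem (mul_mem (inv_mem hg) hnK) hg) (by rw [hz'e]; exact hbz.eq)
    have hbb : (g⁻¹ * c * g) * (g⁻¹ * c * g) = 1 := by
      calc _ = g⁻¹ * (c * c) * g := by group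
        _ = 1 := by rw [hcc]; group
    refine ⟨hbG, hbb, hbz, fun hcar => hgG ?_⟩
    obtain ⟨y, hy, hby⟩ := C.fixed hbG hbb hk hcar
    refine C.good hg hy (C.pu_of_cen hn (hns'.pu hs') (fun e => hss (C.at_unique hns (e ▸ hns')))
      (hns.comm hns' hss) (C.cross_ne_pu hns hns' hss) (hy.du.conj hg) ?_)
    rw [← hc]
    calc g * y * g⁻¹ * c = g * (y * (g⁻¹ * c * g)) * g⁻¹ := by group
      _ = g * ((g⁻¹ * c * g) * y) * g⁻¹ := by rw [hby]
      _ = _ := by group
  obtain ⟨s, hs, hrs⟩ := hr'.slot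
  rcases eq_or_ne s i with rfl | hsi
  · -- one factor
    obtain ⟨hzm, hzn⟩ := C.at_pair ha hrs hne' hc'
    obtain ⟨hbG, -, hbz, hbk⟩ := hb a (ha.pu hi) s hi
    obtain ⟨k, hk, hck⟩ := hbG.2.2 s hi
    rcases eq_or_ne k s with rfl | hne
    · exact hbk hck
    refine hzn (T.cen_of_phi_ne (Ne.symm hne) ?_)
    have := hck _ hzm
    rwa [hz'e, ← Units.val_mul, ← Units.val_mul, hbz.eq, mul_inv_cancel_right, ← hz'e] at this
  -- two factors: the conjugations exchange the pieces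
  have hswap : ∀ n, PU T S n → (g⁻¹ * (n * (z * n * z⁻¹)) * g) * a * (g⁻¹ * (n * (z * n * z⁻¹)) * g)⁻¹ = r' ∧
      (g⁻¹ * (n * (z * n * z⁻¹)) * g) * r' * (g⁻¹ * (n * (z * n * z⁻¹)) * g)⁻¹ = a := by
    intro n hn
    obtain ⟨hbG, hbb, hbz, hbk⟩ := hb n hn i hi
    obtain ⟨b, hbd⟩ : ∃ b, b = g⁻¹ * (n * (z * n * z⁻¹)) * g := ⟨_, rfl⟩
    rw [← hbd] at hbG hbb hbz hbk ⊢
    obtain ⟨k, hk, hck, hka⟩ := C.conj_at hbG ha hi
    obtain ⟨l, -, -, hla⟩ := C.conj_at hbG hrs hs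
    have e : b * a * b⁻¹ * (b * r' * b⁻¹) = a * r' := by
      calc _ = b * (a * r') * b⁻¹ := by group
        _ = _ := by rw [hz'e, hbz.eq, mul_inv_cancel_right]
    rcases C.cross_unique ha hrs (Ne.symm hsi) hka hla e with e' | e'
    · exact absurd (C.at_unique (e' ▸ hka) ha) (fun hki => hbk (by subst hki; exact hck))
    · refine ⟨e', ?_⟩
      rw [← e', inv_eq_of_mul_eq_one_left hbb]
      simp only [← mul_assoc, hbb, one_mul, mul_assoc a b b, mul_one]
  obtain ⟨u, hu, hprod⟩ := C.four ha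
  obtain ⟨i', hi', hci, -⟩ := C.conj_at hzG ha hi
  have hii : i ≠ i' := fun e => hmove i hi (by rw [← e] at hci; exact hci)
  have hv : ∀ n m, Commute (u n) (z * u m * z⁻¹) := fun n m => by
    obtain ⟨k, -, hck, hk⟩ := C.conj_at hzG (hu m).1 hi
    obtain ⟨e, he, hee⟩ := C.he
    exact (hu n).1.comm hk (hck.right_unique he hee hci ▸ hii)
  have hfour : a * (z * a * z⁻¹) = u 0 * (z * u 0 * z⁻¹) * (u 1 * (z * u 1 * z⁻¹)) * (u 2 * (z * u 2 * z⁻¹)) *
      (u 3 * (z * u 3 * z⁻¹)) := by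
    rw [Commute.mul_mul_mul_comm (hv 1 0).symm, Commute.mul_mul_mul_comm ((hv 2 0).symm.mul_left (hv 2 1).symm),
      Commute.mul_mul_mul_comm (((hv 3 0).symm.mul_left (hv 3 1).symm).mul_left (hv 3 2).symm), hprod]
    congr 1
    conv_lhs => rw [← hprod]
    group
  have hstep : ∀ n, PU T S n → ∀ x y : Rˣ,
      (g⁻¹ * (n * (z * n * z⁻¹)) * g * y) * x * (g⁻¹ * (n * (z * n * z⁻¹)) * g * y)⁻¹ =
        (g⁻¹ * (n * (z * n * z⁻¹)) * g) * (y * x * y⁻¹) * (g⁻¹ * (n * (z * n * z⁻¹)) * g)⁻¹ := fun n _ x y => by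
    group
  refine hne' (Eq.trans ?_ (hswap a (ha.pu hi)).1)
  have hu' : ∀ n, PU T S (u n) := fun n => (hu n).1.pu hi
  rw [hfour, show ∀ p q s t : Rˣ, g⁻¹ * (p * q * s * t) * g =
    (g⁻¹ * p * g) * ((g⁻¹ * q * g) * ((g⁻¹ * s * g) * (g⁻¹ * t * g))) from fun p q s t => by group,
    hstep _ (hu' 0), hstep _ (hu' 1), hstep _ (hu' 2), (hswap _ (hu' 3)).1, (hswap _ (hu' 2)).2,
    (hswap _ (hu' 1)).1, (hswap _ (hu' 0)).2]

/-- a root living in the set is pure -/
theorem Ctx.pure (C : Ctx T H S) {d : Rˣ} (hd : DU T H S d) : PU T S d := by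
  haveI : Finite Rˣ := Finite.of_injective _ Units.val_injective
  by_contra hd'
  obtain ⟨i, hi⟩ := C.hne
  obtain ⟨j, hj, hji⟩ := C.two i hi
  obtain ⟨a, ha⟩ := C.exists_at i
  obtain ⟨r, hr⟩ := C.exists_at j
  have hij := Ne.symm hji
  have har := ha.comm hr hij
  have hrr := hr.sq C.h2
  have haa := ha.sq C.h2
  obtain ⟨c, hc⟩ : ∃ c, c = a * r := ⟨_, rfl⟩
  have hac : a * c = c * a := by rw [hc, mul_assoc a r a, har]
  have hcc : c * c = 1 := by
    rw [hc]
    conv_lhs => arg 2; rw [har]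
    rw [← mul_assoc, mul_assoc a r r, hrr, mul_one, haa]
  have hcK : c ∈ K T H S := hc ▸ mul_mem ((ha.pu hi).du.mem_K C.G) ((hr.pu hj).du.mem_K C.G)
  have hwK : c * d ∈ K T H S := mul_mem hcK (hd.mem_K C.G)
  have hdd := hd.sq C.h2
  rcases dih_cases hcc hdd with ⟨n, hn⟩ | ⟨m, -, hz1, hzz, hzc, hzd⟩
  · refine C.cross_ne_pu ha hr hij (hc ▸ C.pu_of_comm (ha.pu hi) ?_ hac)
    have := hd.conj (inv_mem (pow_mem hwK n))
    rwa [inv_inv, show ((c * d) ^ n)⁻¹ * d * (c * d) ^ n = c by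
      calc _ = ((c * d) ^ n)⁻¹ * ((c * d) ^ n * c * ((c * d) ^ n)⁻¹) * (c * d) ^ n := by rw [hn]
        _ = c := by simp [mul_assoc]] at this
  rcases Nat.even_or_odd' m with ⟨k, rfl | rfl⟩
  · refine C.even_false hi hj hij ha hr hd hd' (pow_mem hwK _) hz1 hzz hzd.symm (hc ▸ hzc) ?_
    have := hd.conj (inv_mem (pow_mem hwK k))
    rwa [inv_inv, dih_conj_right hcc hdd, pow_succ, ← mul_assoc c, ← hzc, mul_assoc,
      ← mul_assoc c c d, hcc, one_mul, hzd] at this
  · subst hc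
    exact C.odd_false hi hj hij ha hr hd hd' hzc hzd hzz

end Two

end CfsgLib.MaxSub.SuPow
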