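import Cfsg.Agent.Lib.MaxSub.SuPow.Odd
import Cfsg.Agent.Lib.MaxSub.SuPow.Two

/-!
Tensor powers of a Hermitian space: all roots are root elements of the factors.
-/

set_option autoImplicit false
set_option linter.unusedSectionVars false

namespace CfsgLib.MaxSub.SuPow

variable {F A R ι κ : Type*} [Field F] [AddCommGroup A] [Module F A] [Ring R] [Algebra F R] [Fintype κ]
variable {T : Sys F A R ι κ} {H : Subgroup Rˣ}
variable [Finite F] [Finite R] [Nontrivial R] [Fintype ι]

theorem Grp.pure_of_off (G : Grp T H) (Z : Ctr T H) (hw : T.Wide) (hk : T.Big ∨ 4 < Nat.card F) :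
    ∀ S : Finset ι, ∀ d, IsRoot T H d → T.Off S d → IsPure T d := by
  classical
  intro S
  induction S using Finset.strongInduction with
  | H S ih =>
    intro d hd hdS
    have L : Low T H S := fun k hk x hx hxS hxk =>
      ih (S.erase k) (Finset.erase_ssubset hk) x hx fun l hl => by
        by_cases hlk : l = k
        · exact hlk ▸ hxk
        · exact hxS l fun h => hl (Finset.mem_erase.2 ⟨hlk, h⟩)
    rcases S.eq_empty_or_nonempty with rfl | hne
    · exfalso
      obtain ⟨c, hc⟩ := T.scal d fun i => hdS i (Finset.notMem_empty i)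
      have h := hd.sq
      rw [hc, smul_mul_smul_comm, one_mul, smul_eq_zero, or_iff_left one_ne_zero, mul_self_eq_zero] at h
      exact hd.ne_zero (by rw [hc, h, zero_smul])
    obtain ⟨p, hp⟩ := CharP.exists F
    haveI : Fact p.Prime := ⟨CharP.char_is_prime F p⟩
    by_cases hp2 : p = 2
    · subst hp2
      by_cases htwo : ∀ i ∈ S, ∃ j ∈ S, j ≠ i
      · obtain ⟨-, -, y₀, ⟨-, e, he, hee, -, -, -, -⟩, -⟩ := id hd
        have C : Two.Ctx T H S :=
          ⟨G, Z, hw, hk, by exact_mod_cast CharP.cast_eq_zero F 2, L, hne, ⟨e, he, hee⟩, htwo⟩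
        obtain ⟨u, -, hu⟩ := hd.mem G
        obtain ⟨x, hx, -, hux⟩ := C.pure (d := u) ⟨d, hd, hdS, hu⟩
        rwa [add_left_cancel (hu.symm.trans hux)]
      · simp only [not_forall, not_exists, not_and, ne_eq, not_not] at htwo
        obtain ⟨i, -, hi⟩ := htwo
        refine G.pure_of_phi hd (T.mem_phi_of_blk fun u v => T.scal _ fun l => ?_) (i := i)
        by_cases hl : l = i
        · exact hl ▸ T.cen_blk i u v d
        · exact T.cen_blk_other hl u v (hdS l fun h => hl (hi l h))
    · obtain ⟨i, hi⟩ := hne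
      exact G.pure_odd Z hw hk p hp2 L hi hd hdS

/-- **all roots are pure** -/
theorem Grp.all_pure (G : Grp T H) (Z : Ctr T H) (hw : T.Wide) (hk : T.Big ∨ 4 < Nat.card F) {d : R}
    (hd : IsRoot T H d) : IsPure T d :=
  G.pure_of_off Z hw hk Finset.univ d hd fun l hl => absurd (Finset.mem_univ l) hl

end CfsgLib.MaxSub.SuPow
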