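import Cfsg.Agent.Lib.MaxSub.SuPow.Model

/-!
The stabiliser of a tensor power of a Hermitian form is maximal in the special unitary group, given that the roots
of an overgroup with small centres are root elements of factors.
-/

set_option autoImplicit false
set_option linter.unusedSectionVars false

namespace CfsgLib.MaxSub.SuPow

open Matrix Cfsg.Geo
open CfsgLib.MaxSub (UFull qConj su_le_of_uFull uTv_mem_su uTv_mulVec tvMat tvGL hDual hDual_dot isUnitaryForm_hermForm)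
open CfsgLib.MaxSub.SpPow (InH)
open scoped MatrixGroups

section Space

variable {F A R ι κ : Type*} [Field F] [AddCommGroup A] [Module F A] [Ring R] [Algebra F R] [Fintype κ]

/-- a non-zero vector killed by few functionals -/
theorem exists_perp_of_lt [FiniteDimensional F A] {m : ℕ} (φ : Fin m → A →ₗ[F] F)
    (hm : m < Module.finrank F A) : ∃ w, w ≠ 0 ∧ ∀ i, φ i w = 0 := by
  have h : LinearMap.ker (LinearMap.pi φ) ≠ ⊥ := LinearMap.ker_ne_bot_of_finrank_lt (by rwa [Module.finrank_fin_fun])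
  obtain ⟨w, hw, hw0⟩ := Submodule.exists_mem_ne_zero_of_ne_bot h
  exact ⟨w, hw0, fun i => congrFun (LinearMap.mem_ker.1 hw) i⟩

variable (T : Sys F A R ι κ) (hnorm : ∀ r : F, T.σ r = r → ∃ x, x * T.σ x = r)
include hnorm

/-- an isotropic combination of two orthogonal vectors -/
theorem Sys.exists_iso_span {w u : A} (hw : w ≠ 0) (hu : u ≠ 0) (huw : T.f u w = 0) :
    ∃ z, z ≠ 0 ∧ T.f z z = 0 ∧ ∃ a b : F, z = a • w + b • u := by
  by_cases hww : T.f w w = 0
  · exact ⟨w, hw, hww, 1, 0, by simp⟩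
  by_cases huu : T.f u u = 0
  · exact ⟨u, hu, huu, 0, 1, by simp⟩
  obtain ⟨l, hl⟩ := hnorm (-T.f w w / T.f u u) (by rw [map_div₀, map_neg, T.σ_self, T.σ_self])
  have hwu := T.perp_symm huw
  refine ⟨w + l • u, fun h0 => hww ?_, ?_, 1, l, by simp⟩
  · have := congrArg (fun z => T.f z w) h0
    simpa [huw] using this
  · rw [eq_div_iff huu] at hl
    simp only [map_add, map_smulₛₗ, LinearMap.add_apply, LinearMap.smul_apply, RingHom.id_apply, smul_eq_mul, huw,
      hwu]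
    linear_combination hl

theorem Sys.wide_of_lt [FiniteDimensional F A] (h : 2 < Module.finrank F A) : T.Wide := fun e f₀ _ => by
  obtain ⟨w, hw, hw'⟩ := exists_perp_of_lt ![T.f.flip e, T.f.flip f₀] h
  exact ⟨w, hw, by simpa using hw' 0, by simpa using hw' 1⟩

theorem Sys.big_of_lt [FiniteDimensional F A] (h : 3 < Module.finrank F A) : T.Big := fun e f₀ he => by
  obtain ⟨w, hw, hwe, hwf⟩ := T.wide_of_lt hnorm (by omega) e f₀ he
  obtain ⟨u, hu, hu'⟩ := exists_perp_of_lt ![T.f.flip e, T.f.flip f₀, T.f.flip w] h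
  have hue : T.f u e = 0 := by simpa using hu' 0
  have huf : T.f u f₀ = 0 := by simpa using hu' 1
  have huw : T.f u w = 0 := by simpa using hu' 2
  obtain ⟨z, hz, hzz, a, b, rfl⟩ := T.exists_iso_span hnorm hw hu huw
  exact ⟨_, hz, hzz, by simp [hwe, hue], by simp [hwf, huf]⟩

theorem Sys.exists_hyp_of_lt [FiniteDimensional F A] (h : 1 < Module.finrank F A) : ∃ e f₀, T.Hyp e f₀ := by
  obtain ⟨w, hw, -⟩ := exists_perp_of_lt (![] : Fin 0 → A →ₗ[F] F) (by omega)
  obtain ⟨u, hu, hu'⟩ := exists_perp_of_lt ![T.f.flip w] h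
  obtain ⟨z, hz, hzz, -⟩ := T.exists_iso_span hnorm hw hu (by simpa using hu' 0)
  exact ⟨z, T.exists_hyp hz hzz⟩

end Space

variable {F : Type*} [Field F] [Fintype F] {n q k t : ℕ}

local notation "𝕄" => Matrix (Fin n) (Fin n) F

namespace Data

variable (D : Data F n q k t)

theorem σ_eq (x : F) : qConj D.hF x = D.sys.σ x := rfl

include D in
theorem two_le : 2 ≤ q := CfsgLib.Classical.two_le_of_card_sq D.hF

/-- a fixed scalar other than `0` and `-1` -/
theorem exists_fixed (hq : 2 < q) : ∃ r : F, r ≠ 0 ∧ r + 1 ≠ 0 ∧ D.sys.σ r = r := by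
  classical
  obtain ⟨g, hg⟩ := IsCyclic.exists_generator (α := Fˣ)
  obtain ⟨r, hr⟩ : ∃ r : F, r = (g : F) * D.s (g : F) := ⟨_, rfl⟩
  have hr0 : r ≠ 0 := hr ▸ mul_ne_zero g.ne_zero ((map_ne_zero D.s).2 g.ne_zero)
  have hσ : D.s r = r := by rw [hr, map_mul, D.s_s, mul_comm]
  by_cases h1 : r + 1 = 0
  · by_cases h2 : (1 : F) + 1 = 0
    · exfalso
      have e1 : r = 1 := by linear_combination h1 - h2
      have hpow : g ^ (q + 1) = 1 := Units.ext (by
        rw [Units.val_pow_eq_pow_val, pow_succ, ← D.s_apply, mul_comm, ← hr, e1, Units.val_one])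
      have hord : orderOf g = q ^ 2 - 1 := by
        rw [orderOf_eq_card_of_forall_mem_zpowers hg, Nat.card_units, Nat.card_eq_fintype_card, D.hF]
      have := Nat.le_of_dvd (by omega) (orderOf_dvd_of_pow_eq_one hpow)
      rw [hord] at this
      have : 3 * q ≤ q ^ 2 := by rw [sq]; exact Nat.mul_le_mul_right q hq
      omega
    · exact ⟨1, one_ne_zero, h2, map_one _⟩
  · exact ⟨r, hr0, h1, hσ⟩

theorem finrank_fac : Module.finrank F (Fin k → F) = k := Module.finrank_fin_fun F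

theorem norm' : ∀ r : F, D.sys.σ r = r → ∃ x, x * D.sys.σ x = r := fun _ hr => D.norm_surj hr

theorem wide (hk : 3 ≤ k) : D.sys.Wide := D.sys.wide_of_lt D.norm' (by rw [finrank_fac]; omega)

theorem big (hk : 4 ≤ k) : D.sys.Big := D.sys.big_of_lt D.norm' (by rw [finrank_fac]; omega)

theorem exists_hyp (hk : 3 ≤ k) : ∃ e f₀, D.sys.Hyp e f₀ :=
  D.sys.exists_hyp_of_lt D.norm' (by rw [finrank_fac]; omega)

/-- the scalar of the similarity is fixed -/
theorem c_fixed (hk : 3 ≤ k) : D.sys.σ D.c = D.c := by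
  obtain ⟨e, f₀, h⟩ := D.exists_hyp hk
  obtain ⟨u, -, -, huu⟩ := D.sys.exists_aniso_perp (D.wide hk) h
  have h1 := D.act.h_vec (fun _ => u) fun _ => u
  have h2 := D.act.herm (D.act.vec fun _ => u) (D.act.vec fun _ => u)
  rw [h1, map_mul, map_prod, D.sys.σ_self] at h2
  exact mul_right_cancel₀ (Finset.prod_ne_zero_iff.2 fun _ _ => huu) h2

/-- the transvection at a product of root elements -/
theorem tvMat_eq {x : 𝕄} {v : Fin n → F}
    (hx : ∀ w, D.act.ρ x w = (D.act.c⁻¹ * D.act.h w v) • v) (κ : F) :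
    tvMat v (κ • hDual (Cfsg.hermForm n F q) v) = 1 + (κ * D.c) • x := by
  refine Matrix.ext_of_mulVec_single fun i => ?_
  have h1 : x *ᵥ Pi.single i 1 = (D.c⁻¹ * Cfsg.hermForm n F q (Pi.single i 1) v) • v := hx (Pi.single i 1)
  rw [uTv_mulVec (isUnitaryForm_hermForm D.hF n), Matrix.add_mulVec, Matrix.one_mulVec, Matrix.smul_mulVec, h1,
    smul_smul]
  congr 2
  rw [mul_assoc, mul_inv_cancel_left₀ D.hc]

include D in
theorem hDual_smul_dot {v : Fin n → F} (hv : Cfsg.hermForm n F q v v = 0) (κ : F) :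
    (κ • hDual (Cfsg.hermForm n F q) v) ⬝ᵥ v = 0 := by
  rw [smul_dotProduct, hDual_dot (isUnitaryForm_hermForm D.hF n), hv, smul_zero]

/-- the stabiliser is proper -/
theorem base_ne [Nonempty (Fin n)] (hk : 3 ≤ k) (ht : 2 ≤ t) :
    D.base ≠ Cfsg.GU n F q ⊓ specialLinear (Fin n) F := by
  classical
  intro heq
  obtain ⟨e, f₀, h⟩ := D.exists_hyp hk
  have hi : AllIso D.sys fun _ : Fin t => e := fun _ => h.ee
  obtain ⟨x, hx, hxv⟩ := D.act.exists_mono (fun _ => e) (fun _ => h.left_ne) hi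
  obtain ⟨r, hr, hσ⟩ := D.sys.exists_skew
  obtain ⟨v, hv⟩ : ∃ v, v = D.act.vec fun _ : Fin t => e := ⟨_, rfl⟩
  rw [← hv] at hxv
  have hvv : Cfsg.hermForm n F q v v = 0 := by
    show D.act.h v v = 0
    rw [hv, D.act.h_vec, Finset.prod_eq_zero (Finset.mem_univ (⟨0, by omega⟩ : Fin t)) (hi ⟨0, by omega⟩), mul_zero]
  have hc : r + qConj D.hF r = 0 := by rw [σ_eq, hσ, add_neg_cancel]
  have hg := uTv_mem_su D.hF hvv hc (D.hDual_smul_dot hvv r)
  rw [← heq] at hg
  obtain ⟨a, y, ha, haa, hy, rfl⟩ := hx.split (Finset.mem_univ (⟨0, by omega⟩ : Fin t))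
  obtain ⟨g₀, hh⟩ := D.sys.exists_hyp ha haa
  refine not_permutes (T := D.sys) hh hy ?_ (Finset.notMem_erase _ _) (mul_ne_zero hr D.hc) ?_
    (D.permutes_of_mem (Subgroup.mem_inf.1 hg).1)
  · exact ⟨⟨1, by omega⟩, Finset.mem_erase.2 ⟨by simp [Fin.ext_iff], Finset.mem_univ _⟩⟩
  · exact D.tvMat_eq hxv r

/-- an overgroup is the stabiliser or everything, given purity of all roots when the centres are small -/
theorem maximal_of (hk : 3 ≤ k) (ht : 2 ≤ t) (hn : 4 ≤ n) (hex : ¬ (q = 2 ∧ k = 3))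
    (hperm : ∀ M : Subgroup (GL (Fin n) F), Grp D.sys M → Ctr D.sys M → ∀ g ∈ M, Permutes D.sys g) :
    IsMaximalIn (Cfsg.GU n F q ⊓ specialLinear (Fin n) F) D.base := by
  classical
  haveI : Nonempty (Fin n) := ⟨⟨0, by omega⟩⟩
  haveI : NeZero k := ⟨by omega⟩
  haveI : Nonempty (Fin t) := ⟨⟨0, by omega⟩⟩
  refine ⟨lt_of_le_of_ne inf_le_right (D.base_ne hk ht), fun M hb hM => ?_⟩
  have G := D.grp_of_le hb hM
  by_cases hZ : Ctr D.sys M
  · exact Or.inl (le_antisymm (le_inf (D.le_wreath_of_permutes (by omega) (hperm M G hZ)) hM) hb)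
  have hw := D.wide hk
  have hfull := exists_full G (D.perms_of_le hb) hw hZ
  have hf := isUnitaryForm_hermForm D.hF n
  have hP : D.act.Closed (UFull (qConj D.hF) (Cfsg.hermForm n F q) M) :=
    ⟨CfsgLib.MaxSub.uFull_zero hf, fun v hv => hv.1, fun v s hv => hv.smul hf s,
      fun v w hv hw h0 h1 => hv.add hf hw h0 h1⟩
  have hbase : ∀ a, AllIso D.sys a → UFull (qConj D.hF) (Cfsg.hermForm n F q) M (D.act.vec a) := by
    intro a hi
    by_cases ha : ∀ l, a l ≠ 0
    · obtain ⟨x, hx, hxv⟩ := D.act.exists_mono a ha hi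
      have hvv : Cfsg.hermForm n F q (D.act.vec a) (D.act.vec a) = 0 := by
        show D.act.h (D.act.vec a) (D.act.vec a) = 0
        rw [D.act.h_vec, Finset.prod_eq_zero (Finset.mem_univ (⟨0, by omega⟩ : Fin t)) (hi ⟨0, by omega⟩), mul_zero]
      refine ⟨hvv, fun κ hκ => ⟨D.hDual_smul_dot hvv κ, ?_⟩⟩
      obtain ⟨g, hg, hgv⟩ := hfull.all G hw D.norm' hx (s := κ * D.c) (by
        rw [map_mul, D.c_fixed hk, ← neg_mul]
        congr 1
        exact eq_neg_of_add_eq_zero_right hκ)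
      exact ⟨g, hg, hgv.trans (D.tvMat_eq hxv κ).symm⟩
    · simp only [not_forall, not_not] at ha
      obtain ⟨l, hl⟩ := ha
      rw [Act.vec_zero hl]
      exact CfsgLib.MaxSub.uFull_zero hf
  have hq : D.sys.Big ∨ ∃ r : F, r ≠ 0 ∧ r + 1 ≠ 0 ∧ D.sys.σ r = r := by
    rcases Nat.lt_or_ge k 4 with h4 | h4
    · exact Or.inr (D.exists_fixed (by have := D.two_le; omega))
    · exact Or.inl (D.big h4)
  obtain ⟨e₀, g₀, h₀⟩ := D.exists_hyp hk
  haveI : Nontrivial (Fin t) := Fin.nontrivial_iff_two_le.2 ht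
  refine Or.inr (le_antisymm hM (su_le_of_uFull D.hF hn fun v hv => ?_))
  exact hP.mem_of_isotropic hbase hw hq D.norm' h₀ (fun l => exists_ne l) hv

end Data

end CfsgLib.MaxSub.SuPow
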