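import Cfsg.Agent.Lib.MaxSub.SpPow.Roots

/-!
Tensor powers of a Hermitian space, at the level of operators: commuting systems of matrix units `E i u v`
(`y ↦ f(y, v) u` in the factor `i`, semilinear in `v`), blocks with respect to one factor, idempotents of a
hyperbolic pair, groups containing the transvections, short root elements and tori of all factors.
-/

set_option autoImplicit false
set_option linter.unusedSectionVars false

namespace CfsgLib.MaxSub.SuPow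

open CfsgLib.MaxSub.SpPow (InH inv_one_add)

/-- The operators of the factors of a tensor power of a Hermitian space. -/
structure Sys (F A R ι κ : Type*) [Field F] [AddCommGroup A] [Module F A] [Ring R] [Algebra F R]
    [Fintype κ] where
  σ : F →+* F
  σσ : ∀ c, σ (σ c) = c
  σ_ne : ∃ c, σ c ≠ c
  f : A →ₗ[F] A →ₛₗ[σ] F
  herm : ∀ u v, σ (f u v) = f v u
  b : κ → A
  b' : κ → A
  dual : ∀ y, ∑ l, f y (b' l) • b l = y
  E : ι → A →ₗ[F] A →ₛₗ[σ] R
  mul : ∀ i u v u' v', E i u v * E i u' v' = f u' v • E i u v'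
  one : ∀ i, ∑ l, E i (b l) (b' l) = 1
  comm : ∀ i j, i ≠ j → ∀ u v u' v', E i u v * E j u' v' = E j u' v' * E i u v
  ad : R →+ R
  ad_smul : ∀ c x, ad (c • x) = σ c • ad x
  ad_mul : ∀ x y, ad (x * y) = ad y * ad x
  ad_ad : ∀ x, ad (ad x) = x
  ad_one : ad 1 = 1
  ad_E : ∀ i u v, ad (E i u v) = E i v u
  scal : ∀ x, (∀ i u v, x * E i u v = E i u v * x) → ∃ c : F, x = c • 1

variable {F A R ι κ : Type*} [Field F] [AddCommGroup A] [Module F A] [Ring R] [Algebra F R] [Fintype κ]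

namespace Sys

variable (T : Sys F A R ι κ)

theorem σ_ne_zero {c : F} : T.σ c ≠ 0 ↔ c ≠ 0 := map_ne_zero T.σ

/-- a non-zero skew scalar -/
theorem exists_skew : ∃ a : F, a ≠ 0 ∧ T.σ a = -a := by
  obtain ⟨c, hc⟩ := T.σ_ne
  exact ⟨c - T.σ c, sub_ne_zero.2 (Ne.symm hc), by rw [map_sub, T.σσ, neg_sub]⟩

theorem exists_trace_ne : ∃ c : F, c + T.σ c ≠ 0 := by
  obtain ⟨c, hc⟩ := T.σ_ne
  by_cases h : (1 : F) + T.σ 1 = 0
  · refine ⟨c, fun h' => hc ?_⟩
    rw [map_one] at h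
    linear_combination h' - c * h
  · exact ⟨1, h⟩

/-- the trace is onto the fixed field -/
theorem exists_trace {r : F} (hr : T.σ r = r) : ∃ c : F, c + T.σ c = r := by
  obtain ⟨c, hc⟩ := T.exists_trace_ne
  refine ⟨r / (c + T.σ c) * c, ?_⟩
  have hs : T.σ (r / (c + T.σ c)) = r / (c + T.σ c) := by rw [map_div₀, map_add, T.σσ, hr, add_comm (T.σ c)]
  rw [map_mul, hs, ← mul_add, div_mul_cancel₀ _ hc]

theorem perp_symm {u v : A} (h : T.f u v = 0) : T.f v u = 0 := by rw [← T.herm, h, map_zero]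

theorem σ_self (u : A) : T.σ (T.f u u) = T.f u u := T.herm u u

theorem eq_zero_of_perp {u : A} (h : ∀ v, T.f u v = 0) : u = 0 := by
  rw [← T.dual u]; simp [h]

theorem dual' (z : A) : ∑ l, T.f z (T.b l) • T.b' l = z := by
  refine sub_eq_zero.1 (T.eq_zero_of_perp fun y => T.perp_symm ?_)
  rw [map_sub, sub_eq_zero, map_sum]
  conv_rhs => rw [← T.dual y]
  rw [map_sum, LinearMap.coe_sum, Finset.sum_apply]
  refine Finset.sum_congr rfl fun l _ => ?_
  rw [map_smulₛₗ, T.herm, map_smul, LinearMap.smul_apply, smul_eq_mul, smul_eq_mul, mul_comm]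

theorem exists_f_eq_one {e : A} (he : e ≠ 0) : ∃ w, T.f e w = 1 := by
  obtain ⟨w, hw⟩ : ∃ w, T.f e w ≠ 0 := by
    by_contra h
    simp only [not_exists, not_not] at h
    exact he (T.eq_zero_of_perp h)
  refine ⟨(T.σ (T.f e w))⁻¹ • w, ?_⟩
  rw [map_smulₛₗ, map_inv₀, T.σσ, smul_eq_mul, inv_mul_cancel₀ hw]

/-- a hyperbolic pair -/
structure Hyp (e f₀ : A) : Prop where
  ee : T.f e e = 0
  ff : T.f f₀ f₀ = 0
  ef : T.f e f₀ = 1

variable {T}

theorem Hyp.fe {e f₀ : A} (h : T.Hyp e f₀) : T.f f₀ e = 1 := by rw [← T.herm, h.ef, map_one]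

theorem Hyp.left_ne {e f₀ : A} (h : T.Hyp e f₀) : e ≠ 0 := by
  rintro rfl; simpa using h.ef

theorem Hyp.right_ne {e f₀ : A} (h : T.Hyp e f₀) : f₀ ≠ 0 := by
  rintro rfl; simpa using h.ef

theorem Hyp.symm {e f₀ : A} (h : T.Hyp e f₀) : T.Hyp f₀ e := ⟨h.ff, h.ee, h.fe⟩

variable (T)

theorem exists_hyp {e : A} (he : e ≠ 0) (hee : T.f e e = 0) : ∃ f₀, T.Hyp e f₀ := by
  obtain ⟨w, hw⟩ := T.exists_f_eq_one he
  obtain ⟨c, hc⟩ := T.exists_trace (r := -T.f w w) (by rw [map_neg, T.σ_self])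
  have hwe : T.f w e = 1 := by rw [← T.herm, hw, map_one]
  refine ⟨w + c • e, ⟨hee, ?_, ?_⟩⟩
  · simp only [map_add, map_smulₛₗ, LinearMap.add_apply, LinearMap.smul_apply, RingHom.id_apply, smul_eq_mul, hw,
      hwe, hee, mul_zero, add_zero]
    linear_combination hc
  · simp only [map_add, map_smulₛₗ, hw, hee, smul_zero, add_zero]

/-- every hyperbolic pair has a vector orthogonal to it -/
def Wide : Prop := ∀ e f₀, T.Hyp e f₀ → ∃ w, w ≠ 0 ∧ T.f w e = 0 ∧ T.f w f₀ = 0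

/-- every hyperbolic pair has an isotropic vector orthogonal to it -/
def Big : Prop := ∀ e f₀, T.Hyp e f₀ → ∃ w, w ≠ 0 ∧ T.f w w = 0 ∧ T.f w e = 0 ∧ T.f w f₀ = 0

/-! ### Operators commuting with a factor, blocks -/

/-- `x` commutes with the factor `i` -/
def Cen (i : ι) (x : R) : Prop := ∀ u v, x * T.E i u v = T.E i u v * x

theorem cen_E {i j : ι} (h : i ≠ j) (u v : A) : T.Cen i (T.E j u v) :=
  fun u' v' => T.comm j i h.symm u v u' v'

theorem cen_one (i : ι) : T.Cen i 1 := fun u v => by rw [one_mul, mul_one]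

theorem cen_zero (i : ι) : T.Cen i 0 := fun u v => by rw [zero_mul, mul_zero]

variable {T}

theorem Cen.add {i : ι} {x y : R} (hx : T.Cen i x) (hy : T.Cen i y) : T.Cen i (x + y) :=
  fun u v => by rw [add_mul, mul_add, hx, hy]

theorem Cen.sub {i : ι} {x y : R} (hx : T.Cen i x) (hy : T.Cen i y) : T.Cen i (x - y) :=
  fun u v => by rw [sub_mul, mul_sub, hx, hy]

theorem Cen.neg {i : ι} {x : R} (hx : T.Cen i x) : T.Cen i (-x) :=
  fun u v => by rw [neg_mul, mul_neg, hx]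

theorem Cen.smul {i : ι} {x : R} (hx : T.Cen i x) (c : F) : T.Cen i (c • x) :=
  fun u v => by rw [smul_mul_assoc, mul_smul_comm, hx]

theorem Cen.mul {i : ι} {x y : R} (hx : T.Cen i x) (hy : T.Cen i y) : T.Cen i (x * y) :=
  fun u v => by rw [mul_assoc, hy, ← mul_assoc, hx, mul_assoc]

theorem Cen.ad {i : ι} {x : R} (hx : T.Cen i x) : T.Cen i (T.ad x) := fun u v => by
  have h := congrArg T.ad (hx v u)
  rw [T.ad_mul, T.ad_mul, T.ad_E] at h
  exact h.symm

variable (T)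

/-- the block of `x` in the factor `i` at a pair of vectors -/
def blk (i : ι) (u v : A) (x : R) : R := ∑ l, T.E i (T.b l) u * x * T.E i v (T.b' l)

theorem E_blk (i : ι) (p q u v : A) (x : R) :
    T.E i p q * T.blk i u v x = T.E i p u * x * T.E i v q := by
  rw [blk, Finset.mul_sum]
  calc ∑ l, T.E i p q * (T.E i (T.b l) u * x * T.E i v (T.b' l))
      = ∑ l, T.E i p u * x * T.E i v (T.f q (T.b l) • T.b' l) := by
        refine Finset.sum_congr rfl fun l _ => ?_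
        rw [← mul_assoc, ← mul_assoc, T.mul, map_smulₛₗ, T.herm, mul_smul_comm, smul_mul_assoc, smul_mul_assoc]
    _ = T.E i p u * x * T.E i v q := by rw [← Finset.mul_sum, ← map_sum, T.dual']

theorem blk_E (i : ι) (p q u v : A) (x : R) :
    T.blk i u v x * T.E i p q = T.E i p u * x * T.E i v q := by
  rw [blk, Finset.sum_mul]
  calc ∑ l, T.E i (T.b l) u * x * T.E i v (T.b' l) * T.E i p q
      = ∑ l, T.E i (T.f p (T.b' l) • T.b l) u * x * T.E i v q := by
        refine Finset.sum_congr rfl fun l _ => ?_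
        rw [mul_assoc, T.mul, map_smul, LinearMap.smul_apply, mul_smul_comm, smul_mul_assoc, smul_mul_assoc]
    _ = T.E i p u * x * T.E i v q := by
        rw [← Finset.sum_mul, ← Finset.sum_mul, ← LinearMap.sum_apply, ← map_sum, T.dual]

theorem cen_blk (i : ι) (u v : A) (x : R) : T.Cen i (T.blk i u v x) := fun p q => by
  rw [T.blk_E, T.E_blk]

theorem cen_blk_other {i j : ι} (h : j ≠ i) (u v : A) {x : R} (hx : T.Cen j x) : T.Cen j (T.blk i u v x) := by
  intro p q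
  rw [blk, Finset.sum_mul, Finset.mul_sum]
  exact Finset.sum_congr rfl fun l _ => ((T.cen_E h _ _).mul hx).mul (T.cen_E h _ _) p q

theorem blk_add (i : ι) (u v : A) (x y : R) : T.blk i u v (x + y) = T.blk i u v x + T.blk i u v y := by
  simp [blk, mul_add, add_mul, Finset.sum_add_distrib]

theorem blk_sub (i : ι) (u v : A) (x y : R) : T.blk i u v (x - y) = T.blk i u v x - T.blk i u v y := by
  simp [blk, mul_sub, sub_mul, Finset.sum_sub_distrib]

theorem blk_smul (i : ι) (u v : A) (c : F) (x : R) : T.blk i u v (c • x) = c • T.blk i u v x := by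
  simp [blk, Finset.smul_sum]

theorem blk_zero (i : ι) (u v : A) : T.blk i u v 0 = 0 := by simp [blk]

theorem blk_cen {i : ι} {x : R} (hx : T.Cen i x) (u v : A) : T.blk i u v x = T.f v u • x := by
  rw [blk]
  calc ∑ l, T.E i (T.b l) u * x * T.E i v (T.b' l)
      = ∑ l, T.f v u • (T.E i (T.b l) (T.b' l) * x) := by
        refine Finset.sum_congr rfl fun l _ => ?_
        rw [mul_assoc, hx, ← mul_assoc, T.mul, smul_mul_assoc]
    _ = T.f v u • x := by rw [← Finset.smul_sum, ← Finset.sum_mul, T.one, one_mul]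

theorem blk_E_mul {i : ι} {y : R} (hy : T.Cen i y) (p q u v : A) :
    T.blk i u v (T.E i p q * y) = (T.f p u * T.f v q) • y := by
  rw [blk]
  calc ∑ l, T.E i (T.b l) u * (T.E i p q * y) * T.E i v (T.b' l)
      = ∑ l, (T.f p u * T.f v q) • (T.E i (T.b l) (T.b' l) * y) := by
        refine Finset.sum_congr rfl fun l _ => ?_
        rw [← mul_assoc, T.mul, smul_mul_assoc, smul_mul_assoc, mul_assoc, hy, ← mul_assoc, T.mul,
          smul_mul_assoc, smul_smul]
    _ = (T.f p u * T.f v q) • y := by rw [← Finset.smul_sum, ← Finset.sum_mul, T.one, one_mul]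

theorem E_mul_cancel {i : ι} {p q : A} (hp : p ≠ 0) (hq : q ≠ 0) {y : R} (hy : T.Cen i y)
    (h : T.E i p q * y = 0) : y = 0 := by
  obtain ⟨p', hp'⟩ := T.exists_f_eq_one hp
  obtain ⟨q', hq'⟩ := T.exists_f_eq_one hq
  have h1 := T.blk_E_mul hy p q p' q'
  rw [h, T.blk_zero, hp', ← T.herm q q', hq', map_one, one_mul, one_smul] at h1
  exact h1.symm

theorem eq_zero_of_blk (i : ι) {x : R} (h : ∀ u v, T.blk i u v x = 0) : x = 0 := by
  have e : x = (∑ l, T.E i (T.b l) (T.b' l)) * x * ∑ m, T.E i (T.b m) (T.b' m) := by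
    rw [T.one, one_mul, mul_one]
  rw [e, Finset.sum_mul, Finset.sum_mul]
  refine Finset.sum_eq_zero fun l _ => ?_
  rw [Finset.mul_sum]
  refine Finset.sum_eq_zero fun m _ => ?_
  rw [← T.E_blk, h, mul_zero]

theorem ad_blk (i : ι) (u v : A) (x : R) : T.ad (T.blk i u v x) = T.blk i v u (T.ad x) := by
  have key : ∀ p q, T.ad (T.blk i u v x) * T.E i p q = T.blk i v u (T.ad x) * T.E i p q := by
    intro p q
    conv_lhs => rw [← T.ad_E i q p, ← T.ad_mul, T.E_blk, T.ad_mul, T.ad_mul, T.ad_E, T.ad_E, ← mul_assoc]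
    rw [T.blk_E]
  calc T.ad (T.blk i u v x) = ∑ l, T.ad (T.blk i u v x) * T.E i (T.b l) (T.b' l) := by
        rw [← Finset.mul_sum, T.one, mul_one]
    _ = ∑ l, T.blk i v u (T.ad x) * T.E i (T.b l) (T.b' l) := Finset.sum_congr rfl fun l _ => key _ _
    _ = T.blk i v u (T.ad x) := by rw [← Finset.mul_sum, T.one, mul_one]

theorem E_ne_zero [Nontrivial R] (i : ι) {u v : A} (hu : u ≠ 0) (hv : v ≠ 0) : T.E i u v ≠ 0 := fun h =>
  one_ne_zero (T.E_mul_cancel hu hv (T.cen_one i) (by rw [mul_one]; exact h))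

theorem not_cen_E [Nontrivial R] {i : ι} {e f₀ : A} (hf : T.Hyp e f₀) : ¬ T.Cen i (T.E i e e) := fun h => by
  have h1 := h f₀ f₀
  rw [T.mul, T.mul, hf.fe, hf.ef, one_smul, one_smul] at h1
  have h2 := congrArg (fun x => x * T.E i f₀ f₀) h1
  simp only [T.mul, hf.ff, hf.fe, zero_smul, one_smul] at h2
  exact T.E_ne_zero i hf.right_ne hf.right_ne h2.symm

/-! ### The algebra of a factor -/

/-- the operators of the factor `i` -/
def phi (i : ι) : Submodule F R := Submodule.span F (Set.range fun p : A × A => T.E i p.1 p.2)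

theorem E_mem_phi (i : ι) (u v : A) : T.E i u v ∈ T.phi i := Submodule.subset_span ⟨(u, v), rfl⟩

theorem one_mem_phi (i : ι) : (1 : R) ∈ T.phi i := T.one i ▸ sum_mem fun l _ => T.E_mem_phi i _ _

theorem mul_mem_phi {i : ι} {x y : R} (hx : x ∈ T.phi i) (hy : y ∈ T.phi i) : x * y ∈ T.phi i := by
  induction hx using Submodule.span_induction with
  | mem x hx =>
    obtain ⟨⟨a, b⟩, rfl⟩ := hx
    induction hy using Submodule.span_induction with
    | mem y hy => obtain ⟨⟨a', b'⟩, rfl⟩ := hy; rw [T.mul]; exact (T.phi i).smul_mem _ (T.E_mem_phi i _ _)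
    | zero => rw [mul_zero]; exact zero_mem _
    | add a b _ _ ha hb => rw [mul_add]; exact add_mem ha hb
    | smul c a _ ha => rw [mul_smul_comm]; exact (T.phi i).smul_mem c ha
  | zero => rw [zero_mul]; exact zero_mem _
  | add a b _ _ ha hb => rw [add_mul]; exact add_mem ha hb
  | smul c a _ ha => rw [smul_mul_assoc]; exact (T.phi i).smul_mem c ha

theorem phi_comm_cen {i : ι} {x y : R} (hx : x ∈ T.phi i) (hy : T.Cen i y) : y * x = x * y := by
  induction hx using Submodule.span_induction with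
  | mem x hx => obtain ⟨⟨a, b⟩, rfl⟩ := hx; exact hy a b
  | zero => rw [mul_zero, zero_mul]
  | add a b _ _ ha hb => rw [mul_add, add_mul, ha, hb]
  | smul c a _ ha => rw [mul_smul_comm, smul_mul_assoc, ha]

theorem cen_of_phi_ne {i j : ι} (h : j ≠ i) {x : R} (hx : x ∈ T.phi i) : T.Cen j x := fun u v =>
  (T.phi_comm_cen hx (T.cen_E h.symm u v)).symm

theorem blk_phi {i : ι} {x : R} (hx : x ∈ T.phi i) (u v : A) : ∃ s : F, T.blk i u v x = s • (1 : R) := by
  induction hx using Submodule.span_induction with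
  | mem x hx =>
    obtain ⟨⟨a, b⟩, rfl⟩ := hx
    refine ⟨T.f a u * T.f v b, ?_⟩
    rw [← T.blk_E_mul (T.cen_one i) a b u v, mul_one]
  | zero => exact ⟨0, by rw [T.blk_zero, zero_smul]⟩
  | add a b _ _ ha hb =>
    obtain ⟨s, hs⟩ := ha
    obtain ⟨s', hs'⟩ := hb
    exact ⟨s + s', by rw [T.blk_add, hs, hs', add_smul]⟩
  | smul c a _ ha =>
    obtain ⟨s, hs⟩ := ha
    exact ⟨c * s, by rw [T.blk_smul, hs, smul_smul]⟩

theorem mem_phi_of_blk {i : ι} {x : R} (h : ∀ u v, ∃ s : F, T.blk i u v x = s • (1 : R)) : x ∈ T.phi i := by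
  have e : x = (∑ l, T.E i (T.b l) (T.b' l)) * x * ∑ m, T.E i (T.b m) (T.b' m) := by
    rw [T.one, one_mul, mul_one]
  rw [e, Finset.sum_mul, Finset.sum_mul]
  refine (T.phi i).sum_mem fun l _ => ?_
  rw [Finset.mul_sum]
  refine (T.phi i).sum_mem fun m _ => ?_
  obtain ⟨s, hs⟩ := h (T.b' l) (T.b m)
  rw [← T.E_blk, hs, mul_smul_comm, mul_one]
  exact (T.phi i).smul_mem s (T.E_mem_phi i _ _)

theorem ad_mem_phi {i : ι} {x : R} (hx : x ∈ T.phi i) : T.ad x ∈ T.phi i := by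
  induction hx using Submodule.span_induction with
  | mem x hx => obtain ⟨⟨a, b⟩, rfl⟩ := hx; rw [T.ad_E]; exact T.E_mem_phi i b a
  | zero => rw [map_zero]; exact zero_mem _
  | add a b _ _ ha hb => rw [map_add]; exact add_mem ha hb
  | smul c a _ ha => rw [T.ad_smul]; exact (T.phi i).smul_mem _ ha

/-! ### A hyperbolic pair in one factor -/

/-- the idempotent of the line of `e` -/
def pI (i : ι) (e f₀ : A) : R := T.E i e f₀

/-- the idempotent of the line of `f₀` -/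
def qI (i : ι) (e f₀ : A) : R := T.E i f₀ e

/-- the idempotent of the orthogonal complement of the pair -/
def rI (i : ι) (e f₀ : A) : R := 1 - T.pI i e f₀ - T.qI i e f₀

/-- the projection to the orthogonal complement of the pair -/
def proj (e f₀ : A) : A →ₗ[F] A :=
  LinearMap.id - (T.f.flip f₀).smulRight e - (T.f.flip e).smulRight f₀

theorem proj_apply (e f₀ w : A) : T.proj e f₀ w = w - T.f w f₀ • e - T.f w e • f₀ := rfl

variable {T} {e f₀ : A}

theorem Hyp.proj_e (h : T.Hyp e f₀) (w : A) : T.f (T.proj e f₀ w) e = 0 := by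
  rw [T.proj_apply]
  simp [h.ee, h.fe]

theorem Hyp.proj_f (h : T.Hyp e f₀) (w : A) : T.f (T.proj e f₀ w) f₀ = 0 := by
  rw [T.proj_apply]
  simp [h.ff, h.ef]

theorem proj_of_perp {w : A} (h1 : T.f w e = 0) (h2 : T.f w f₀ = 0) : T.proj e f₀ w = w := by
  rw [T.proj_apply, h1, h2]
  simp

theorem Hyp.proj_self_e (h : T.Hyp e f₀) : T.proj e f₀ e = 0 := by
  rw [T.proj_apply, h.ef, h.ee]; simp

theorem Hyp.proj_self_f (h : T.Hyp e f₀) : T.proj e f₀ f₀ = 0 := by
  rw [T.proj_apply, h.fe, h.ff]; simp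

variable (T)

theorem E_pI (i : ι) (x y : A) : T.E i x y * T.pI i e f₀ = T.f e y • T.E i x f₀ := T.mul _ _ _ _ _

theorem pI_E (i : ι) (x y : A) : T.pI i e f₀ * T.E i x y = T.f x f₀ • T.E i e y := T.mul _ _ _ _ _

theorem E_qI (i : ι) (x y : A) : T.E i x y * T.qI i e f₀ = T.f f₀ y • T.E i x e := T.mul _ _ _ _ _

theorem qI_E (i : ι) (x y : A) : T.qI i e f₀ * T.E i x y = T.f x e • T.E i f₀ y := T.mul _ _ _ _ _

theorem E_rI (i : ι) (x y : A) : T.E i x y * T.rI i e f₀ = T.E i x (T.proj e f₀ y) := by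
  rw [rI, mul_sub, mul_sub, mul_one, T.E_pI, T.E_qI, T.proj_apply, map_sub, map_sub, map_smulₛₗ, map_smulₛₗ,
    T.herm, T.herm, sub_right_comm]

theorem rI_E (i : ι) (x y : A) : T.rI i e f₀ * T.E i x y = T.E i (T.proj e f₀ x) y := by
  rw [rI, sub_mul, sub_mul, one_mul, T.pI_E, T.qI_E, T.proj_apply, map_sub, map_sub, map_smul, map_smul,
    LinearMap.sub_apply, LinearMap.sub_apply, LinearMap.smul_apply, LinearMap.smul_apply]

theorem sum_pqr (i : ι) : T.pI i e f₀ + T.qI i e f₀ + T.rI i e f₀ = 1 := by rw [rI]; abel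

theorem ad_pI (i : ι) : T.ad (T.pI i e f₀) = T.qI i e f₀ := T.ad_E _ _ _

theorem ad_qI (i : ι) : T.ad (T.qI i e f₀) = T.pI i e f₀ := T.ad_E _ _ _

theorem ad_rI (i : ι) : T.ad (T.rI i e f₀) = T.rI i e f₀ := by
  rw [rI, map_sub, map_sub, T.ad_one, T.ad_pI, T.ad_qI]; abel

theorem cen_pI {i j : ι} (h : j ≠ i) : T.Cen j (T.pI i e f₀) := T.cen_E h _ _

theorem cen_qI {i j : ι} (h : j ≠ i) : T.Cen j (T.qI i e f₀) := T.cen_E h _ _

theorem cen_rI {i j : ι} (h : j ≠ i) : T.Cen j (T.rI i e f₀) :=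
  ((T.cen_one j).sub (T.cen_pI h)).sub (T.cen_qI h)

theorem pI_mem_phi (i : ι) : T.pI i e f₀ ∈ T.phi i := T.E_mem_phi i _ _

theorem qI_mem_phi (i : ι) : T.qI i e f₀ ∈ T.phi i := T.E_mem_phi i _ _

theorem rI_mem_phi (i : ι) : T.rI i e f₀ ∈ T.phi i :=
  sub_mem (sub_mem (T.one_mem_phi i) (T.pI_mem_phi i)) (T.qI_mem_phi i)

variable {T}

theorem Hyp.pI_mul_self (h : T.Hyp e f₀) (i : ι) : T.pI i e f₀ * T.pI i e f₀ = T.pI i e f₀ := by
  show T.E i e f₀ * T.pI i e f₀ = _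
  rw [T.E_pI, h.ef, one_smul]; rfl

theorem Hyp.qI_mul_self (h : T.Hyp e f₀) (i : ι) : T.qI i e f₀ * T.qI i e f₀ = T.qI i e f₀ := by
  show T.E i f₀ e * T.qI i e f₀ = _
  rw [T.E_qI, h.fe, one_smul]; rfl

theorem Hyp.pI_mul_qI (h : T.Hyp e f₀) (i : ι) : T.pI i e f₀ * T.qI i e f₀ = 0 := by
  show T.E i e f₀ * T.qI i e f₀ = _
  rw [T.E_qI, h.ff, zero_smul]

theorem Hyp.qI_mul_pI (h : T.Hyp e f₀) (i : ι) : T.qI i e f₀ * T.pI i e f₀ = 0 := by
  show T.E i f₀ e * T.pI i e f₀ = _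
  rw [T.E_pI, h.ee, zero_smul]

theorem Hyp.pI_mul_rI (h : T.Hyp e f₀) (i : ι) : T.pI i e f₀ * T.rI i e f₀ = 0 := by
  rw [rI, mul_sub, mul_sub, mul_one, h.pI_mul_self, h.pI_mul_qI]; abel

theorem Hyp.qI_mul_rI (h : T.Hyp e f₀) (i : ι) : T.qI i e f₀ * T.rI i e f₀ = 0 := by
  rw [rI, mul_sub, mul_sub, mul_one, h.qI_mul_self, h.qI_mul_pI]; abel

theorem Hyp.rI_mul_pI (h : T.Hyp e f₀) (i : ι) : T.rI i e f₀ * T.pI i e f₀ = 0 := by
  rw [rI, sub_mul, sub_mul, one_mul, h.pI_mul_self, h.qI_mul_pI]; abel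

theorem Hyp.rI_mul_qI (h : T.Hyp e f₀) (i : ι) : T.rI i e f₀ * T.qI i e f₀ = 0 := by
  rw [rI, sub_mul, sub_mul, one_mul, h.pI_mul_qI, h.qI_mul_self]; abel

theorem Hyp.rI_mul_self (h : T.Hyp e f₀) (i : ι) : T.rI i e f₀ * T.rI i e f₀ = T.rI i e f₀ := by
  conv_lhs => arg 1; rw [rI]
  rw [sub_mul, sub_mul, one_mul, h.pI_mul_rI, h.qI_mul_rI]; abel

theorem Hyp.pI_mul_n (h : T.Hyp e f₀) (i : ι) : T.pI i e f₀ * T.E i e e = T.E i e e := by
  rw [T.pI_E, h.ef, one_smul]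

theorem Hyp.n_mul_qI (h : T.Hyp e f₀) (i : ι) : T.E i e e * T.qI i e f₀ = T.E i e e := by
  rw [T.E_qI, h.fe, one_smul]

theorem Hyp.n_mul_rI (h : T.Hyp e f₀) (i : ι) : T.E i e e * T.rI i e f₀ = 0 := by
  rw [T.E_rI, h.proj_self_e, map_zero]

theorem Hyp.rI_mul_n (h : T.Hyp e f₀) (i : ι) : T.rI i e f₀ * T.E i e e = 0 := by
  rw [T.rI_E, h.proj_self_e, map_zero, LinearMap.zero_apply]

variable (T)

theorem exists_aniso_perp (hw : T.Wide) (h : T.Hyp e f₀) :
    ∃ u, T.f u e = 0 ∧ T.f u f₀ = 0 ∧ T.f u u ≠ 0 := by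
  obtain ⟨w, hw0, hwe, hwf⟩ := hw e f₀ h
  by_cases hww : T.f w w ≠ 0
  · exact ⟨w, hwe, hwf, hww⟩
  rw [not_not] at hww
  obtain ⟨x, hx⟩ := T.exists_f_eq_one hw0
  obtain ⟨v, hv⟩ : ∃ v, v = T.proj e f₀ x := ⟨_, rfl⟩
  have hve : T.f v e = 0 := hv ▸ h.proj_e x
  have hvf : T.f v f₀ = 0 := hv ▸ h.proj_f x
  by_cases hvv : T.f v v ≠ 0
  · exact ⟨v, hve, hvf, hvv⟩
  rw [not_not] at hvv
  have hwv : T.f w v = 1 := by
    rw [hv, T.proj_apply]; simp [hwe, hwf, hx]
  have hvw : T.f v w = 1 := by rw [← T.herm, hwv, map_one]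
  obtain ⟨c, hc⟩ := T.exists_trace_ne
  refine ⟨w + c • v, by simp [hwe, hve], by simp [hwf, hvf], ?_⟩
  simpa [hww, hvv, hwv, hvw, add_comm] using hc

/-! ### Root elements, short root elements, tori -/

theorem n_mul_self (i : ι) {e : A} (he : T.f e e = 0) : T.E i e e * T.E i e e = 0 := by
  rw [T.mul, he, zero_smul]

/-- the generator of a short root element in the radical at `e` -/
def sh (i : ι) (e v : A) (c : F) : R := T.E i v e - T.E i e v + c • T.E i e e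

theorem sh_mul_sh {i : ι} {e v v' : A} (he : T.f e e = 0) (hv : T.f v e = 0) (hv' : T.f v' e = 0) (c c' : F) :
    T.sh i e v c * T.sh i e v' c' = -(T.f v' v • T.E i e e) := by
  simp [sh, mul_add, add_mul, mul_sub, sub_mul, T.mul, he, hv', T.perp_symm hv, T.perp_symm hv']

theorem sh_mul_n {i : ι} {e v : A} (he : T.f e e = 0) (hv : T.f v e = 0) (c : F) :
    T.sh i e v c * T.E i e e = 0 := by
  simp [sh, add_mul, sub_mul, T.mul, he, T.perp_symm hv]

theorem n_mul_sh {i : ι} {e v : A} (he : T.f e e = 0) (hv : T.f v e = 0) (c : F) :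
    T.E i e e * T.sh i e v c = 0 := by
  simp [sh, mul_add, mul_sub, T.mul, he, hv]

theorem ad_sh (i : ι) (e v : A) (c : F) : T.ad (T.sh i e v c) = T.sh i e (-v) (T.σ c) := by
  simp [sh, T.ad_smul, T.ad_E]
  abel

/-- the torus element of a hyperbolic pair and a vector orthogonal to it -/
def tau (i : ι) (e f₀ u : A) (l : F) : R :=
  1 + (l - 1) • T.pI i e f₀ + ((T.σ l)⁻¹ - 1) • T.qI i e f₀ + ((T.σ l * l⁻¹ - 1) * (T.f u u)⁻¹) • T.E i u u

theorem tau_mem_phi (i : ι) (e f₀ u : A) (l : F) : T.tau i e f₀ u l ∈ T.phi i :=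
  add_mem (add_mem (add_mem (T.one_mem_phi i) ((T.phi i).smul_mem _ (T.pI_mem_phi i)))
    ((T.phi i).smul_mem _ (T.qI_mem_phi i))) ((T.phi i).smul_mem _ (T.E_mem_phi i u u))

end Sys

variable (T : Sys F A R ι κ)

/-- the group consists of isometries and contains transvections, short root elements and tori of all factors -/
structure Grp (H : Subgroup Rˣ) : Prop where
  iso : ∀ g ∈ H, T.ad (g : R) * (g : R) = 1
  root : ∀ i e a, T.f e e = 0 → T.σ a = -a → InH H (1 + a • T.E i e e)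
  short : ∀ i e v c, T.f e e = 0 → T.f v e = 0 → c + T.σ c = -T.f v v → InH H (1 + T.sh i e v c)
  tor : ∀ i e f₀ u, T.Hyp e f₀ → T.f u e = 0 → T.f u f₀ = 0 → T.f u u ≠ 0 → ∀ l : F, l ≠ 0 →
    InH H (T.tau i e f₀ u l)

/-- the centres of the root parabolics meet `H` in the root groups of the factors only -/
def Ctr (H : Subgroup Rˣ) : Prop :=
  ∀ i e, e ≠ 0 → T.f e e = 0 → ∀ y, T.Cen i y → InH H (1 + T.E i e e * y) →
    ∃ c : F, T.E i e e * y = c • T.E i e e

/-- a root element of a factor -/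
def IsPure (x : R) : Prop :=
  ∃ i e, e ≠ 0 ∧ T.f e e = 0 ∧ ∃ a : F, a ≠ 0 ∧ T.σ a = -a ∧ x = a • T.E i e e

/-- a conjugate of a root element of a factor -/
def IsRoot (H : Subgroup Rˣ) (x : R) : Prop :=
  ∃ g ∈ H, ∃ y, IsPure T y ∧ x = (g : R) * y * (↑g⁻¹ : R)

variable {T} {H : Subgroup Rˣ}

theorem Grp.inv_eq (G : Grp T H) {g : Rˣ} (hg : g ∈ H) : (↑g⁻¹ : R) = T.ad (g : R) :=
  Units.inv_eq_of_mul_eq_one_left (G.iso g hg)

theorem IsPure.isRoot {x : R} (h : IsPure T x) : IsRoot T H x := ⟨1, one_mem H, x, h, by simp⟩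

theorem IsPure.smul {x : R} (h : IsPure T x) {c : F} (hc : c ≠ 0) (hσ : T.σ c = c) : IsPure T (c • x) := by
  obtain ⟨i, e, he, hee, a, ha, hσa, rfl⟩ := h
  exact ⟨i, e, he, hee, c * a, mul_ne_zero hc ha, by rw [map_mul, hσ, hσa, mul_neg], smul_smul c a _⟩

theorem IsRoot.smul {x : R} (h : IsRoot T H x) {c : F} (hc : c ≠ 0) (hσ : T.σ c = c) : IsRoot T H (c • x) := by
  obtain ⟨g, hg, y, hy, rfl⟩ := h
  exact ⟨g, hg, c • y, hy.smul hc hσ, by rw [mul_smul_comm, smul_mul_assoc]⟩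

theorem IsRoot.conj {x : R} (h : IsRoot T H x) {g : Rˣ} (hg : g ∈ H) :
    IsRoot T H ((g : R) * x * (↑g⁻¹ : R)) := by
  obtain ⟨g', hg', y, hy, rfl⟩ := h
  exact ⟨g * g', mul_mem hg hg', y, hy, by simp [mul_assoc]⟩

theorem IsPure.sq {x : R} (h : IsPure T x) : x * x = 0 := by
  obtain ⟨i, e, -, hee, c, -, -, rfl⟩ := h
  rw [smul_mul_smul, T.n_mul_self i hee, smul_zero]

theorem IsRoot.sq {x : R} (h : IsRoot T H x) : x * x = 0 := by
  obtain ⟨g, -, y, hy, rfl⟩ := h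
  simp only [mul_assoc, Units.inv_mul_cancel_left]
  rw [← mul_assoc y, hy.sq, zero_mul, mul_zero]

theorem IsPure.ne_zero [Nontrivial R] {x : R} (h : IsPure T x) : x ≠ 0 := by
  obtain ⟨i, e, he, -, c, hc, -, rfl⟩ := h
  exact smul_ne_zero hc (T.E_ne_zero i he he)

theorem IsRoot.ne_zero [Nontrivial R] {x : R} (h : IsRoot T H x) : x ≠ 0 := by
  obtain ⟨g, -, y, hy, rfl⟩ := h
  simpa using hy.ne_zero

theorem IsPure.mem (G : Grp T H) {x : R} (h : IsPure T x) : InH H (1 + x) := by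
  obtain ⟨i, e, -, hee, a, -, hσ, rfl⟩ := h
  exact G.root i e a hee hσ

theorem IsRoot.mem (G : Grp T H) {x : R} (h : IsRoot T H x) : InH H (1 + x) := by
  obtain ⟨g, hg, y, hy, rfl⟩ := h
  convert (hy.mem G).conj hg using 1
  rw [mul_add, mul_one, add_mul, Units.mul_inv]

theorem IsRoot.ad (G : Grp T H) {x : R} (h : IsRoot T H x) : T.ad x = -x := by
  obtain ⟨g, hg, y, ⟨i, e, -, -, a, -, hσ, rfl⟩, rfl⟩ := h
  rw [G.inv_eq hg, T.ad_mul, T.ad_ad, T.ad_mul, T.ad_smul, T.ad_E, hσ, neg_smul, neg_mul, mul_neg, ← mul_assoc]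

end CfsgLib.MaxSub.SuPow
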