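import Cfsg.Agent.Lib.MaxSub.SuPow.Cut

/-!
A class of isotropic vectors of a tensor power of a Hermitian space, closed under sums of two non-orthogonal
members with isotropic sum, consists of all isotropic vectors as soon as it contains the products of isotropic
vectors.
-/

set_option autoImplicit false
set_option linter.unusedSectionVars false

namespace CfsgLib.MaxSub.SuPow

variable {F A R ι κ V : Type*} [Field F] [AddCommGroup A] [Module F A] [Ring R] [Algebra F R] [Fintype κ]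
  [Fintype ι] [DecidableEq ι] [AddCommGroup V] [Module F V]

/-- the operators acting on a tensor power of the Hermitian space -/
structure Act (T : Sys F A R ι κ) (V : Type*) [AddCommGroup V] [Module F V] where
  ρ : R →ₐ[F] Module.End F V
  h : V →ₗ[F] V →ₛₗ[T.σ] F
  herm : ∀ x y, T.σ (h x y) = h y x
  h_ad : ∀ r x y, h (ρ r x) y = h x (ρ (T.ad r) y)
  nondeg : ∀ x, (∀ y, h x y = 0) → x = 0
  vec : (ι → A) → V
  vec_add : ∀ a l x y, vec (Function.update a l (x + y)) =
    vec (Function.update a l x) + vec (Function.update a l y)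
  vec_smul : ∀ a l (s : F) x, vec (Function.update a l (s • x)) = s • vec (Function.update a l x)
  vec_E : ∀ l u v a, ρ (T.E l u v) (vec a) = T.f (a l) v • vec (Function.update a l u)
  c : F
  hc : c ≠ 0
  h_vec : ∀ a b, h (vec a) (vec b) = c * ∏ l, T.f (a l) (b l)
  span : Submodule.span F (Set.range vec) = ⊤

variable {T : Sys F A R ι κ} (L : Act T V)

/-- a class of isotropic vectors closed under isotropic sums of two non-orthogonal members -/
structure Act.Closed (P : V → Prop) : Prop where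
  zero : P 0
  iso : ∀ x, P x → L.h x x = 0
  smul : ∀ x (s : F), P x → P (s • x)
  add : ∀ x y, P x → P y → L.h x y ≠ 0 → L.h (x + y) (x + y) = 0 → P (x + y)

/-- all entries isotropic -/
def AllIso (T : Sys F A R ι κ) (a : ι → A) : Prop := ∀ l, T.f (a l) (a l) = 0

variable {L}

namespace Act

theorem perp_symm {x y : V} (h : L.h x y = 0) : L.h y x = 0 := by rw [← L.herm, h, map_zero]

theorem norm_add (x y : V) : L.h (x + y) (x + y) = L.h x x + L.h y y + (L.h x y + T.σ (L.h x y)) := by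
  rw [L.herm]
  simp only [map_add, LinearMap.add_apply]
  ring

theorem Closed.add' {P : V → Prop} (hP : L.Closed P) {x y : V} (hx : P x) (hy : P y) (h0 : L.h x y ≠ 0)
    (hs : T.σ (L.h x y) = -L.h x y) : P (x + y) :=
  hP.add x y hx hy h0 (by rw [norm_add, hP.iso x hx, hP.iso y hy, hs]; ring)

/-- sums of two orthogonal members along one vector -/
theorem Closed.join_one {P : V → Prop} (hP : L.Closed P) {w₁ w₂ z : V} (h₁ : P w₁) (h₂ : P w₂) (hz : P z)
    (h12 : L.h w₁ w₂ = 0) {a b : F} (ha : L.h w₁ z = a) (hb : L.h w₂ z = b) (ha0 : a ≠ 0) (hb0 : b ≠ 0)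
    (hab : a + b ≠ 0) (hσa : T.σ a = -a) (hσb : T.σ b = -b) : P (w₁ + w₂) := by
  have s1 := hP.add' h₁ hz (by rwa [ha]) (by rw [ha]; exact hσa)
  have e1 : L.h (w₁ + z) w₂ = -b := by
    rw [map_add, LinearMap.add_apply, h12, zero_add, ← L.herm, hb, hσb]
  have s2 := hP.add' s1 h₂ (by rw [e1]; exact neg_ne_zero.2 hb0) (by rw [e1, map_neg, hσb])
  have e2 : L.h (w₁ + z + w₂) ((-1 : F) • z) = -(a + b) := by
    rw [map_smulₛₗ, map_neg, map_one, neg_one_smul]
    simp only [map_add, LinearMap.add_apply, ha, hb, hP.iso z hz]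
    ring
  have s3 := hP.add' s2 (hP.smul z (-1) hz) (by rw [e2]; exact neg_ne_zero.2 hab)
    (by rw [e2, map_neg, map_add, hσa, hσb]; ring)
  convert s3 using 1
  module

/-- sums of two orthogonal members along two orthogonal vectors -/
theorem Closed.join_two {P : V → Prop} (hP : L.Closed P) {w₁ w₂ z₁ z₂ : V} (h₁ : P w₁) (h₂ : P w₂) (hz₁ : P z₁)
    (hz₂ : P z₂) (hz : P (z₁ + z₂)) (h12 : L.h w₁ w₂ = 0) (hzz : L.h z₁ z₂ = 0) {r : F} (hr : r ≠ 0)
    (hσ : T.σ r = -r) (a1 : L.h w₁ z₁ = r) (b1 : L.h w₂ z₁ = -r) (a2 : L.h w₁ z₂ = 0) (b2 : L.h w₂ z₂ = r) :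
    P (w₁ + w₂) := by
  have s1 := hP.add' h₁ hz₁ (by rwa [a1]) (by rw [a1]; exact hσ)
  have s2 := hP.add' h₂ hz₂ (by rwa [b2]) (by rw [b2]; exact hσ)
  have e1 : L.h (w₁ + z₁) (w₂ + z₂) = r := by
    simp only [map_add, LinearMap.add_apply, h12, hzz, a2, ← L.herm w₂ z₁, b1, map_neg, hσ]
    ring
  have s3 := hP.add' s1 s2 (by rwa [e1]) (by rw [e1]; exact hσ)
  have e2 : L.h (w₁ + z₁ + (w₂ + z₂)) ((-1 : F) • (z₁ + z₂)) = -r := by
    have i1 := hP.iso z₁ hz₁
    have i2 := hP.iso z₂ hz₂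
    have i3 := perp_symm hzz
    rw [map_smulₛₗ, map_neg, map_one, neg_one_smul]
    simp only [map_add, LinearMap.add_apply, a1, a2, b1, b2, hzz, i1, i2, i3]
    ring
  have s4 := hP.add' s3 (hP.smul _ (-1) hz) (by rw [e2]; exact neg_ne_zero.2 hr) (by rw [e2, map_neg, hσ])
  convert s4 using 1
  module

theorem h_update (a b : ι → A) (l : ι) (u v : A) :
    L.h (L.vec (Function.update a l u)) (L.vec (Function.update b l v)) =
      L.c * (∏ m ∈ Finset.univ.erase l, T.f (a m) (b m)) * T.f u v := by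
  rw [L.h_vec, ← Finset.mul_prod_erase _ _ (Finset.mem_univ l), Function.update_self, Function.update_self,
    Finset.prod_congr rfl fun m hm => by
      rw [Function.update_of_ne (Finset.ne_of_mem_erase hm), Function.update_of_ne (Finset.ne_of_mem_erase hm)]]
  ring

theorem vec_zero {a : ι → A} {l : ι} (h : a l = 0) : L.vec a = 0 := by
  have e := L.vec_smul a l 0 0
  rw [zero_smul, zero_smul, ← h, Function.update_eq_self] at e
  exact e

/-- products with one entry isotropic are combinations of products of isotropic vectors -/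
theorem mem_span_allIso {e₀ g₀ : A} (h₀ : T.Hyp e₀ g₀) (J : Finset ι) (a : ι → A)
    (ha : ∀ l ∉ J, T.f (a l) (a l) = 0) :
    L.vec a ∈ Submodule.span F (L.vec '' {b | AllIso T b ∧ ∀ l ∉ J, b l = a l}) := by
  classical
  induction J using Finset.induction_on generalizing a with
  | empty => exact Submodule.subset_span ⟨a, ⟨fun l => ha l (Finset.notMem_empty l), fun l _ => rfl⟩, rfl⟩
  | insert l J hl ih =>
    obtain ⟨Q, hQ⟩ : ∃ Q, Q = Submodule.span F (L.vec '' {b | AllIso T b ∧ ∀ m ∉ insert l J, b m = a m}) :=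
      ⟨_, rfl⟩
    rw [← hQ]
    have key : ∀ u, T.f u u = 0 → L.vec (Function.update a l u) ∈ Q := fun u hu => by
      refine Submodule.span_le.2 ?_ (ih (Function.update a l u) fun m hm => ?_)
      · rintro _ ⟨b, ⟨hb, hbe⟩, rfl⟩
        rw [hQ]
        refine Submodule.subset_span ⟨b, ⟨hb, fun m hm => ?_⟩, rfl⟩
        rw [Finset.mem_insert, not_or] at hm
        rw [hbe m hm.2, Function.update_of_ne hm.1]
      · rcases eq_or_ne m l with rfl | hml
        · rwa [Function.update_self]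
        · rw [Function.update_of_ne hml]
          exact ha m fun h => (Finset.mem_insert.1 h).elim hml hm
    obtain ⟨c, hc⟩ := T.exists_short (T.proj e₀ g₀ (a l))
    obtain ⟨w, hw⟩ : ∃ w, w = T.proj e₀ g₀ (a l) := ⟨_, rfl⟩
    rw [← hw] at hc
    have hwe : T.f w e₀ = 0 := hw ▸ h₀.proj_e _
    have hwg : T.f w g₀ = 0 := hw ▸ h₀.proj_f _
    have hi : T.f (g₀ + c • e₀ + w) (g₀ + c • e₀ + w) = 0 := by
      simp only [map_add, map_smulₛₗ, LinearMap.add_apply, LinearMap.smul_apply, RingHom.id_apply, smul_eq_mul,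
        h₀.ee, h₀.ff, h₀.ef, h₀.fe, hwe, hwg, T.perp_symm hwe, T.perp_symm hwg]
      linear_combination hc
    have hal : a l = (T.f (a l) g₀ - c) • e₀ + (T.f (a l) e₀ - 1) • g₀ + (g₀ + c • e₀ + w) := by
      rw [hw, T.proj_apply]
      module
    rw [← Function.update_eq_self l a, hal, L.vec_add, L.vec_add, L.vec_smul, L.vec_smul]
    exact add_mem (add_mem (Q.smul_mem _ (key _ h₀.ee)) (Q.smul_mem _ (key _ h₀.ff))) (key _ hi)

section Stages

variable [Finite F] {P : V → Prop} (hP : L.Closed P) (hbase : ∀ a, AllIso T a → P (L.vec a))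
include hP hbase

/-- one entry may be anisotropic -/
theorem one_aniso (hw : T.Wide) (hq : T.Big ∨ ∃ r : F, r ≠ 0 ∧ r + 1 ≠ 0 ∧ T.σ r = r)
    (hnorm : ∀ r : F, T.σ r = r → ∃ x, x * T.σ x = r) {e₀ g₀ : A} (h₀ : T.Hyp e₀ g₀) (hι : ∀ l : ι, ∃ m, m ≠ l)
    (a : ι → A) (l : ι) (ha : ∀ m, m ≠ l → T.f (a m) (a m) = 0) : P (L.vec a) := by
  classical
  by_cases hx : T.f (a l) (a l) = 0
  · exact hbase a fun m => (eq_or_ne m l).elim (fun h => h ▸ hx) (ha m)
  by_cases hz : ∃ m, m ≠ l ∧ a m = 0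
  · obtain ⟨m, -, hm⟩ := hz
    rw [vec_zero hm]; exact hP.zero
  simp only [not_exists, not_and] at hz
  -- an isotropic partner in the other entries
  have hpart : ∀ m, ∃ b, m ≠ l → T.Hyp (a m) b := fun m => by
    by_cases hm : m = l
    · exact ⟨0, fun h => absurd hm h⟩
    · obtain ⟨b, hb⟩ := T.exists_hyp (hz m hm) (ha m hm)
      exact ⟨b, fun _ => hb⟩
  choose b hb using hpart
  have hprod : ∀ u v, L.h (L.vec (Function.update a l u)) (L.vec (Function.update b l v)) = L.c * T.f u v := by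
    intro u v
    rw [h_update, Finset.prod_eq_one fun m hm => (hb m (Finset.ne_of_mem_erase hm)).ef, mul_one]
  have hbb : ∀ u, T.f u u = 0 → AllIso T (Function.update b l u) := fun u hu m => by
    rcases eq_or_ne m l with rfl | hm
    · rwa [Function.update_self]
    · rw [Function.update_of_ne hm]; exact (hb m hm).ff
  have haa : ∀ u, T.f u u = 0 → AllIso T (Function.update a l u) := fun u hu m => by
    rcases eq_or_ne m l with rfl | hm
    · rwa [Function.update_self]
    · rw [Function.update_of_ne hm]; exact ha m hm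
  obtain ⟨x, hxdef⟩ : ∃ x, x = a l := ⟨_, rfl⟩
  rw [← hxdef] at hx
  -- split the anisotropic vector
  obtain ⟨d, hd, hdx⟩ : ∃ d, T.f d d = 0 ∧ T.f x d ≠ 0 := by
    by_cases h1 : T.f x e₀ ≠ 0
    · exact ⟨e₀, h₀.ee, h1⟩
    by_cases h2 : T.f x g₀ ≠ 0
    · exact ⟨g₀, h₀.ff, h2⟩
    rw [not_not] at h1 h2
    obtain ⟨c, hc⟩ := T.exists_short x
    refine ⟨g₀ + c • e₀ + x, ?_, ?_⟩
    · simp only [map_add, map_smulₛₗ, LinearMap.add_apply, LinearMap.smul_apply, RingHom.id_apply, smul_eq_mul,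
        h₀.ee, h₀.ff, h₀.ef, h₀.fe, h1, h2, T.perp_symm h1, T.perp_symm h2]
      linear_combination hc
    · simpa [h1, h2] using hx
  obtain ⟨t, ht⟩ := T.exists_trace (T.σ_self x)
  obtain ⟨e, he⟩ : ∃ e, e = T.σ (t / T.f x d) • d := ⟨_, rfl⟩
  have hxe : T.f x e = t := by
    rw [he, map_smulₛₗ, smul_eq_mul, T.σσ, div_mul_cancel₀ _ hdx]
  have hee : T.f e e = 0 := by simp [he, hd]
  obtain ⟨g, hg⟩ : ∃ g, g = x - e := ⟨_, rfl⟩
  have hgg : T.f g g = 0 := by
    have hex : T.f e x = T.σ t := by rw [← T.herm, hxe]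
    rw [hg]
    simp only [map_sub, LinearMap.sub_apply, hee, hxe, hex]
    linear_combination -ht
  obtain ⟨μ, hμ⟩ : ∃ μ, μ = T.f e g := ⟨_, rfl⟩
  have hμ0 : μ ≠ 0 := by
    intro h0
    apply hx
    have e1 : x = e + g := by rw [hg]; abel
    have h0' : T.f g e = 0 := T.perp_symm (hμ ▸ h0)
    rw [e1]
    simp [hee, hgg, h0', ← hμ, h0]
  obtain ⟨f₀, hf₀⟩ : ∃ f₀, f₀ = (T.σ μ)⁻¹ • g := ⟨_, rfl⟩
  have hh : T.Hyp e f₀ := ⟨hee, by simp [hf₀, hgg], by
    rw [hf₀, map_smulₛₗ, smul_eq_mul, map_inv₀, T.σσ, ← hμ, inv_mul_cancel₀ hμ0]⟩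
  have hgf : g = T.σ μ • f₀ := by rw [hf₀, smul_inv_smul₀ ((map_ne_zero T.σ).2 hμ0)]
  have hvec : L.vec a = L.vec (Function.update a l e) + L.vec (Function.update a l g) := by
    rw [← L.vec_add, show e + g = a l by rw [hg, hxdef]; abel, Function.update_eq_self]
  have h12 : L.h (L.vec (Function.update a l e)) (L.vec (Function.update a l g)) = 0 := by
    obtain ⟨m, hm⟩ := hι l
    rw [h_update, Finset.prod_eq_zero (Finset.mem_erase.2 ⟨hm, Finset.mem_univ m⟩) (ha m hm), mul_zero, zero_mul]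
  rw [hvec]
  obtain ⟨r, hr0, hr⟩ := T.exists_skew
  obtain ⟨u, hue, huf, huu⟩ := T.exists_aniso_perp hw hh
  have hcσ : T.σ L.c = L.c := by
    have h1 := L.herm (L.vec (Function.update a l e)) (L.vec (Function.update b l f₀))
    rw [hprod, hh.ef, mul_one] at h1
    rw [h1, ← Function.update_eq_self l b]
    simp only [Function.update_idem]
    rw [L.h_vec, ← Finset.mul_prod_erase _ _ (Finset.mem_univ l), Function.update_self, Function.update_self,
      hh.fe, one_mul, Finset.prod_eq_one fun m hm => ?_, mul_one]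
    rw [Function.update_of_ne (Finset.ne_of_mem_erase hm), Function.update_of_ne (Finset.ne_of_mem_erase hm)]
    exact (hb m (Finset.ne_of_mem_erase hm)).fe
  obtain ⟨lam, hl'⟩ : ∃ lam, lam = r / L.c := ⟨_, rfl⟩
  have hcl : L.c * lam = r := by rw [hl', mul_div_cancel₀ _ L.hc]
  have hlσ : T.σ lam = -lam := by rw [hl', map_div₀, hr, hcσ, neg_div]
  rcases hq with hB | ⟨ρ, hρ0, hρ1, hρ⟩
  · obtain ⟨e₂, he₂0, he₂, he₂e, he₂f⟩ := hB e f₀ hh
    obtain ⟨f₂, hf₂, hf₂e, hf₂f⟩ : ∃ f₂, T.Hyp e₂ f₂ ∧ T.f f₂ e = 0 ∧ T.f f₂ f₀ = 0 := by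
      obtain ⟨y, hy⟩ := T.exists_f_eq_one he₂0
      obtain ⟨v, hv⟩ : ∃ v, v = T.proj e f₀ y := ⟨_, rfl⟩
      have hve : T.f v e = 0 := hv ▸ hh.proj_e y
      have hvf : T.f v f₀ = 0 := hv ▸ hh.proj_f y
      have h2v : T.f e₂ v = 1 := by
        rw [hv, T.proj_apply, map_sub, map_sub, map_smulₛₗ, map_smulₛₗ, he₂e, he₂f, hy]
        simp
      have hv2 : T.f v e₂ = 1 := by rw [← T.herm, h2v, map_one]
      obtain ⟨c, hc⟩ := T.exists_short v
      refine ⟨v + c • e₂, ⟨he₂, ?_, by simp [h2v, he₂]⟩, by simp [hve, he₂e], by simp [hvf, he₂f]⟩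
      simp only [map_add, map_smulₛₗ, LinearMap.add_apply, LinearMap.smul_apply, RingHom.id_apply, smul_eq_mul,
        he₂, hv2, h2v]
      linear_combination hc
    obtain ⟨β, hβ⟩ : ∃ β, β = T.σ lam := ⟨_, rfl⟩
    obtain ⟨α, hα⟩ : ∃ α, α = T.σ lam / μ := ⟨_, rfl⟩
    obtain ⟨N, hN⟩ : ∃ N, N = α * T.σ β + T.σ α * β := ⟨_, rfl⟩
    obtain ⟨d, hd⟩ := T.exists_trace (r := -N) (by rw [hN, map_neg, map_add, map_mul, map_mul, T.σσ, T.σσ]; ring)
    obtain ⟨w, hwdef⟩ : ∃ w, w = (-(d / T.σ d)) • e₂ + d • f₂ := ⟨_, rfl⟩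
    have heo := T.perp_symm he₂e
    have hfo := T.perp_symm he₂f
    have heo' := T.perp_symm hf₂e
    have hfo' := T.perp_symm hf₂f
    have hwe : T.f e w = 0 := by simp [hwdef, heo, heo']
    have hwf : T.f f₀ w = 0 := by simp [hwdef, hfo, hfo']
    have hwe' := T.perp_symm hwe
    have hwf' := T.perp_symm hwf
    have hwn : T.f w w = N := by
      simp only [hwdef, map_add, map_smulₛₗ, LinearMap.add_apply, LinearMap.smul_apply, RingHom.id_apply,
        smul_eq_mul, he₂, hf₂.ff, hf₂.ef, hf₂.fe, map_neg, map_div₀, T.σσ]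
      rcases eq_or_ne d 0 with h0 | h0
      · rw [h0, map_zero, add_zero] at hd
        rw [h0, map_zero]
        linear_combination -hd
      · have h0' : T.σ d ≠ 0 := (map_ne_zero T.σ).2 h0
        field_simp
        linear_combination -hd
    obtain ⟨z₁, hz₁⟩ : ∃ z₁, z₁ = (-α) • e + β • f₀ + w := ⟨_, rfl⟩
    obtain ⟨z₂, hz₂⟩ : ∃ z₂, z₂ = α • e + e₂ := ⟨_, rfl⟩
    have hwe₂ : T.f w e₂ = d := by simp [hwdef, he₂, hf₂.fe]
    have he₂w : T.f e₂ w = T.σ d := by rw [← T.herm, hwe₂]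
    have i1 : T.f z₁ z₁ = 0 := by
      simp only [hz₁, map_add, map_smulₛₗ, LinearMap.add_apply, LinearMap.smul_apply, RingHom.id_apply,
        smul_eq_mul, hee, hh.ff, hh.ef, hh.fe, hwe, hwf, hwe', hwf', hwn, map_neg]
      linear_combination hN
    have i2 : T.f z₂ z₂ = 0 := by
      simp [hz₂, hee, he₂, heo, he₂e]
    have i12 : T.f (z₁ + z₂) (z₁ + z₂) = 0 := by
      simp only [hz₁, hz₂, map_add, map_smulₛₗ, LinearMap.add_apply, LinearMap.smul_apply, RingHom.id_apply,
        smul_eq_mul, hee, hh.ff, hh.ef, hh.fe, hwe, hwf, hwe', hwf', hwn, map_neg, he₂, heo, hfo, he₂e, he₂f, hwe₂,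
        he₂w]
      linear_combination hd
    refine hP.join_two (hbase _ (haa _ hee)) (hbase _ (haa _ hgg))
      (hbase _ (hbb _ i1)) (hbase _ (hbb _ i2)) (by rw [← L.vec_add]; exact hbase _ (hbb _ i12)) h12 ?_ hr0 hr
      ?_ ?_ ?_ ?_
    · obtain ⟨m, hm⟩ := hι l
      rw [h_update, Finset.prod_eq_zero (Finset.mem_erase.2 ⟨hm, Finset.mem_univ m⟩) (hb m hm).ff, mul_zero,
        zero_mul]
    · rw [hprod, ← hcl]
      congr 1
      simp [hz₁, hee, hh.ef, hwe, hβ, T.σσ]
    · rw [hprod, ← hcl, ← mul_neg]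
      congr 1
      rw [hgf, map_smul, LinearMap.smul_apply, smul_eq_mul, hz₁, hα]
      simp only [map_add, map_smulₛₗ, smul_eq_mul, hh.fe, hh.ff, hwf, map_neg, map_div₀, T.σσ, mul_zero,
        mul_one, add_zero]
      field_simp [(map_ne_zero T.σ).2 hμ0]
    · rw [hprod, show T.f e z₂ = 0 by simp [hz₂, hee, heo], mul_zero]
    · rw [hprod, ← hcl]
      congr 1
      rw [hgf, map_smul, LinearMap.smul_apply, smul_eq_mul, hz₂, hα]
      simp only [map_add, map_smulₛₗ, smul_eq_mul, hh.fe, hfo, map_div₀, T.σσ, mul_one, add_zero]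
      field_simp [(map_ne_zero T.σ).2 hμ0]
  · obtain ⟨β, hβ⟩ : ∃ β, β = T.σ lam := ⟨_, rfl⟩
    obtain ⟨α, hα⟩ : ∃ α, α = T.σ (lam * ρ) / μ := ⟨_, rfl⟩
    obtain ⟨N, hN⟩ : ∃ N, N = α * T.σ β + T.σ α * β := ⟨_, rfl⟩
    obtain ⟨s, hs⟩ := hnorm (-N / T.f u u) (by
      rw [map_div₀, map_neg, T.σ_self, hN, map_add, map_mul, map_mul, T.σσ, T.σσ]; ring)
    obtain ⟨z, hz'⟩ : ∃ z, z = α • e + β • f₀ + s • u := ⟨_, rfl⟩
    have hzi : T.f z z = 0 := by
      simp only [hz', map_add, map_smulₛₗ, LinearMap.add_apply, LinearMap.smul_apply, RingHom.id_apply,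
        smul_eq_mul, hee, hh.ff, hh.ef, hh.fe, hue, huf, T.perp_symm hue, T.perp_symm huf]
      rw [eq_div_iff huu] at hs
      linear_combination hs - hN
    have hr' : T.σ (r * ρ) = -(r * ρ) := by rw [map_mul, hr, hρ, neg_mul]
    refine hP.join_one (hbase _ (haa _ hee)) (hbase _ (haa _ hgg))
      (hbase _ (hbb _ hzi)) h12 (a := r) (b := r * ρ) ?_ ?_ hr0 (mul_ne_zero hr0 hρ0)
      (by rw [show r + r * ρ = r * (ρ + 1) by ring]; exact mul_ne_zero hr0 hρ1) hr hr'
    · rw [hprod, ← hcl]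
      congr 1
      simp [hz', hee, hh.ef, T.perp_symm hue, hβ, T.σσ]
    · rw [hprod, ← hcl, mul_assoc]
      congr 1
      rw [hgf, map_smul, LinearMap.smul_apply, smul_eq_mul, hz', hα]
      simp only [map_add, map_smulₛₗ, smul_eq_mul, hh.fe, hh.ff, T.perp_symm huf, map_mul, map_div₀, T.σσ,
        mul_zero, mul_one, add_zero]
      field_simp [(map_ne_zero T.σ).2 hμ0]

/-- a member and a product of isotropic vectors orthogonal to it -/
theorem join_vec (hone : ∀ a l, (∀ m, m ≠ l → T.f (a m) (a m) = 0) → P (L.vec a)) {e₀ g₀ : A}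
    (h₀ : T.Hyp e₀ g₀) (hι : ∀ l : ι, ∃ m, m ≠ l) {w₁ : V} (h₁ : P w₁) {a : ι → A} (ha : AllIso T a)
    (h12 : L.h w₁ (L.vec a) = 0) : P (w₁ + L.vec a) := by
  classical
  by_cases hz0 : L.vec a = 0
  · rwa [hz0, add_zero]
  obtain ⟨w₂, hw₂⟩ : ∃ w₂, w₂ = L.vec a := ⟨_, rfl⟩
  rw [← hw₂] at h12 hz0 ⊢
  have h₂ : P w₂ := hw₂ ▸ hbase a ha
  by_cases hind : ∃ z l y, AllIso T z ∧ L.h w₁ (L.vec z) * L.h w₂ (L.vec (Function.update z l y)) ≠
      L.h w₁ (L.vec (Function.update z l y)) * L.h w₂ (L.vec z)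
  · obtain ⟨z, l, y, hz, hne⟩ := hind
    obtain ⟨a₁, ha₁⟩ : ∃ a₁, a₁ = L.h w₁ (L.vec z) := ⟨_, rfl⟩
    obtain ⟨a₂, ha₂⟩ : ∃ a₂, a₂ = L.h w₁ (L.vec (Function.update z l y)) := ⟨_, rfl⟩
    obtain ⟨b₁, hb₁⟩ : ∃ b₁, b₁ = L.h w₂ (L.vec z) := ⟨_, rfl⟩
    obtain ⟨b₂, hb₂⟩ : ∃ b₂, b₂ = L.h w₂ (L.vec (Function.update z l y)) := ⟨_, rfl⟩
    rw [← ha₁, ← ha₂, ← hb₁, ← hb₂] at hne
    have hD : a₁ * b₂ - a₂ * b₁ ≠ 0 := sub_ne_zero.2 hne
    obtain ⟨D, hDdef⟩ : ∃ D, D = a₁ * b₂ - a₂ * b₁ := ⟨_, rfl⟩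
    rw [← hDdef] at hD
    -- the vector in the slot with prescribed values
    have solve : ∀ p q : F, ∃ x, L.h w₁ (L.vec (Function.update z l x)) = p ∧
        L.h w₂ (L.vec (Function.update z l x)) = q := by
      intro p q
      refine ⟨T.σ ((p * b₂ - q * a₂) / D) • z l + T.σ ((a₁ * q - b₁ * p) / D) • y, ?_, ?_⟩
      · rw [L.vec_add, L.vec_smul, L.vec_smul, Function.update_eq_self, map_add, map_smulₛₗ, map_smulₛₗ, T.σσ,
          T.σσ, smul_eq_mul, smul_eq_mul, ← ha₁, ← ha₂]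
        field_simp
        rw [hDdef]; ring
      · rw [L.vec_add, L.vec_smul, L.vec_smul, Function.update_eq_self, map_add, map_smulₛₗ, map_smulₛₗ, T.σσ,
          T.σσ, smul_eq_mul, smul_eq_mul, ← hb₁, ← hb₂]
        field_simp
        rw [hDdef]; ring
    obtain ⟨r, hr0, hr⟩ := T.exists_skew
    obtain ⟨x₁, a1, b1⟩ := solve r (-r)
    obtain ⟨x₂, a2, b2⟩ := solve 0 r
    have hmem : ∀ x, P (L.vec (Function.update z l x)) := fun x =>
      hone _ l fun m hm => by rw [Function.update_of_ne hm]; exact hz m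
    refine hP.join_two h₁ h₂ (hmem x₁) (hmem x₂) (by rw [← L.vec_add]; exact hmem _) h12 ?_ hr0 hr a1 b1 a2 b2
    obtain ⟨m, hm⟩ := hι l
    rw [h_update, Finset.prod_eq_zero (Finset.mem_erase.2 ⟨hm, Finset.mem_univ m⟩) (hz m), mul_zero, zero_mul]
  simp only [not_exists, not_and, not_not] at hind
  -- proportional
  let Rel : (ι → A) → (ι → A) → Prop := fun z z' =>
    L.h w₁ (L.vec z) * L.h w₂ (L.vec z') = L.h w₁ (L.vec z') * L.h w₂ (L.vec z)
  let Nz : (ι → A) → Prop := fun z => L.h w₁ (L.vec z) ≠ 0 ∨ L.h w₂ (L.vec z) ≠ 0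
  have trans : ∀ x y z, Nz y → Rel x y → Rel y z → Rel x z := by
    intro x y z hy h1 h2
    simp only [Rel] at h1 h2 ⊢
    rcases hy with hy | hy
    · refine mul_left_cancel₀ hy ?_
      linear_combination L.h w₁ (L.vec x) * h2 + L.h w₁ (L.vec z) * h1
    · refine mul_left_cancel₀ hy ?_
      linear_combination L.h w₂ (L.vec z) * h1 + L.h w₂ (L.vec x) * h2
  have key : ∀ (J : Finset ι) (z z' : ι → A), AllIso T z → AllIso T z' → Nz z → Nz z' →
      (∀ m ∉ J, z' m = z m) → Rel z z' := by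
    intro J
    induction J using Finset.induction_on with
    | empty =>
      intro z z' _ _ _ _ h
      rw [show z' = z from funext fun m => h m (Finset.notMem_empty m)]
    | insert l J hl ih =>
      intro z z' hz hz' hn hn' h
      obtain ⟨y, hy, h1, h2⟩ : ∃ y, T.f y y = 0 ∧ Nz (Function.update z l y) ∧ Nz (Function.update z' l y) := by
        by_cases h1 : Nz (Function.update z' l (z l))
        · exact ⟨z l, hz l, by rwa [Function.update_eq_self], h1⟩
        by_cases h2 : Nz (Function.update z l (z' l))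
        · exact ⟨z' l, hz' l, h2, by rwa [Function.update_eq_self]⟩
        obtain ⟨s, hs0, hs⟩ : ∃ s : F, s ≠ 0 ∧ s * T.f (z' l) (z l) + T.σ (s * T.f (z' l) (z l)) = 0 := by
          by_cases hx : T.f (z' l) (z l) = 0
          · exact ⟨1, one_ne_zero, by simp [hx]⟩
          · obtain ⟨r, hr0, hr⟩ := T.exists_skew
            exact ⟨r / T.f (z' l) (z l), div_ne_zero hr0 hx, by rw [div_mul_cancel₀ _ hx, hr, add_neg_cancel]⟩
        simp only [Nz, not_or, not_not] at h1 h2
        refine ⟨z l + s • z' l, ?_, ?_, ?_⟩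
        · rw [map_mul, T.herm] at hs
          simp only [map_add, map_smulₛₗ, LinearMap.add_apply, LinearMap.smul_apply, RingHom.id_apply,
            smul_eq_mul, hz l, hz' l, mul_zero, add_zero, zero_add]
          linear_combination hs
        · simp only [Nz, L.vec_add, L.vec_smul, Function.update_eq_self, map_add, map_smulₛₗ, h2.1, h2.2,
            smul_zero, add_zero]
          exact hn
        · simp only [Nz, L.vec_add, L.vec_smul, Function.update_eq_self, map_add, map_smulₛₗ, h1.1, h1.2,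
            zero_add, smul_eq_mul, mul_ne_zero_iff, ne_eq, map_eq_zero, hs0, not_false_eq_true, true_and]
          exact hn'
      have hy1 : AllIso T (Function.update z l y) := fun m => by
        rcases eq_or_ne m l with rfl | hm
        · rwa [Function.update_self]
        · rw [Function.update_of_ne hm]; exact hz m
      have hy2 : AllIso T (Function.update z' l y) := fun m => by
        rcases eq_or_ne m l with rfl | hm
        · rwa [Function.update_self]
        · rw [Function.update_of_ne hm]; exact hz' m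
      refine trans _ _ _ h1 (hind z l y hz) (trans _ _ _ h2 (ih _ _ hy1 hy2 h1 h2 fun m hm => ?_) ?_)
      · rcases eq_or_ne m l with rfl | hml
        · simp
        · rw [Function.update_of_ne hml, Function.update_of_ne hml]
          exact h m fun h' => (Finset.mem_insert.1 h').elim hml hm
      · exact (hind z' l y hz').symm
  obtain ⟨z₀, hz₀, hz₀'⟩ : ∃ z, AllIso T z ∧ L.h w₂ (L.vec z) ≠ 0 := by
    by_contra hno
    simp only [not_exists, not_and, not_not] at hno
    refine hz0 (L.nondeg _ fun y => ?_)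
    have hy : y ∈ Submodule.span F (Set.range L.vec) := by rw [L.span]; trivial
    have hle : Submodule.span F (Set.range L.vec) ≤ LinearMap.ker (L.h w₂) := by
      refine Submodule.span_le.2 ?_
      rintro _ ⟨b, rfl⟩
      refine Submodule.span_le.2 ?_ (mem_span_allIso h₀ Finset.univ b fun m hm => absurd (Finset.mem_univ m) hm)
      rintro _ ⟨z, hz, rfl⟩
      exact hno z hz.1
    exact hle hy
  obtain ⟨s, hs⟩ : ∃ s, s = L.h w₁ (L.vec z₀) / L.h w₂ (L.vec z₀) := ⟨_, rfl⟩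
  have e0 : w₁ = s • w₂ := by
    refine sub_eq_zero.1 (L.nondeg _ fun y => ?_)
    have hle : Submodule.span F (Set.range L.vec) ≤ LinearMap.ker (L.h (w₁ - s • w₂)) := by
      refine Submodule.span_le.2 ?_
      rintro _ ⟨b, rfl⟩
      refine Submodule.span_le.2 ?_ (mem_span_allIso h₀ Finset.univ b fun m hm => absurd (Finset.mem_univ m) hm)
      rintro _ ⟨z, hz, rfl⟩
      simp only [SetLike.mem_coe, LinearMap.mem_ker, map_sub, map_smul, LinearMap.sub_apply, LinearMap.smul_apply,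
        smul_eq_mul, sub_eq_zero, hs]
      rw [div_mul_eq_mul_div, eq_div_iff hz₀']
      by_cases hn : Nz z
      · have h := key Finset.univ z₀ z hz₀ hz.1 (Or.inr hz₀') hn fun m hm => absurd (Finset.mem_univ m) hm
        simp only [Rel] at h
        linear_combination -h
      · simp only [Nz, not_or, not_not] at hn
        rw [hn.1, hn.2, zero_mul, mul_zero]
    exact hle (by rw [L.span]; trivial)
  rw [e0, show s • w₂ + w₂ = (s + 1) • w₂ by rw [add_smul, one_smul]]
  exact hP.smul _ _ h₂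

/-- a member and a combination of pairwise orthogonal products orthogonal to it -/
theorem join_span (hone : ∀ a l, (∀ m, m ≠ l → T.f (a m) (a m) = 0) → P (L.vec a)) {e₀ g₀ : A}
    (h₀ : T.Hyp e₀ g₀) (hι : ∀ l : ι, ∃ m, m ≠ l) {B : Set (ι → A)} (hBi : ∀ b ∈ B, AllIso T b)
    (hBB : ∀ b ∈ B, ∀ b' ∈ B, L.h (L.vec b) (L.vec b') = 0) {y : V}
    (hy : y ∈ Submodule.span F (L.vec '' B)) {X : V} (hX : P X) (hXB : ∀ b ∈ B, L.h X (L.vec b) = 0) :
    P (X + y) := by
  suffices key : (∀ X, P X → (∀ b ∈ B, L.h X (L.vec b) = 0) → ∀ s : F, P (X + s • y)) ∧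
      (∀ b ∈ B, L.h y (L.vec b) = 0) by
    simpa using key.1 X hX hXB 1
  clear hX hXB X
  induction hy using Submodule.span_induction with
  | mem y hy =>
    obtain ⟨b, hb, rfl⟩ := hy
    refine ⟨fun X hX hXB s => ?_, fun b' hb' => hBB b hb b' hb'⟩
    rcases eq_or_ne s 0 with rfl | hs
    · rwa [zero_smul, add_zero]
    have h := hP.smul _ s (join_vec hP hbase hone h₀ hι (hP.smul X s⁻¹ hX) (hBi b hb) (by
      rw [map_smul, LinearMap.smul_apply, hXB b hb, smul_zero]))
    rwa [smul_add, smul_inv_smul₀ hs] at h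
  | zero =>
    exact ⟨fun X hX _ s => by rwa [smul_zero, add_zero], fun b _ => by rw [map_zero, LinearMap.zero_apply]⟩
  | add x y _ _ hx hy =>
    refine ⟨fun X hX hXB s => ?_, fun b hb => by rw [map_add, LinearMap.add_apply, hx.2 b hb, hy.2 b hb, add_zero]⟩
    have h := hy.1 (X + s • x) (hx.1 X hX hXB s) (fun b hb => by
      rw [map_add, LinearMap.add_apply, map_smul, LinearMap.smul_apply, hXB b hb, hx.2 b hb, smul_zero, add_zero]) s
    rwa [add_assoc, ← smul_add] at h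
  | smul c x _ hx =>
    refine ⟨fun X hX hXB s => by rw [smul_smul]; exact hx.1 X hX hXB _, fun b hb => ?_⟩
    rw [map_smul, LinearMap.smul_apply, hx.2 b hb, smul_zero]

end Stages

end Act

end CfsgLib.MaxSub.SuPow
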