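import Cfsg.Agent.Lib.MaxSub.SuPow.Close

/-!
The closure of the products of isotropic vectors under isotropic sums consists of all isotropic vectors: the
entries of the factors are reduced one hyperbolic pair at a time.
-/

set_option autoImplicit false
set_option linter.unusedSectionVars false

namespace CfsgLib.MaxSub.SuPow

variable {F A R ι κ V : Type*} [Field F] [AddCommGroup A] [Module F A] [Ring R] [Algebra F R] [Fintype κ]
  [Fintype ι] [DecidableEq ι] [AddCommGroup V] [Module F V]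
variable {T : Sys F A R ι κ} {L : Act T V}

namespace Act

theorem ρ_mul (x y : R) (v : V) : L.ρ (x * y) v = L.ρ x (L.ρ y v) := by rw [map_mul, Module.End.mul_apply]

theorem ρ_E_mul (l : ι) (u v u' v' : A) (X : V) :
    L.ρ (T.E l u v) (L.ρ (T.E l u' v') X) = T.f u' v • L.ρ (T.E l u v') X := by
  rw [← ρ_mul, T.mul, map_smul, LinearMap.smul_apply]

theorem h_E (l : ι) (u v : A) (x y : V) : L.h (L.ρ (T.E l u v) x) y = L.h x (L.ρ (T.E l v u) y) := by
  rw [L.h_ad, T.ad_E]

theorem ρ_rI_vec {e f₀ : A} (l : ι) (a : ι → A) :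
    L.ρ (T.rI l e f₀) (L.vec a) = L.vec (Function.update a l (T.proj e f₀ (a l))) := by
  have h1 : L.vec (Function.update a l (T.proj e f₀ (a l))) =
      L.vec a + (-(T.f (a l) f₀)) • L.vec (Function.update a l e) +
        (-(T.f (a l) e)) • L.vec (Function.update a l f₀) := by
    conv_rhs => arg 1; arg 1; rw [← Function.update_eq_self l a]
    rw [← L.vec_smul, ← L.vec_smul, ← L.vec_add, ← L.vec_add, T.proj_apply]
    congr 2
    module
  rw [h1, Sys.rI, map_sub, map_sub, map_one, LinearMap.sub_apply, LinearMap.sub_apply, Module.End.one_apply,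
    Sys.pI, Sys.qI, L.vec_E, L.vec_E]
  module

/-- the span of the products with given entries outside of `J` and entry at `l` in `N` -/
def part (L : Act T V) (l : ι) (J : Finset ι) (a₀ : ι → A) (N : Submodule F A) : Submodule F V :=
  Submodule.span F (L.vec '' {a | a l ∈ N ∧ ∀ m ∉ insert l J, a m = a₀ m})

/-- the span of the products with given entries outside of `J` -/
def sub (L : Act T V) (J : Finset ι) (a₀ : ι → A) : Submodule F V :=
  Submodule.span F (L.vec '' {a | ∀ m ∉ J, a m = a₀ m})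

theorem E_mem_part {l : ι} {J : Finset ι} {a₀ : ι → A} {N : Submodule F A} {u : A} (hu : u ∈ N) (v : A) {X : V}
    (hX : X ∈ L.sub (insert l J) a₀) : L.ρ (T.E l u v) X ∈ L.part l J a₀ N := by
  induction hX using Submodule.span_induction with
  | mem x hx =>
    obtain ⟨a, ha, rfl⟩ := hx
    rw [L.vec_E]
    refine Submodule.smul_mem _ _ (Submodule.subset_span ⟨_, ⟨by rw [Function.update_self]; exact hu,
      fun m hm => ?_⟩, rfl⟩)
    rw [Function.update_of_ne (fun h : m = l => hm (h ▸ Finset.mem_insert_self l J))]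
    exact ha m hm
  | zero => rw [map_zero]; exact zero_mem _
  | add x y _ _ hx hy => rw [map_add]; exact add_mem hx hy
  | smul c x _ hx => rw [map_smul]; exact Submodule.smul_mem _ _ hx

theorem E_mem_sub {l : ι} {J : Finset ι} (hl : l ∉ J) {a₀ : ι → A} (u v : A) {X : V}
    (hX : X ∈ L.sub (insert l J) a₀) : L.ρ (T.E l u v) X ∈ L.sub J (Function.update a₀ l u) := by
  induction hX using Submodule.span_induction with
  | mem x hx =>
    obtain ⟨a, ha, rfl⟩ := hx
    rw [L.vec_E]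
    refine Submodule.smul_mem _ _ (Submodule.subset_span ⟨_, fun m hm => ?_, rfl⟩)
    rcases eq_or_ne m l with rfl | hml
    · rw [Function.update_self, Function.update_self]
    · rw [Function.update_of_ne hml, Function.update_of_ne hml]
      exact ha m fun h => (Finset.mem_insert.1 h).elim hml hm
  | zero => rw [map_zero]; exact zero_mem _
  | add x y _ _ hx hy => rw [map_add]; exact add_mem hx hy
  | smul c x _ hx => rw [map_smul]; exact Submodule.smul_mem _ _ hx

theorem part_le {l : ι} {J : Finset ι} {a₀ : ι → A} {N : Submodule F A} :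
    L.part l J a₀ N ≤ L.sub (insert l J) a₀ :=
  Submodule.span_mono (Set.image_mono fun _ h => h.2)

/-- spans of products with anisotropic entries outside are non-degenerate -/
theorem sub_nondeg (J : Finset ι) (a₀ : ι → A) (ha₀ : ∀ m ∉ J, T.f (a₀ m) (a₀ m) ≠ 0) {X : V}
    (hX : X ∈ L.sub J a₀) (h : ∀ Z ∈ L.sub J a₀, L.h X Z = 0) : X = 0 := by
  classical
  suffices key : ∀ (C J : Finset ι), C = Jᶜ → ∀ a₀ : ι → A, (∀ m ∉ J, T.f (a₀ m) (a₀ m) ≠ 0) →
      ∀ X ∈ L.sub J a₀, (∀ Z ∈ L.sub J a₀, L.h X Z = 0) → X = 0 from key _ J rfl a₀ ha₀ X hX h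
  intro C
  induction C using Finset.strongInduction with
  | H C ih =>
    intro J hC a₀ ha₀ X hX h
    rcases eq_or_ne J Finset.univ with rfl | hne
    · refine L.nondeg X fun y => h y ?_
      have : y ∈ Submodule.span F (Set.range L.vec) := by rw [L.span]; trivial
      refine Submodule.span_mono ?_ this
      rintro _ ⟨a, rfl⟩
      exact ⟨a, fun m hm => absurd (Finset.mem_univ m) hm, rfl⟩
    obtain ⟨l, hl⟩ : ∃ l, l ∉ J := by
      by_contra hall
      simp only [not_exists, not_not] at hall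
      exact hne (Finset.eq_univ_of_forall hall)
    have hfix : ∀ Y ∈ L.sub J a₀, L.ρ (T.E l (a₀ l) (a₀ l)) Y = T.f (a₀ l) (a₀ l) • Y := by
      intro Y hY
      induction hY using Submodule.span_induction with
      | mem x hx =>
        obtain ⟨a, ha, rfl⟩ := hx
        rw [L.vec_E, ha l hl, show Function.update a l (a₀ l) = a from Function.update_eq_self_iff.2 (ha l hl).symm]
      | zero => simp
      | add x y _ _ hx hy => rw [map_add, hx, hy, smul_add]
      | smul c x _ hx => rw [map_smul, hx, smul_comm]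
    refine ih (insert l J)ᶜ ?_ (insert l J) rfl a₀ (fun m hm => ha₀ m fun h => hm (Finset.mem_insert_of_mem h)) X
      (Submodule.span_mono ?_ hX) fun Z hZ => ?_
    · rw [hC, Finset.compl_insert]
      exact Finset.erase_ssubset (Finset.mem_compl.2 hl)
    · rintro _ ⟨a, ha, rfl⟩
      exact ⟨a, fun m hm => ha m fun h => hm (Finset.mem_insert_of_mem h), rfl⟩
    · have hW : L.ρ (T.E l (a₀ l) (a₀ l)) Z ∈ L.sub J a₀ := by
        have := E_mem_sub hl (a₀ l) (a₀ l) hZ
        rwa [Function.update_eq_self] at this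
      have h1 := h _ hW
      rw [← h_E, hfix X hX, map_smul, LinearMap.smul_apply, smul_eq_mul] at h1
      exact (mul_eq_zero.1 h1).resolve_left (ha₀ l hl)

section Reduce

variable [Finite F] {P : V → Prop} (hP : L.Closed P) (hbase : ∀ a, AllIso T a → P (L.vec a))
  (hone : ∀ a l, (∀ m, m ≠ l → T.f (a m) (a m) = 0) → P (L.vec a)) {e₀ g₀ : A} (h₀ : T.Hyp e₀ g₀)
  (hι : ∀ l : ι, ∃ m, m ≠ l)
include hP hbase hone h₀ hι

/-- the products with one fixed isotropic entry -/
theorem join_line {l : ι} {e : A} (hee : T.f e e = 0) {X : V} (hX : P X)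
    (hXe : ∀ b, AllIso T b → b l = e → L.h X (L.vec b) = 0) {y : V}
    (hy : y ∈ Submodule.span F (L.vec '' {a | a l = e})) : P (X + y) := by
  classical
  refine join_span hP hbase hone h₀ hι (B := {b | AllIso T b ∧ b l = e}) (fun b hb => hb.1)
    (fun b hb b' hb' => ?_) ?_ hX fun b hb => hXe b hb.1 hb.2
  · rw [L.h_vec, Finset.prod_eq_zero (Finset.mem_univ l) (by rw [hb.2, hb'.2, hee]), mul_zero]
  refine Submodule.span_le.2 ?_ hy
  rintro _ ⟨a, (ha : a l = e), rfl⟩
  refine Submodule.span_mono (Set.image_mono ?_) (mem_span_allIso h₀ (Finset.univ.erase l) a fun m hm => ?_)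
  · rintro b ⟨hb, hbe⟩
    exact ⟨hb, (hbe l (Finset.notMem_erase l _)).trans ha⟩
  · rw [Finset.mem_erase, not_and_or, not_not] at hm
    rcases hm with rfl | hm
    · rw [ha, hee]
    · exact absurd (Finset.mem_univ m) hm

theorem P_of_line {l : ι} {e : A} (hee : T.f e e = 0) {y : V}
    (hy : y ∈ Submodule.span F (L.vec '' {a | a l = e})) : P y := by
  have := join_line hP hbase hone h₀ hι hee hP.zero (fun b _ _ => by rw [map_zero, LinearMap.zero_apply]) hy
  rwa [zero_add] at this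

theorem E_mem_line (l : ι) (u v : A) (X : V) :
    L.ρ (T.E l u v) X ∈ Submodule.span F (L.vec '' {a | a l = u}) := by
  have hX : X ∈ Submodule.span F (Set.range L.vec) := by rw [L.span]; trivial
  induction hX using Submodule.span_induction with
  | mem x hx =>
    obtain ⟨a, rfl⟩ := hx
    rw [L.vec_E]
    exact Submodule.smul_mem _ _ (Submodule.subset_span ⟨_, Function.update_self _ _ _, rfl⟩)
  | zero => rw [map_zero]; exact zero_mem _
  | add x y _ _ hx hy => rw [map_add]; exact add_mem hx hy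
  | smul c x _ hx => rw [map_smul]; exact Submodule.smul_mem _ _ hx

omit hP hbase hone h₀ hι in
theorem rI_mem_part {l : ι} {J : Finset ι} {a₀ : ι → A} {N : Submodule F A} {e f₀ : A} (hh : T.Hyp e f₀)
    (he : e ∈ N) (hf : f₀ ∈ N) {X : V} (hX : X ∈ L.part l J a₀ N) :
    L.ρ (T.rI l e f₀) X ∈ L.part l J a₀ (N ⊓ LinearMap.ker (T.f.flip e) ⊓ LinearMap.ker (T.f.flip f₀)) := by
  induction hX using Submodule.span_induction with
  | mem x hx =>
    obtain ⟨a, ⟨hal, ha⟩, rfl⟩ := hx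
    rw [ρ_rI_vec]
    refine Submodule.subset_span ⟨_, ⟨?_, fun m hm => ?_⟩, rfl⟩
    · rw [Function.update_self]
      refine ⟨⟨?_, hh.proj_e _⟩, hh.proj_f _⟩
      rw [T.proj_apply]
      exact N.sub_mem (N.sub_mem hal (N.smul_mem _ he)) (N.smul_mem _ hf)
    · rw [Function.update_of_ne (fun h : m = l => hm (h ▸ Finset.mem_insert_self l J))]
      exact ha m hm
  | zero => rw [map_zero]; exact zero_mem _
  | add x y _ _ hx hy => rw [map_add]; exact add_mem hx hy
  | smul c x _ hx => rw [map_smul]; exact Submodule.smul_mem _ _ hx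

omit hP hbase hone h₀ hι in
theorem h_rI (l : ι) {e f₀ : A} (hh : T.Hyp e f₀) (X : V) :
    L.h (L.ρ (T.rI l e f₀) X) (L.ρ (T.rI l e f₀) X) = L.h X (L.ρ (T.rI l e f₀) X) := by
  rw [L.h_ad, T.ad_rI, ← ρ_mul, hh.rI_mul_self]

omit hP hbase hone h₀ hι in
theorem trace_pair (l : ι) {e f₀ : A} {X : V} (hX : L.h X X = 0) :
    L.h X (L.ρ (T.E l f₀ e) X) + T.σ (L.h X (L.ρ (T.E l f₀ e) X)) = -L.h X (L.ρ (T.rI l e f₀) X) := by
  have h1 : T.σ (L.h X (L.ρ (T.E l f₀ e) X)) = L.h X (L.ρ (T.E l e f₀) X) := by rw [L.herm, h_E]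
  rw [h1, Sys.rI, map_sub, map_sub, map_one, LinearMap.sub_apply, LinearMap.sub_apply, Module.End.one_apply,
    map_sub, map_sub, hX, Sys.pI, Sys.qI]
  ring

/-- **one pair** -/
theorem reduce (hnorm : ∀ r : F, T.σ r = r → ∃ x, x * T.σ x = r) {l : ι} {J : Finset ι}
    {a₀ : ι → A} (ha₀ : ∀ m ∉ insert l J, T.f (a₀ m) (a₀ m) ≠ 0) {N : Submodule F A} {e f₀ : A}
    (hh : T.Hyp e f₀) (he : e ∈ N) (hf : f₀ ∈ N)
    (hnd : ∀ w ∈ N, (∀ w' ∈ N, T.f w w' = 0) → w = 0)
    (ih : ∀ Y ∈ L.part l J a₀ (N ⊓ LinearMap.ker (T.f.flip e) ⊓ LinearMap.ker (T.f.flip f₀)),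
      L.h Y Y = 0 → P Y) :
    ∀ X ∈ L.part l J a₀ N, L.h X X = 0 → P X := by
  classical
  have noq : ∀ e f₀, T.Hyp e f₀ → e ∈ N → f₀ ∈ N →
      (∀ Y ∈ L.part l J a₀ (N ⊓ LinearMap.ker (T.f.flip e) ⊓ LinearMap.ker (T.f.flip f₀)), L.h Y Y = 0 → P Y) →
      ∀ X ∈ L.part l J a₀ N, L.h X X = 0 → L.ρ (T.E l f₀ e) X = 0 → P X := by
    intro e f₀ hh he hf ih X hX hXX hq
    have h1 := trace_pair (L := L) l (e := e) (f₀ := f₀) hXX
    rw [hq, map_zero, map_zero, add_zero, eq_comm, neg_eq_zero] at h1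
    have hr : P (L.ρ (T.rI l e f₀) X) := ih _ (rI_mem_part hh he hf hX) (by rw [h_rI l hh, h1])
    have e1 : X = L.ρ (T.rI l e f₀) X + L.ρ (T.E l e f₀) X := by
      rw [Sys.rI, map_sub, map_sub, map_one, LinearMap.sub_apply, LinearMap.sub_apply, Module.End.one_apply,
        Sys.pI, Sys.qI, hq, sub_zero, sub_add_cancel]
    rw [e1]
    refine join_line hP hbase hone h₀ hι hh.ee hr (fun b _ hbl => ?_) (E_mem_line hP hbase hone h₀ hι l e f₀ X)
    rw [L.h_ad, T.ad_rI, ρ_rI_vec, hbl, hh.proj_self_e,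
      vec_zero (a := Function.update b l 0) (l := l) (Function.update_self _ _ _), map_zero]
  have step : ∀ X ∈ L.part l J a₀ N, L.h X X = 0 → ∀ x ∈ N, T.f x x = 0 → T.f x e = 1 →
      L.h X (L.ρ (T.E l x e) X) ≠ 0 →
      T.σ (L.h X (L.ρ (T.E l x e) X)) = -L.h X (L.ρ (T.E l x e) X) → P X := by
    intro X hX hXX x hxN hxx hxe hv0 hvσ
    obtain ⟨y, hy⟩ : ∃ y, y = L.ρ (T.E l x e) X := ⟨_, rfl⟩
    rw [← hy] at hv0 hvσ
    have hyy : L.h y y = 0 := by
      rw [hy, h_E, ρ_E_mul, hxx, zero_smul, map_zero]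
    have hyX : L.h y X = -L.h X y := by rw [← L.herm, hvσ]
    have hPy : P y := by rw [hy]; exact P_of_line hP hbase hone h₀ hι hxx (E_mem_line hP hbase hone h₀ hι l x e X)
    have hX' : P (X - y) := by
      refine noq e f₀ hh he hf ih _ ((L.part l J a₀ N).sub_mem hX (hy ▸ E_mem_part hxN e (part_le hX))) ?_ ?_
      · simp only [map_sub, LinearMap.sub_apply, hXX, hyy, hyX]
        ring
      · rw [map_sub, hy, ρ_E_mul, hxe, one_smul, sub_self]
    have h1 : L.h (X - y) y = L.h X y := by rw [map_sub, LinearMap.sub_apply, hyy, sub_zero]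
    have := hP.add' hX' hPy (by rwa [h1]) (by rwa [h1])
    rwa [sub_add_cancel] at this
  obtain ⟨r, hr0, hr⟩ := T.exists_skew
  have hN' : ∀ u, u ∈ N → T.f u e = 0 → T.f u f₀ = 0 →
      u ∈ N ⊓ LinearMap.ker (T.f.flip e) ⊓ LinearMap.ker (T.f.flip f₀) := fun u hu h1 h2 => ⟨⟨hu, h1⟩, h2⟩
  have hfc : ∀ X : V, ∀ (c s : F) (u : A), L.h X (L.ρ (T.E l (f₀ + c • e + s • u) e) X) =
      L.h X (L.ρ (T.E l f₀ e) X) + T.σ c * L.h X (L.ρ (T.E l e e) X) + T.σ s * L.h X (L.ρ (T.E l u e) X) := by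
    intro X c s u
    simp only [map_add, map_smul, map_smulₛₗ, LinearMap.add_apply, LinearMap.smul_apply, RingHom.id_apply,
      smul_eq_mul]
  have hxmem : ∀ (c s : F) (u : A), u ∈ N → f₀ + c • e + s • u ∈ N := fun c s u hu =>
    N.add_mem (N.add_mem hf (N.smul_mem _ he)) (N.smul_mem _ hu)
  have hxiso : ∀ (c s : F) (u : A), T.f u e = 0 → T.f u f₀ = 0 → c + T.σ c = -(s * T.σ s * T.f u u) →
      T.f (f₀ + c • e + s • u) (f₀ + c • e + s • u) = 0 ∧ T.f (f₀ + c • e + s • u) e = 1 := by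
    intro c s u h1 h2 hc
    simp only [map_add, map_smulₛₗ, LinearMap.add_apply, LinearMap.smul_apply, RingHom.id_apply, smul_eq_mul,
      hh.ee, hh.ff, hh.ef, hh.fe, h1, h2, T.perp_symm h1, T.perp_symm h2]
    exact ⟨by linear_combination hc, by ring⟩
  have hK : ∀ X : V, T.σ (L.h X (L.ρ (T.E l e e) X)) = L.h X (L.ρ (T.E l e e) X) := fun X => by
    rw [L.herm, h_E]
  -- a short root or centre coefficient does not vanish
  have good : ∀ X ∈ L.part l J a₀ N, L.h X X = 0 → (L.h X (L.ρ (T.E l e e) X) ≠ 0 ∨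
      ∃ u ∈ N, T.f u e = 0 ∧ T.f u f₀ = 0 ∧ L.h X (L.ρ (T.E l u e) X) ≠ 0) → P X := by
    intro X hX hXX hcase
    obtain ⟨b, hb⟩ : ∃ b, b = L.h X (L.ρ (T.E l f₀ e) X) := ⟨_, rfl⟩
    obtain ⟨K, hKdef⟩ : ∃ K, K = L.h X (L.ρ (T.E l e e) X) := ⟨_, rfl⟩
    by_cases hK0 : K = 0
    · obtain ⟨u, hu, hue, huf, hB⟩ := hcase.resolve_left (fun h => h (hKdef ▸ hK0))
      obtain ⟨s, hs⟩ : ∃ s, s = T.σ ((r - b) / L.h X (L.ρ (T.E l u e) X)) := ⟨_, rfl⟩
      obtain ⟨c, hc⟩ := T.exists_trace (r := -(s * T.σ s * T.f u u))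
        (by rw [map_neg, map_mul, map_mul, T.σσ, T.σ_self, mul_comm (T.σ s)])
      have hv : L.h X (L.ρ (T.E l (f₀ + c • e + s • u) e) X) = r := by
        rw [hfc, ← hb, ← hKdef, hK0, hs, T.σσ, div_mul_cancel₀ _ hB]
        ring
      obtain ⟨h1, h2⟩ := hxiso c s u hue huf hc
      exact step X hX hXX _ (hxmem c s u hu) h1 h2 (by rwa [hv]) (by rw [hv]; exact hr)
    have hKσ : T.σ K = K := hKdef ▸ hK X
    obtain ⟨u, hu, hue, huf, hu'⟩ : ∃ u ∈ N, T.f u e = 0 ∧ T.f u f₀ = 0 ∧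
        (T.f u u ≠ 0 ∨ (u = 0 ∧ b + T.σ b = 0)) := by
      by_cases hb0 : b + T.σ b = 0
      · exact ⟨0, zero_mem _, by simp, by simp, Or.inr ⟨rfl, hb0⟩⟩
      by_contra hno
      simp only [not_exists, not_and, not_or, not_not] at hno
      have hzero : ∀ w ∈ N, T.f w e = 0 → T.f w f₀ = 0 → w = 0 := by
        intro w hw hwe hwf
        refine hnd w hw fun w' hw' => ?_
        obtain ⟨v, hv⟩ : ∃ v, v = T.proj e f₀ w' := ⟨_, rfl⟩
        have hvN : v ∈ N := by
          rw [hv, T.proj_apply]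
          exact N.sub_mem (N.sub_mem hw' (N.smul_mem _ he)) (N.smul_mem _ hf)
        have hve : T.f v e = 0 := hv ▸ hh.proj_e w'
        have hvf : T.f v f₀ = 0 := hv ▸ hh.proj_f w'
        have hwv : T.f w w' = T.f w v := by
          rw [hv, T.proj_apply, map_sub, map_sub, map_smulₛₗ, map_smulₛₗ, hwe, hwf]
          simp
        rw [hwv]
        have hs : ∀ s : F, s * T.f w v + T.σ s * T.f v w = 0 := fun s => by
          have h1 := (hno (v + s • w) (N.add_mem hvN (N.smul_mem _ hw)) (by simp [hve, hwe]) (by simp [hvf, hwf])).1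
          simp only [map_add, map_smulₛₗ, LinearMap.add_apply, LinearMap.smul_apply, RingHom.id_apply,
            smul_eq_mul, (hno v hvN hve hvf).1, (hno w hw hwe hwf).1, mul_zero, add_zero, zero_add] at h1
          linear_combination h1
        obtain ⟨μ, hμ⟩ := T.σ_ne
        have h1 := hs 1
        have h2 := hs μ
        rw [map_one, one_mul, one_mul] at h1
        refine (mul_eq_zero.1 (show (T.σ μ - μ) * T.f w v = 0 by linear_combination T.σ μ * h1 - h2)).resolve_left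
          (sub_ne_zero.2 hμ)
      have hrX : L.ρ (T.rI l e f₀) X = 0 := by
        have h1 := rI_mem_part (L := L) hh he hf hX
        refine (Submodule.mem_bot F).1 (Submodule.span_le.2 ?_ h1)
        rintro _ ⟨a, ⟨⟨⟨ha1, ha2⟩, ha3⟩, -⟩, rfl⟩
        rw [SetLike.mem_coe, Submodule.mem_bot]
        exact vec_zero (hzero _ ha1 ha2 ha3)
      have h1 := trace_pair (L := L) l (e := e) (f₀ := f₀) hXX
      rw [hrX, map_zero, neg_zero, ← hb] at h1
      exact hb0 h1
    obtain ⟨B, hB⟩ : ∃ B, B = L.h X (L.ρ (T.E l u e) X) := ⟨_, rfl⟩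
    obtain ⟨a, ha⟩ : ∃ a, a = T.f u u := ⟨_, rfl⟩
    have haσ : T.σ a = a := ha ▸ T.σ_self u
    obtain ⟨s, hs⟩ : ∃ s : F, (b + T.σ b) - s * T.σ s * a * K + (T.σ s * B + s * T.σ B) = 0 := by
      rcases hu' with hu' | ⟨-, hb0⟩
      · have ha0 : a ≠ 0 := ha ▸ hu'
        obtain ⟨t, ht⟩ := hnorm (((b + T.σ b) + B * T.σ B / (a * K)) / (a * K)) (by
          rw [map_div₀, map_add, map_add, map_div₀, map_mul, map_mul, T.σσ, T.σσ, haσ, hKσ]; ring)
        refine ⟨B / (a * K) + t, ?_⟩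
        rw [eq_div_iff (mul_ne_zero ha0 hK0)] at ht
        rw [map_add, map_div₀, map_mul, haσ, hKσ]
        field_simp at ht ⊢
        linear_combination -ht
      · exact ⟨0, by rw [map_zero]; linear_combination hb0⟩
    obtain ⟨c, hc⟩ := T.exists_trace (r := -(s * T.σ s * a)) (by
      rw [map_neg, map_mul, map_mul, T.σσ, haσ, mul_comm (T.σ s)])
    have hval : ∀ d, T.σ d = -d → ∃ x ∈ N, T.f x x = 0 ∧ T.f x e = 1 ∧
        L.h X (L.ρ (T.E l x e) X) = b + T.σ c * K + T.σ s * B + T.σ d * K ∧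
        T.σ (L.h X (L.ρ (T.E l x e) X)) = -L.h X (L.ρ (T.E l x e) X) := by
      intro d hd
      obtain ⟨h1, h2⟩ := hxiso (c + d) s u hue huf (by rw [map_add, hd, ← ha]; linear_combination hc)
      have e1 : L.h X (L.ρ (T.E l (f₀ + (c + d) • e + s • u) e) X) = b + T.σ c * K + T.σ s * B + T.σ d * K := by
        rw [hfc, ← hb, ← hKdef, ← hB, map_add]; ring
      refine ⟨_, hxmem _ s u hu, h1, h2, e1, ?_⟩
      rw [e1]
      simp only [map_add, map_mul, T.σσ, hKσ, hd, map_neg]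
      linear_combination hs + K * hc
    by_cases hv : b + T.σ c * K + T.σ s * B = 0
    · obtain ⟨x, hxN, h1, h2, e1, e2⟩ := hval r hr
      refine step X hX hXX x hxN h1 h2 ?_ e2
      rw [e1, hv, zero_add, hr]
      exact mul_ne_zero (neg_ne_zero.2 hr0) hK0
    · obtain ⟨x, hxN, h1, h2, e1, e2⟩ := hval 0 (by simp)
      refine step X hX hXX x hxN h1 h2 ?_ e2
      rw [e1, map_zero, zero_mul, add_zero]
      exact hv
  intro X hX hXX
  by_cases hp : L.ρ (T.E l e f₀) X = 0
  · refine noq f₀ e hh.symm hf he (fun Y hY => ih Y ?_) X hX hXX hp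
    rwa [inf_right_comm]
  obtain ⟨b, hb⟩ : ∃ b, b = L.h X (L.ρ (T.E l f₀ e) X) := ⟨_, rfl⟩
  by_cases hK0 : L.h X (L.ρ (T.E l e e) X) ≠ 0
  · exact good X hX hXX (Or.inl hK0)
  rw [not_not] at hK0
  by_cases hu : ∃ u ∈ N, T.f u e = 0 ∧ T.f u f₀ = 0 ∧ L.h X (L.ρ (T.E l u e) X) ≠ 0
  · exact good X hX hXX (Or.inr hu)
  simp only [not_exists, not_and, not_not] at hu
  by_cases hb1 : b ≠ 0 ∧ T.σ b = -b
  · exact step X hX hXX f₀ hf hh.ff hh.fe (hb ▸ hb1.1) (hb ▸ hb1.2)
  have hq : ∀ Z ∈ L.part l J a₀ N, L.h X (L.ρ (T.E l f₀ e) Z) ≠ 0 →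
      ∃ Z' ∈ L.part l J a₀ N, L.h X (L.ρ (T.E l f₀ e) Z') = r := fun Z hZ h =>
    ⟨T.σ (r / L.h X (L.ρ (T.E l f₀ e) Z)) • Z, Submodule.smul_mem _ _ hZ, by
      rw [map_smul, map_smulₛₗ, T.σσ, smul_eq_mul, div_mul_cancel₀ _ h]⟩
  -- a change along the partner
  have pre : ∀ Z ∈ L.part l J a₀ N, L.h X (L.ρ (T.E l f₀ e) Z) = r →
      (∀ X₂, X₂ = X + L.ρ (T.E l f₀ e) Z → L.h X₂ X₂ = 0 →
        L.h X₂ (L.ρ (T.E l f₀ e) X₂) = b + r →
        (∀ u, T.f u f₀ = 0 → L.h X₂ (L.ρ (T.E l u e) X₂) =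
          L.h X (L.ρ (T.E l u e) X) + L.h X (L.ρ (T.E l u e) Z)) →
        X₂ ∈ L.part l J a₀ N → P X₂) → P X := by
    intro Z hZ hr' hfin
    obtain ⟨y, hy⟩ : ∃ y, y = L.ρ (T.E l f₀ e) Z := ⟨_, rfl⟩
    rw [← hy] at hr'
    have hyy : L.h y y = 0 := by rw [hy, h_E, ρ_E_mul, hh.ff, zero_smul, map_zero]
    have hyX : L.h y X = -r := by rw [← L.herm, hr', hr]
    have hyE : ∀ u, T.f u f₀ = 0 → ∀ W, L.h y (L.ρ (T.E l u e) W) = 0 := fun u huf W => by
      rw [hy, h_E, ρ_E_mul, huf, zero_smul, map_zero]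
    have e1 : ∀ u, L.ρ (T.E l u e) y = L.ρ (T.E l u e) Z := fun u => by
      rw [hy, ρ_E_mul, hh.fe, one_smul]
    have h2 : P (X + y) := by
      refine hfin _ (by rw [hy]) ?_ ?_ ?_ ((L.part l J a₀ N).add_mem hX (hy ▸ E_mem_part hf e (part_le hZ)))
      · simp only [map_add, LinearMap.add_apply, hXX, hr', hyX, hyy]
        ring
      · simp only [map_add, LinearMap.add_apply, e1, ← hy, hyy, hr', ← hb, hyE f₀ hh.ff]
        ring
      · intro u huf
        simp only [map_add, LinearMap.add_apply, e1, hyE u huf, add_zero]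
    have hPy : P y := hy ▸ P_of_line hP hbase hone h₀ hι hh.ff (E_mem_line hP hbase hone h₀ hι l f₀ e Z)
    have h3 : L.h (X + y) ((-1 : F) • y) = -r := by
      rw [map_smulₛₗ, map_neg, map_one, neg_one_smul, map_add, LinearMap.add_apply, hr', hyy, add_zero]
    have := hP.add' h2 (hP.smul y (-1) hPy) (by rw [h3]; exact neg_ne_zero.2 hr0) (by rw [h3, map_neg, hr])
    convert this using 1
    module
  by_cases hb0 : b = 0
  · obtain ⟨Z, hZ, hZr⟩ : ∃ Z ∈ L.part l J a₀ N, L.h X (L.ρ (T.E l f₀ e) Z) ≠ 0 := by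
      by_contra hno
      simp only [not_exists, not_and, not_not] at hno
      refine hp (sub_nondeg (insert l J) a₀ ha₀ (part_le (E_mem_part he f₀ (part_le hX))) fun W hW => ?_)
      have := hno _ (E_mem_part hf e hW)
      rwa [ρ_E_mul, hh.fe, one_smul, ← h_E] at this
    obtain ⟨Z', hZ', hZr'⟩ := hq Z hZ hZr
    refine pre Z' hZ' hZr' fun X₂ _ hX2 hb2 _ hm => step X₂ hm hX2 f₀ hf hh.ff hh.fe ?_ ?_
    · rw [hb2, hb0, zero_add]; exact hr0
    · rw [hb2, hb0, zero_add]; exact hr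
  -- the short coefficients can be made non-zero
  have hbt : b + T.σ b ≠ 0 := fun h => hb1 ⟨hb0, eq_neg_of_add_eq_zero_right h⟩
  obtain ⟨u, hu1, hue, huf, Z₁, hZ₁, hne⟩ : ∃ u ∈ N, T.f u e = 0 ∧ T.f u f₀ = 0 ∧ ∃ Z ∈ L.part l J a₀ N,
      L.h X (L.ρ (T.E l u e) Z) ≠ 0 := by
    by_contra hno
    simp only [not_exists, not_and, not_not] at hno
    have h1 : ∀ Y ∈ L.part l J a₀ (N ⊓ LinearMap.ker (T.f.flip e) ⊓ LinearMap.ker (T.f.flip f₀)),
        L.h X Y = 0 := by
      intro Y hY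
      induction hY using Submodule.span_induction with
      | mem y hy =>
        obtain ⟨a, ⟨⟨⟨ha1, ha2⟩, ha3⟩, ha⟩, rfl⟩ := hy
        have := hno (a l) ha1 ha2 ha3 (L.vec (Function.update a l f₀))
          (Submodule.subset_span ⟨_, ⟨by rw [Function.update_self]; exact hf, fun m hm => by
            rw [Function.update_of_ne (fun h : m = l => hm (h ▸ Finset.mem_insert_self l J))]; exact ha m hm⟩,
            rfl⟩)
        rwa [L.vec_E, Function.update_self, hh.fe, one_smul, Function.update_idem, Function.update_eq_self] at this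
      | zero => rw [map_zero]
      | add x y _ _ hx hy => rw [map_add, hx, hy, add_zero]
      | smul c x _ hx => rw [map_smulₛₗ, hx, smul_zero]
    have h2 := trace_pair (L := L) l (e := e) (f₀ := f₀) hXX
    rw [h1 _ (rI_mem_part hh he hf hX), neg_zero, ← hb] at h2
    exact hbt h2
  obtain ⟨Z₀, hZ₀, hZ₀r⟩ := hq X hX (hb ▸ hb0)
  obtain ⟨Z, hZ, hZr, hZne⟩ : ∃ Z ∈ L.part l J a₀ N, L.h X (L.ρ (T.E l f₀ e) Z) = r ∧
      L.h X (L.ρ (T.E l u e) Z) ≠ 0 := by
    by_cases h : L.h X (L.ρ (T.E l u e) Z₀) ≠ 0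
    · exact ⟨Z₀, hZ₀, hZ₀r, h⟩
    rw [not_not] at h
    refine ⟨Z₀ + (Z₁ - T.σ (L.h X (L.ρ (T.E l f₀ e) Z₁) / r) • Z₀),
      add_mem hZ₀ (sub_mem hZ₁ (Submodule.smul_mem _ _ hZ₀)), ?_, ?_⟩
    · simp only [map_add, map_sub, map_smul, map_smulₛₗ, hZ₀r, T.σσ, smul_eq_mul, div_mul_cancel₀ _ hr0,
        sub_self, add_zero]
    · simp only [map_add, map_sub, map_smul, map_smulₛₗ, h, smul_zero, sub_zero, zero_add]
      exact hne
  refine pre Z hZ hZr fun X₂ _ hX2 _ hu2 hm => good X₂ hm hX2 (Or.inr ⟨u, hu1, hue, huf, ?_⟩)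
  rw [hu2 u huf, hu u hu1 hue huf, zero_add]
  exact hZne

/-- all isotropic combinations of products with given entries outside of a set -/
theorem sub_mem (hnorm : ∀ r : F, T.σ r = r → ∃ x, x * T.σ x = r) [FiniteDimensional F A] :
    ∀ (J : Finset ι) (a₀ : ι → A), ∀ X ∈ L.sub J a₀, L.h X X = 0 → P X := by
  classical
  intro J
  induction J using Finset.induction_on with
  | empty =>
    intro a₀ X hX hXX
    have hs : X ∈ Submodule.span F {L.vec a₀} := by
      refine Submodule.span_mono ?_ hX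
      rintro _ ⟨a, ha, rfl⟩
      rw [show a = a₀ from funext fun m => ha m (Finset.notMem_empty m)]
      exact rfl
    obtain ⟨s, rfl⟩ := Submodule.mem_span_singleton.1 hs
    rcases eq_or_ne s 0 with rfl | hs0
    · rw [zero_smul]; exact hP.zero
    rw [map_smulₛₗ, map_smul, LinearMap.smul_apply, L.h_vec, smul_eq_mul, smul_eq_mul] at hXX
    obtain ⟨l, -, hl⟩ := Finset.prod_eq_zero_iff.1
      ((mul_eq_zero.1 ((mul_eq_zero.1 ((mul_eq_zero.1 hXX).resolve_left ((map_ne_zero T.σ).2 hs0))).resolve_left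
        hs0)).resolve_left L.hc)
    exact hP.smul _ s (P_of_line hP hbase hone h₀ hι hl (Submodule.subset_span ⟨a₀, rfl, rfl⟩))
  | insert l J hl ih =>
    intro a₀ X hX hXX
    by_cases hout : ∃ m ∉ insert l J, T.f (a₀ m) (a₀ m) = 0
    · obtain ⟨m, hm, hmm⟩ := hout
      refine P_of_line hP hbase hone h₀ hι (l := m) hmm (Submodule.span_mono (Set.image_mono fun a ha => ?_) hX)
      exact ha m hm
    simp only [not_exists, not_and] at hout
    suffices key : ∀ (n : ℕ) (N : Submodule F A), Module.finrank F N ≤ n →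
        (∀ w ∈ N, (∀ w' ∈ N, T.f w w' = 0) → w = 0) → ∀ Y ∈ L.part l J a₀ N, L.h Y Y = 0 → P Y by
      refine key _ ⊤ le_rfl (fun w _ h => T.eq_zero_of_perp fun v => h v trivial) X ?_ hXX
      refine Submodule.span_mono ?_ hX
      rintro _ ⟨a, ha, rfl⟩
      exact ⟨a, ⟨trivial, ha⟩, rfl⟩
    intro n
    induction n using Nat.strong_induction_on with
    | _ n ihn =>
      intro N hn hnd Y hY hYY
      by_cases hiso : ∃ e ∈ N, e ≠ 0 ∧ T.f e e = 0
      swap
      · simp only [not_exists, not_and] at hiso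
        obtain ⟨x, hx⟩ : ∃ x, ∀ y ∈ N, ∃ s : F, y = s • x := by
          by_cases h0 : ∀ y ∈ N, y = 0
          · exact ⟨0, fun y hy => ⟨0, by rw [h0 y hy, smul_zero]⟩⟩
          simp only [not_forall] at h0
          obtain ⟨x, hx, hx0⟩ := h0
          have hxx := hiso x hx hx0
          refine ⟨x, fun y hy => ⟨T.f y x / T.f x x, ?_⟩⟩
          by_contra hne
          obtain ⟨y', hy'⟩ : ∃ y', y' = y - (T.f y x / T.f x x) • x := ⟨_, rfl⟩
          have hy'N : y' ∈ N := hy' ▸ N.sub_mem hy (N.smul_mem _ hx)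
          have hy'0 : y' ≠ 0 := fun h => hne (sub_eq_zero.1 (hy'.symm.trans h))
          have hy'x : T.f y' x = 0 := by
            rw [hy', map_sub, LinearMap.sub_apply, map_smul, LinearMap.smul_apply, smul_eq_mul,
              div_mul_cancel₀ _ hxx, sub_self]
          have hy'y := hiso y' hy'N hy'0
          obtain ⟨s, hs⟩ := hnorm (-T.f x x / T.f y' y') (by rw [map_div₀, map_neg, T.σ_self, T.σ_self])
          have hz : x + s • y' = 0 := by
            by_contra hz0
            refine hiso _ (N.add_mem hx (N.smul_mem _ hy'N)) hz0 ?_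
            simp only [map_add, map_smulₛₗ, LinearMap.add_apply, LinearMap.smul_apply, RingHom.id_apply,
              smul_eq_mul, hy'x, T.perp_symm hy'x]
            rw [eq_div_iff hy'y] at hs
            linear_combination hs
          have h1 := congrArg (fun v => T.f v x) hz
          simp only [map_add, map_smul, LinearMap.add_apply, LinearMap.smul_apply, hy'x, smul_zero, add_zero,
            map_zero, LinearMap.zero_apply] at h1
          exact hxx h1
        refine ih (Function.update a₀ l x) Y (Submodule.span_le.2 ?_ hY) hYY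
        rintro _ ⟨a, ⟨hal, ha⟩, rfl⟩
        obtain ⟨s, hs⟩ := hx _ hal
        rw [← Function.update_eq_self l a, hs, L.vec_smul]
        refine Submodule.smul_mem _ s (Submodule.subset_span ⟨_, fun m hm => ?_, rfl⟩)
        rcases eq_or_ne m l with rfl | hml
        · rw [Function.update_self, Function.update_self]
        · rw [Function.update_of_ne hml, Function.update_of_ne hml]
          exact ha m fun h => (Finset.mem_insert.1 h).elim hml hm
      obtain ⟨e, he, he0, hee⟩ := hiso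
      obtain ⟨y, hy, hey⟩ : ∃ y ∈ N, T.f e y ≠ 0 := by
        by_contra hno
        simp only [not_exists, not_and, not_not] at hno
        exact he0 (hnd e he hno)
      obtain ⟨z, hz⟩ : ∃ z, z = (T.σ (T.f e y))⁻¹ • y := ⟨_, rfl⟩
      have hzN : z ∈ N := hz ▸ N.smul_mem _ hy
      have hez : T.f e z = 1 := by
        rw [hz, map_smulₛₗ, map_inv₀, T.σσ, smul_eq_mul, inv_mul_cancel₀ hey]
      have hze : T.f z e = 1 := by rw [← T.herm, hez, map_one]
      obtain ⟨c, hc⟩ := T.exists_short z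
      have hh : T.Hyp e (z + c • e) := ⟨hee, by
        simp only [map_add, map_smulₛₗ, LinearMap.add_apply, LinearMap.smul_apply, RingHom.id_apply, smul_eq_mul,
          hee, hez, hze]
        linear_combination hc, by simp [hez, hee]⟩
      have hfN : z + c • e ∈ N := N.add_mem hzN (N.smul_mem _ he)
      refine reduce hP hbase hone h₀ hι hnorm hout hh he hfN hnd (fun W hW hWW => ?_) Y hY hYY
      have hlt : N ⊓ LinearMap.ker (T.f.flip e) ⊓ LinearMap.ker (T.f.flip (z + c • e)) < N :=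
        lt_of_le_of_ne (inf_le_left.trans inf_le_left) fun h => by
          have h1 := hfN
          rw [← h] at h1
          exact one_ne_zero (hh.fe.symm.trans h1.1.2)
      refine ihn _ (lt_of_lt_of_le (Submodule.finrank_lt_finrank_of_lt hlt) hn) _ le_rfl (fun w hw h => ?_) W hW hWW
      refine hnd w hw.1.1 fun w' hw' => ?_
      have h1 := h (T.proj e (z + c • e) w') ⟨⟨by
        rw [T.proj_apply]
        exact N.sub_mem (N.sub_mem hw' (N.smul_mem _ he)) (N.smul_mem _ hfN), hh.proj_e _⟩, hh.proj_f _⟩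
      rw [T.proj_apply, map_sub, map_sub, map_smulₛₗ, map_smulₛₗ] at h1
      have e1 : T.f w e = 0 := hw.1.2
      have e2 : T.f w (z + c • e) = 0 := hw.2
      simpa [e1, e2] using h1

end Reduce

/-- **closing up**: all isotropic vectors -/
theorem Closed.mem_of_isotropic [Finite F] [FiniteDimensional F A] {P : V → Prop} (hP : L.Closed P)
    (hbase : ∀ a, AllIso T a → P (L.vec a)) (hw : T.Wide)
    (hq : T.Big ∨ ∃ r : F, r ≠ 0 ∧ r + 1 ≠ 0 ∧ T.σ r = r) (hnorm : ∀ r : F, T.σ r = r → ∃ x, x * T.σ x = r)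
    {e₀ g₀ : A} (h₀ : T.Hyp e₀ g₀) (hι : ∀ l : ι, ∃ m, m ≠ l) {X : V} (hX : L.h X X = 0) : P X := by
  refine sub_mem hP hbase (one_aniso hP hbase hw hq hnorm h₀ hι) h₀ hι hnorm Finset.univ (fun _ => 0) X ?_ hX
  have : X ∈ Submodule.span F (Set.range L.vec) := by rw [L.span]; trivial
  refine Submodule.span_mono ?_ this
  rintro _ ⟨a, rfl⟩
  exact ⟨a, fun m hm => absurd (Finset.mem_univ m) hm, rfl⟩

end Act

end CfsgLib.MaxSub.SuPow
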