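import Cfsg.Agent.Lib.MaxSub.SuPow.Radical

/-!
Tensor powers of a Hermitian space: an additive group of operators which is stable under root and short root
elements of a factor and has a member not commuting with the factor contains a product with a root element of
the factor.
-/

set_option autoImplicit false
set_option linter.unusedSectionVars false

namespace CfsgLib.MaxSub.SuPow

variable {F A R ι κ : Type*} [Field F] [AddCommGroup A] [Module F A] [Ring R] [Algebra F R] [Fintype κ]
variable {T : Sys F A R ι κ}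

/-- stable under the root and short root elements of the factor `i`, acting by conjugation -/
structure StableAt (T : Sys F A R ι κ) (i : ι) (Z : AddSubgroup R) : Prop where
  root : ∀ e a, T.f e e = 0 → T.σ a = -a → ∀ z ∈ Z, (1 + a • T.E i e e) * z * (1 - a • T.E i e e) - z ∈ Z
  short : ∀ e v c, T.f e e = 0 → T.f v e = 0 → c + T.σ c = -T.f v v → ∀ z ∈ Z,
    (1 + T.sh i e v c) * z * (1 + T.sh i e (-v) (T.σ c)) - z ∈ Z

theorem diff_root (n y : R) (l : F) :
    (1 + l • n) * y * (1 - l • n) - y = l • (n * y - y * n) - (l * l) • (n * y * n) := by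
  simp only [add_mul, mul_sub, one_mul, mul_one, smul_mul_assoc, mul_smul_comm, smul_smul, smul_sub, smul_add,
    mul_assoc]
  abel

theorem diff_two {n S S' y : R} (l m : F) (h1 : S * n = 0) (h2 : n * S' = 0) :
    (1 + S) * (l • (n * y - y * n) - m • (n * y * n)) * (1 + S') - (l • (n * y - y * n) - m • (n * y * n)) =
      l • (n * y * S' - S * y * n) := by
  have h1' : ∀ x, S * (n * x) = 0 := fun x => by rw [← mul_assoc, h1, zero_mul]
  simp only [add_mul, mul_add, one_mul, mul_one, mul_sub, sub_mul, smul_mul_assoc, mul_smul_comm, smul_sub,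
    smul_add, mul_assoc, h1', h2, mul_zero, zero_mul, smul_zero]
  abel

theorem diff_three {n S S' P P' y : R} (l : F) (h1 : P * n = 0) (h2 : n * P' = 0) :
    (1 + P) * (l • (n * y * S' - S * y * n)) * (1 + P') - l • (n * y * S' - S * y * n) =
      l • (n * y * (S' * P') - P * S * y * n) := by
  have h1' : ∀ x, P * (n * x) = 0 := fun x => by rw [← mul_assoc, h1, zero_mul]
  simp only [add_mul, mul_add, one_mul, mul_one, mul_sub, sub_mul, smul_mul_assoc, mul_smul_comm, smul_sub,
    smul_add, mul_assoc, h1', h2, mul_zero, zero_mul, smul_zero]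
  abel

namespace Sys

variable (T)

theorem blk_smul_left (i : ι) (c : F) (u v : A) (x : R) : T.blk i (c • u) v x = T.σ c • T.blk i u v x := by
  simp [blk, map_smulₛₗ, Finset.smul_sum]

theorem blk_smul_right (i : ι) (c : F) (u v : A) (x : R) : T.blk i u (c • v) x = c • T.blk i u v x := by
  simp [blk, Finset.smul_sum]

/-- a scalar for a short root element -/
theorem exists_short (v : A) : ∃ c : F, c + T.σ c = -T.f v v :=
  T.exists_trace (by rw [map_neg, T.σ_self])

/-- the root elements of isotropic vectors generate a factor -/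
theorem cen_of_isotropic {i : ι} {e f₀ : A} (h : T.Hyp e f₀) {y : R}
    (hy : ∀ a, T.f a a = 0 → y * T.E i a a = T.E i a a * y) : T.Cen i y := by
  have C : ∀ x z : R, y * x = x * y → y * z = z * y → y * (x * z) = x * z * y := fun x z hx hz => by
    rw [← mul_assoc, hx, mul_assoc, hz, ← mul_assoc]
  have CS : ∀ (c : F) (x : R), y * x = x * y → y * (c • x) = c • x * y := fun c x hx => by
    rw [mul_smul_comm, hx, smul_mul_assoc]
  have CA : ∀ x z : R, y * x = x * y → y * z = z * y → y * (x + z) = (x + z) * y := fun x z hx hz => by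
    rw [mul_add, add_mul, hx, hz]
  have CD : ∀ x z : R, y * x = x * y → y * (x + z) = (x + z) * y → y * z = z * y := fun x z hx hs => by
    rw [mul_add, add_mul, hx] at hs
    exact add_left_cancel hs
  have hn := hy e h.ee
  have hm := hy f₀ h.ff
  have hp : y * T.E i e f₀ = T.E i e f₀ * y := by
    have := C _ _ hn hm
    rwa [T.mul, h.fe, one_smul] at this
  have hq : y * T.E i f₀ e = T.E i f₀ e * y := by
    have := C _ _ hm hn
    rwa [T.mul, h.ef, one_smul] at this
  have hw : ∀ w, T.f w e = 0 → T.f w f₀ = 0 →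
      y * T.E i e w = T.E i e w * y ∧ y * T.E i w e = T.E i w e * y := by
    intro w hwe hwf
    obtain ⟨c, hc⟩ := T.exists_short w
    have hew := T.perp_symm hwe
    have hfw := T.perp_symm hwf
    have ha : T.f (f₀ + c • e + w) (f₀ + c • e + w) = 0 := by
      simp only [map_add, map_smulₛₗ, LinearMap.add_apply, LinearMap.smul_apply, RingHom.id_apply, smul_eq_mul,
        h.ee, h.ff, h.ef, h.fe, hwe, hwf, hew, hfw]
      linear_combination hc
    constructor
    · have h1 := C _ _ hn (hy _ ha)
      rw [T.mul, show T.f (f₀ + c • e + w) e = 1 by simp [h.fe, h.ee, hwe], one_smul] at h1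
      rw [map_add, map_add, map_smulₛₗ] at h1
      exact CD _ _ (CA _ _ hp (CS _ _ hn)) h1
    · have h1 := C _ _ (hy _ ha) hn
      rw [T.mul, show T.f e (f₀ + c • e + w) = 1 by simp [h.ef, h.ee, hew], one_smul] at h1
      rw [map_add, map_add, map_smul, LinearMap.add_apply, LinearMap.add_apply, LinearMap.smul_apply] at h1
      exact CD _ _ (CA _ _ hq (CS _ _ hn)) h1
  have he : ∀ u, y * T.E i e u = T.E i e u * y ∧ y * T.E i u e = T.E i u e * y := by
    intro u
    have hu : u = T.f u f₀ • e + T.f u e • f₀ + T.proj e f₀ u := by rw [T.proj_apply]; abel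
    obtain ⟨h1, h2⟩ := hw _ (h.proj_e u) (h.proj_f u)
    rw [hu]
    constructor
    · rw [map_add, map_add, map_smulₛₗ, map_smulₛₗ]
      exact CA _ _ (CA _ _ (CS _ _ hn) (CS _ _ hp)) h1
    · rw [map_add, map_add, map_smul, map_smul, LinearMap.add_apply, LinearMap.add_apply, LinearMap.smul_apply,
        LinearMap.smul_apply]
      exact CA _ _ (CA _ _ (CS _ _ hn) (CS _ _ hq)) h2
  intro u v
  have h1 := C _ _ (he u).2 (C _ _ hm (he v).1)
  rwa [T.mul i f₀ f₀ e v, h.ef, one_smul, T.mul, h.fe, one_smul] at h1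

end Sys

/-- **cutting out a root element** -/
theorem StableAt.cut (hw : T.Wide) {i : ι} {e₀ g₀ : A} (h₀ : T.Hyp e₀ g₀) {Z : AddSubgroup R}
    (hZ : StableAt T i Z) {y : R} (hy : y ∈ Z) (hno : ¬ T.Cen i y) :
    ∃ a z, a ≠ 0 ∧ T.f a a = 0 ∧ z ≠ 0 ∧ T.Cen i z ∧ (∀ j, j ≠ i → T.Cen j y → T.Cen j z) ∧
      T.E i a a * z ∈ Z := by
  classical
  by_contra hcon
  simp only [not_exists, not_and] at hcon
  obtain ⟨l, hl0, hl⟩ := T.exists_skew
  have found : ∀ (a : A) (z : R), a ≠ 0 → T.f a a = 0 → T.Cen i z → (∀ j, j ≠ i → T.Cen j y → T.Cen j z) →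
      T.E i a a * z ∈ Z → z = 0 := fun a z ha haa hc hj hz => by
    by_contra h0
    exact hcon a z ha haa h0 hc hj hz
  have hblk : ∀ (c : F) u v, (∀ j, j ≠ i → T.Cen j y → T.Cen j (c • T.blk i u v y)) :=
    fun c u v j hj h => (T.cen_blk_other hj u v h).smul c
  obtain ⟨μ, hμ⟩ := T.σ_ne
  refine hno (T.cen_of_isotropic h₀ fun e hee => ?_)
  rcases eq_or_ne e 0 with rfl | he
  · simp
  obtain ⟨f₀, hef⟩ := T.exists_hyp he hee
  have d1 := hZ.root e l hee hl y hy
  rw [diff_root] at d1
  have d2 : ∀ v c, T.f v e = 0 → c + T.σ c = -T.f v v →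
      l • (T.E i e e * y * T.sh i e (-v) (T.σ c) - T.sh i e v c * y * T.E i e e) ∈ Z := fun v c hv hc => by
    have := hZ.short e v c hee hv hc _ d1
    rwa [diff_two _ _ (T.sh_mul_n hee hv c) (T.n_mul_sh hee (by simp [hv]) _)] at this
  -- the middle block vanishes
  have hK : T.blk i e e y = 0 := by
    obtain ⟨v, hve, -, hvv⟩ := T.exists_aniso_perp hw hef
    obtain ⟨c, hc⟩ := T.exists_short v
    obtain ⟨c', hc'⟩ := T.exists_short (μ • v)
    have hve' : T.f (μ • v) e = 0 := by simp [hve]
    have d3 := hZ.short e (μ • v) c' hee hve' hc' _ (d2 v c hve hc)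
    rw [diff_three _ (T.sh_mul_n hee hve' c') (T.n_mul_sh hee (by simp [hve]) _),
      T.sh_mul_sh hee (by simp [hve]) (by simp [hve]), T.sh_mul_sh hee hve' hve] at d3
    have hnK : T.E i e e * y * T.E i e e = T.E i e e * T.blk i e e y := (T.E_blk i e e e e y).symm
    simp only [mul_neg, neg_mul, mul_smul_comm, smul_mul_assoc, hnK] at d3
    simp only [map_neg, LinearMap.neg_apply, neg_neg, map_smulₛₗ, map_smul, LinearMap.smul_apply, RingHom.id_apply,
      smul_eq_mul] at d3
    have hk : (l * ((T.σ μ - μ) * T.f v v)) • T.blk i e e y = 0 := by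
      refine found e _ he hee ((T.cen_blk i e e y).smul _) (hblk _ _ _) ?_
      convert d3 using 1
      simp only [mul_smul_comm]
      module
    exact (smul_eq_zero.1 hk).resolve_left (mul_ne_zero hl0 (mul_ne_zero (sub_ne_zero.2 hμ) hvv))
  have hnyn : T.E i e e * y * T.E i e e = 0 := by rw [← T.E_blk, hK, mul_zero]
  -- the short blocks vanish
  have hside : ∀ v, T.f v e = 0 → T.blk i e v y = 0 ∧ T.blk i v e y = 0 := by
    have hdiff : ∀ v, T.f v e = 0 → T.blk i v e y = T.blk i e v y := by
      intro v hv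
      obtain ⟨c, hc⟩ := T.exists_short v
      have h2 := d2 v c hv hc
      have e1 : T.E i e e * y * T.sh i e (-v) (T.σ c) = -(T.E i e e * T.blk i e v y) := by
        simp only [Sys.sh, map_neg, LinearMap.neg_apply, mul_add, mul_sub, mul_neg, mul_smul_comm, hnyn, smul_zero,
          add_zero, sub_neg_eq_add]
        rw [← T.E_blk i e e e v y, ← T.E_blk i e v e e y, hK, mul_zero, add_zero]
      have e2 : T.sh i e v c * y * T.E i e e = -(T.E i e e * T.blk i v e y) := by
        simp only [Sys.sh, add_mul, sub_mul, smul_mul_assoc, hnyn, smul_zero, add_zero]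
        rw [← T.E_blk i e e v e y, ← T.E_blk i v e e e y, hK, mul_zero, zero_sub]
      rw [e1, e2] at h2
      have hk : l • (T.blk i v e y - T.blk i e v y) = 0 := by
        refine found e _ he hee (((T.cen_blk i v e y).sub (T.cen_blk i e v y)).smul _) (fun j hj h =>
          ((T.cen_blk_other hj _ _ h).sub (T.cen_blk_other hj _ _ h)).smul _) ?_
        convert h2 using 1
        rw [mul_smul_comm, mul_sub]
        congr 1
        abel
      exact sub_eq_zero.1 ((smul_eq_zero.1 hk).resolve_left hl0)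
    intro v hv
    have h1 := hdiff v hv
    have h2 := hdiff (μ • v) (by simp [hv])
    rw [T.blk_smul_left, T.blk_smul_right, h1] at h2
    have h3 : T.blk i e v y = 0 := by
      have h4 : (T.σ μ - μ) • T.blk i e v y = 0 := by rw [sub_smul, h2, sub_self]
      exact (smul_eq_zero.1 h4).resolve_left (sub_ne_zero.2 hμ)
    exact ⟨h3, h1.trans h3⟩
  -- the top blocks agree
  rw [hnyn, smul_zero, sub_zero] at d1
  have e1 : T.E i e e * y = T.E i e e * T.blk i e f₀ y := by
    conv_lhs => rw [← mul_one (T.E i e e * y), ← T.sum_pqr (e := e) (f₀ := f₀) i]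
    have h3 : T.E i e e * y * T.pI i e f₀ = 0 := by
      rw [Sys.pI, ← T.E_blk, hK, mul_zero]
    have h4 : T.E i e e * y * T.rI i e f₀ = 0 := by
      rw [T.rI_eq_sum hef, Finset.mul_sum]
      refine Finset.sum_eq_zero fun k _ => ?_
      rw [← T.E_blk, (hside _ (hef.proj_e _)).1, mul_zero]
    rw [mul_add, mul_add, h3, h4, zero_add, add_zero, Sys.qI, ← T.E_blk]
  have e2 : y * T.E i e e = T.E i e e * T.blk i f₀ e y := by
    conv_lhs => rw [← one_mul (y * T.E i e e), ← T.sum_pqr (e := e) (f₀ := f₀) i]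
    have h3 : T.qI i e f₀ * (y * T.E i e e) = 0 := by
      rw [Sys.qI, ← mul_assoc, ← T.E_blk, hK, mul_zero]
    have h4 : T.rI i e f₀ * (y * T.E i e e) = 0 := by
      rw [T.rI_eq_sum hef, Finset.sum_mul]
      refine Finset.sum_eq_zero fun k _ => ?_
      rw [← mul_assoc, ← T.E_blk, (hside _ (hef.proj_e _)).2, mul_zero]
    rw [add_mul, add_mul, h3, h4, add_zero, add_zero, Sys.pI, ← mul_assoc, ← T.E_blk]
  have hk : l • (T.blk i e f₀ y - T.blk i f₀ e y) = 0 := by
    refine found e _ he hee (((T.cen_blk i e f₀ y).sub (T.cen_blk i f₀ e y)).smul _) (fun j hj h =>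
      ((T.cen_blk_other hj _ _ h).sub (T.cen_blk_other hj _ _ h)).smul _) ?_
    convert d1 using 1
    rw [mul_smul_comm, mul_sub, e1, e2]
  rw [e1, e2, sub_eq_zero.1 ((smul_eq_zero.1 hk).resolve_left hl0)]

end CfsgLib.MaxSub.SuPow
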