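import Cfsg.Agent.Lib.MaxSub.SuPow.Swap

/-!
Tensor powers of a Hermitian space, characteristic two: a root element does not exchange two factors.
-/

set_option autoImplicit false
set_option linter.unusedSectionVars false

namespace CfsgLib.MaxSub.SuPow

open CfsgLib.MaxSub.SpPow (InH inv_one_add)

variable {F A R ι κ : Type*} [Field F] [AddCommGroup A] [Module F A] [Ring R] [Algebra F R] [Fintype κ]
variable {T : Sys F A R ι κ} {H : Subgroup Rˣ}

/-- the Weyl involution of two square-zero operators in characteristic two -/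
theorem weyl_conj (h2 : ∀ x : R, x + x = 0) {n m : R} (hn : n * n = 0) (hm : m * m = 0) (h1 : n * m * n = n)
    (h1' : m * n * m = m) :
    ((1 + n) * (1 + m) * (1 + n)) * ((1 + n) * (1 + m) * (1 + n)) = 1 ∧
      ((1 + n) * (1 + m) * (1 + n)) * n * ((1 + n) * (1 + m) * (1 + n)) = m := by
  have sq : ∀ y : R, y * y = 0 → (1 + y) * (1 + y) = 1 := fun y hy => by
    rw [add_mul, one_mul, mul_add, mul_one, hy, add_zero, add_assoc, h2, add_zero]
  refine ⟨?_, ?_⟩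
  · calc ((1 + n) * (1 + m) * (1 + n)) * ((1 + n) * (1 + m) * (1 + n))
        = (1 + n) * ((1 + m) * ((1 + n) * (1 + n)) * (1 + m)) * (1 + n) := by simp only [mul_assoc]
      _ = 1 := by rw [sq n hn, mul_one, sq m hm, mul_one, sq n hn]
  · have e1 : (1 + n) * n * (1 + n) = n := by
      rw [add_mul, one_mul, hn, add_zero, mul_add, mul_one, hn, add_zero]
    have e2 : (1 + n) * (n + m * n + n * m + m) = m * n + m := by
      have ee : (1 + n) * (n + m * n + n * m + m) = m * n + m + ((n + n) + (n * m + n * m)) := by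
        simp only [add_mul, one_mul, mul_add, hn, ← mul_assoc n n, zero_mul, ← mul_assoc n m n, h1]
        abel
      rw [ee, h2, h2, add_zero, add_zero]
    have e3 : (m * n + m) * (1 + n) = m := by
      rw [mul_add, mul_one, add_mul, mul_assoc m n n, hn, mul_zero, zero_add,
        show m * n + m + m * n = m + (m * n + m * n) by abel, h2, add_zero]
    calc ((1 + n) * (1 + m) * (1 + n)) * n * ((1 + n) * (1 + m) * (1 + n))
        = (1 + n) * ((1 + m) * ((1 + n) * n * (1 + n)) * (1 + m)) * (1 + n) := by simp only [mul_assoc]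
      _ = (1 + n) * (n + m * n + n * m + m) * (1 + n) := by
          rw [e1]
          simp only [add_mul, mul_add, one_mul, mul_one, h1']
          abel
      _ = m := by rw [e2, e3]

variable [Finite F] [Finite R] [Nontrivial R] {l : ι} {e f₀ u : A}

/-- the members fixing a root element of a factor act on the short root elements by scalars -/
theorem Grp.line_act (G : Grp T H) (Z : Ctr T H) (hw : T.Wide) (hk : T.Big ∨ 4 < Nat.card F) (h : T.Hyp e f₀)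
    (hue : T.f u e = 0) (huf : T.f u f₀ = 0) (huu : T.f u u ≠ 0)
    (hr : T.rI l e f₀ = (T.f u u)⁻¹ • T.E l u u) {k : Rˣ} (hkH : k ∈ H)
    (hkn : (k : R) * T.E l e e = T.E l e e * (k : R)) :
    ∃ ρ c : F, ρ ≠ 0 ∧ (k : R) * T.E l u e * (↑k⁻¹ : R) = ρ • T.E l u e + c • T.E l e e := by
  classical
  have he := h.left_ne
  have hu0 : u ≠ 0 := fun e0 => huu (by simp [e0])
  have hcar : Carries T k l l := G.stab Z hw hk hkH he h.ee he h.ee one_ne_zero (by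
    rw [one_smul, hkn, mul_assoc, Units.mul_inv, mul_one])
  obtain ⟨X, hX⟩ : ∃ X, X = T.E l u e := ⟨_, rfl⟩
  obtain ⟨X', hX'⟩ : ∃ X', X' = (k : R) * X * (↑k⁻¹ : R) := ⟨_, rfl⟩
  have hm : X' ∈ T.phi l := hX' ▸ hcar X (hX ▸ T.E_mem_phi l u e)
  have hkn' : (↑k⁻¹ : R) * T.E l e e = T.E l e e * (↑k⁻¹ : R) :=
    (Commute.units_inv_left (show Commute (k : R) (T.E l e e) from hkn)).eq
  have x1 : X * T.E l e e = 0 := by rw [hX, T.mul, h.ee, zero_smul]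
  have x2 : T.E l e e * X = 0 := by rw [hX, T.mul, hue, zero_smul]
  have x3 : X * X = 0 := by rw [hX, T.mul, hue, zero_smul]
  have n1 : X' * T.E l e e = 0 := by
    rw [hX', mul_assoc _ (↑k⁻¹ : R), hkn', ← mul_assoc, mul_assoc (k : R), x1, mul_zero, zero_mul]
  have n2 : T.E l e e * X' = 0 := by
    rw [hX', ← mul_assoc, ← mul_assoc, ← hkn, mul_assoc (k : R), x2, mul_zero, zero_mul]
  have n3 : X' * X' = 0 := by
    rw [hX']; simp only [mul_assoc, Units.inv_mul_cancel_left]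
    rw [← mul_assoc X, x3, zero_mul, mul_zero]
  choose s hs using T.blk_phi hm (i := l)
  have hp := h.kill_right n1
  have hq := h.kill_left n2
  obtain ⟨ν, hν⟩ : ∃ ν, ν = (T.f u u)⁻¹ := ⟨_, rfl⟩
  rw [← hν] at hr
  have blkm : ∀ p q a b, T.E l p a * X' * T.E l b q = s a b • T.E l p q := fun p q a b => by
    rw [← T.E_blk, hs, mul_smul_comm, mul_one]
  obtain ⟨a, ha⟩ : ∃ a, a = ν * s u f₀ := ⟨_, rfl⟩
  obtain ⟨b, hb⟩ : ∃ b, b = ν * s f₀ u := ⟨_, rfl⟩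
  obtain ⟨c, hc⟩ : ∃ c, c = s f₀ f₀ := ⟨_, rfl⟩
  obtain ⟨d, hd⟩ : ∃ d, d = ν * (ν * s u u) := ⟨_, rfl⟩
  have hdec : X' = a • X + b • T.E l e u + c • T.E l e e + d • T.E l u u := by
    calc X' = (T.pI l e f₀ + T.qI l e f₀ + T.rI l e f₀) * X' * (T.pI l e f₀ + T.qI l e f₀ + T.rI l e f₀) := by
          rw [T.sum_pqr, one_mul, mul_one]
      _ = T.pI l e f₀ * X' * T.qI l e f₀ + T.pI l e f₀ * X' * T.rI l e f₀ + T.rI l e f₀ * X' * T.qI l e f₀ +
            T.rI l e f₀ * X' * T.rI l e f₀ := by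
          simp only [add_mul, mul_add, hq, zero_mul, mul_assoc _ X' (T.pI l e f₀), hp, mul_zero, add_zero, zero_add]
          abel
      _ = _ := by
          rw [hr]
          simp only [Sys.pI, Sys.qI, smul_mul_assoc, mul_smul_comm, blkm, smul_smul, ha, hb, hc, hd, hX]
          abel
  -- squares
  have hd0 : d = 0 := by
    have h1 := congrArg (fun t => T.E l u u * t * T.E l u u) n3
    rw [hdec, hX] at h1
    simp only [add_mul, mul_add, smul_mul_assoc, mul_smul_comm, T.mul, hue, T.perp_symm hue, h.ee,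
      zero_smul, smul_zero, add_zero, zero_add, mul_zero, zero_mul, smul_smul] at h1
    by_contra hd0
    exact smul_ne_zero (by simp [hd0, huu]) (T.E_ne_zero l hu0 hu0) h1
  rw [hd0, zero_smul, add_zero] at hdec
  have hab : a * b * T.f u u = 0 := by
    have h1 := n3
    rw [hdec, hX] at h1
    simp only [add_mul, mul_add, smul_mul_assoc, mul_smul_comm, T.mul, hue, T.perp_symm hue, h.ee,
      zero_smul, smul_zero, add_zero, zero_add, smul_smul] at h1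
    rw [mul_assoc]
    exact (smul_eq_zero.1 h1).resolve_right (T.E_ne_zero l he he)
  have ha0 : a ≠ 0 := by
    intro ha0
    have h1 : T.ad X' * X' = 0 := by
      rw [hdec, ha0, zero_smul, zero_add, map_add, T.ad_smul, T.ad_smul, T.ad_E, T.ad_E]
      simp only [add_mul, mul_add, smul_mul_assoc, mul_smul_comm, T.mul, h.ee, T.perp_symm hue,
        zero_smul, smul_zero, add_zero]
    rw [hX', T.ad_mul, T.ad_mul, ← G.inv_eq hkH, show T.ad (↑k⁻¹ : R) = (k : R) by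
      rw [G.inv_eq hkH, T.ad_ad]] at h1
    simp only [mul_assoc, Units.inv_mul_cancel_left] at h1
    rw [← mul_assoc (T.ad X), hX, T.ad_E, T.mul] at h1
    simp [T.E_ne_zero l he he, huu] at h1
  have hb0 : b = 0 := by
    rcases mul_eq_zero.1 hab with h1 | h1
    · exact (mul_eq_zero.1 h1).resolve_left ha0
    · exact absurd h1 huu
  exact ⟨a, c, ha0, by rw [← hX, ← hX', hdec, hb0, zero_smul, add_zero]⟩

/-- a member fixing all short root elements is a centre element times one commuting with the factor -/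
theorem Grp.line_cen (G : Grp T H) (Z : Ctr T H) (hw : T.Wide) (hk : T.Big ∨ 4 < Nat.card F) (h : T.Hyp e f₀)
    (hue : T.f u e = 0) (huf : T.f u f₀ = 0)
    (hr : T.rI l e f₀ = (T.f u u)⁻¹ • T.E l u u) {k : Rˣ} (hkH : k ∈ H)
    (hkn : (k : R) * T.E l e e = T.E l e e * (k : R))
    (hkX : (k : R) * T.E l u e * (↑k⁻¹ : R) = T.E l u e) :
    ∃ α, ∃ c : F, T.Cen l α ∧ (k : R) = α + c • (T.E l e e * α) := by
  classical
  have he := h.left_ne
  have hcar : Carries T k l l := G.stab Z hw hk hkH he h.ee he h.ee one_ne_zero (by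
    rw [one_smul, hkn, mul_assoc, Units.mul_inv, mul_one])
  have hkX' : (k : R) * T.E l u e = T.E l u e * (k : R) := by
    conv_rhs => rw [← hkX, mul_assoc _ (↑k⁻¹ : R), Units.inv_mul, mul_one]
  have hkY : (k : R) * T.E l e u = T.E l e u * (k : R) := by
    have h1 := congrArg T.ad hkX'
    rw [T.ad_mul, T.ad_mul, T.ad_E, ← G.inv_eq hkH] at h1
    have h2 := congrArg (fun t => (k : R) * t * (k : R)) h1
    simpa [mul_assoc] using h2
  have hv1 : ∀ v, T.f v e = 0 → T.f v f₀ = 0 → T.E l v e = ((T.f u u)⁻¹ * T.f v u) • T.E l u e := fun v hve hvf => by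
    rw [← smul_smul, ← T.mul l u u v e, ← smul_mul_assoc, ← hr, T.rI_E, Sys.proj_of_perp hve hvf]
  obtain ⟨α, β, hα, hβ, hkαβ⟩ := h.cen_of_comm hkn
    (fun v hve hvf => by rw [hv1 v hve hvf, mul_smul_comm, smul_mul_assoc, hkX'])
    (fun v hve hvf => by
      have e1 := congrArg T.ad (hv1 v hve hvf)
      rw [T.ad_smul, T.ad_E, T.ad_E] at e1
      rw [e1, mul_smul_comm, smul_mul_assoc, hkY])
  obtain ⟨Φ, hΦ⟩ : ∃ Φ, Φ = (k : R) * T.E l f₀ f₀ * (↑k⁻¹ : R) := ⟨_, rfl⟩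
  have hΦm : Φ * T.E l e e ∈ T.phi l := T.mul_mem_phi (hΦ ▸ hcar _ (T.E_mem_phi l f₀ f₀)) (T.E_mem_phi l e e)
  obtain ⟨c, hc⟩ := T.blk_phi hΦm f₀ f₀
  refine ⟨α, c, hα, ?_⟩
  have h1 : (k : R) * T.qI l e f₀ = Φ * T.E l e e * (k : R) := by
    rw [hΦ, mul_assoc (_ * _) (T.E l e e), ← hkn]
    simp [mul_assoc, T.mul, h.ef, Sys.qI]
  have h2 := congrArg (T.blk l f₀ f₀) h1
  have hqn : T.E l e e * β * T.qI l e f₀ = T.E l e e * β := by
    rw [mul_assoc, T.phi_comm_cen (T.qI_mem_phi l) hβ, ← mul_assoc, h.n_mul_qI]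
  have hnn : T.E l e e * (T.E l e e * β) = 0 := by rw [← mul_assoc, T.n_mul_self l h.ee, zero_mul]
  rw [hkαβ, add_mul, T.phi_comm_cen (T.qI_mem_phi l) hα, hqn, mul_add, mul_assoc Φ (T.E l e e) (T.E l e e * β), hnn,
    mul_zero, add_zero, T.blk_add, T.blk_mul_cen hα, T.blk_mul_cen hα, hc, smul_mul_assoc, one_mul] at h2
  have eq0 : T.blk l f₀ f₀ (T.qI l e f₀) = 0 := by
    rw [← mul_one (T.qI l e f₀), Sys.qI, T.blk_E_mul (T.cen_one l), h.ff, zero_mul, zero_smul]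
  rw [eq0, zero_mul, zero_add, T.blk_E_mul hβ, h.ef, h.fe, one_mul, one_smul] at h2
  rw [hkαβ, h2, mul_smul_comm]

variable [Fintype ι]

/-- **a root element does not exchange two factors** -/
theorem Grp.no_swap (G : Grp T H) (Z : Ctr T H) (hw : T.Wide) (hk : T.Big ∨ 4 < Nat.card F) (h2 : (2 : F) = 0)
    {g : Rˣ} (hg : g ∈ H) {x : R} (hx : IsRoot T H x) (hgx : (g : R) = 1 + x) {i j : ι} (hij : i ≠ j)
    (hcar : Carries T g i j) : False := by
  classical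
  have two : ∀ y : R, y + y = 0 := fun y => by rw [← two_smul F y, h2, zero_smul]
  have hgg : (g : R) * g = 1 := by
    rw [hgx, add_mul, one_mul, mul_add, mul_one, hx.sq, add_zero, add_assoc, two, add_zero]
  have hgi : (↑g⁻¹ : R) = g := Units.inv_eq_of_mul_eq_one_right hgg
  obtain ⟨h, hh, y₀, ⟨l, e, he, hee, a, ha, -, rfl⟩, hxh⟩ := id hx
  obtain ⟨f₀, hyp⟩ := T.exists_hyp he hee
  by_cases hiso : ∃ w, w ≠ 0 ∧ T.f w w = 0 ∧ T.f w e = 0 ∧ T.f w f₀ = 0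
  · obtain ⟨w, h0, h1, h1', h1''⟩ := hiso
    exact (G.swap_pieces hw hx hgx hgg hij hcar hyp).2 w h0 h1 h1' h1''
  have h4 : 4 < Nat.card F := hk.resolve_left fun hB => hiso (hB e f₀ hyp)
  obtain ⟨u, hue, huf, huu⟩ := T.exists_aniso_perp hw hyp
  have hr := hyp.rI_eq_line (fun w h1 h2' h3 => Classical.byContradiction fun h0 => hiso ⟨w, h0, h1, h2', h3⟩)
    hue huf huu l
  -- scalars
  have hneg : ∀ c : F, -c = c := fun c => neg_eq_of_add_eq_zero_left (by rw [← two_mul, h2, zero_mul])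
  obtain ⟨lam, hlam, hlam1⟩ := T.exists_norm_ne_one h4
  obtain ⟨ν, hν⟩ : ∃ ν, ν = lam * T.σ lam := ⟨_, rfl⟩
  have hν0 : ν ≠ 0 := hν ▸ mul_ne_zero hlam (T.σ_ne_zero.2 hlam)
  have hν1 : ν ≠ 1 := fun e1 => hlam1 (by rw [mul_comm, ← hν, e1])
  have hνσ : T.σ ν = ν := by rw [hν, map_mul, T.σσ, mul_comm]
  -- the members of `H` in the factor and their diagonal versions
  let Si : Subgroup Rˣ :=
    { carrier := {r | r ∈ H ∧ (r : R) ∈ T.phi i}
      one_mem' := ⟨one_mem H, T.one_mem_phi i⟩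
      mul_mem' := fun {a b} ha hb => ⟨mul_mem ha.1 hb.1, T.mul_mem_phi ha.2 hb.2⟩
      inv_mem' := fun {a} ha => ⟨inv_mem ha.1, by rw [G.inv_eq ha.1]; exact T.ad_mem_phi ha.2⟩ }
  let Φ : Si → Rˣ := fun r => h⁻¹ * ((r : Rˣ) * (g * r * g)) * h
  have hKj : ∀ r : Si, ((g * (r : Rˣ) * g : Rˣ) : R) ∈ T.phi j := fun r => by
    have := hcar _ r.2.2
    rw [hgi] at this
    rwa [Units.val_mul, Units.val_mul]
  have hgu : g * g = 1 := Units.ext hgg
  have hswap : ∀ r s : Si, (g * (r : Rˣ) * g) * (s : Rˣ) = (s : Rˣ) * (g * r * g) := fun r s => Units.ext (by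
    rw [Units.val_mul, Units.val_mul]
    exact T.phi_comm_cen s.2.2 (T.cen_of_phi_ne hij (hKj r)))
  have hΦmul : ∀ r s : Si, Φ (r * s) = Φ r * Φ s := fun r s => by
    show h⁻¹ * ((r * s : Rˣ) * (g * (r * s) * g)) * h = _
    have e1 : g * ((r : Rˣ) * s) * g = g * r * g * (g * s * g) := by
      simp only [mul_assoc]; rw [← mul_assoc g g, hgu, one_mul]
    rw [e1, mul_assoc (r : Rˣ), ← mul_assoc (s : Rˣ), ← hswap r s]
    simp only [Φ, mul_assoc, mul_inv_cancel_left]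
  let Ψ : Si →* Rˣ := MonoidHom.mk' Φ hΦmul
  have hΨH : ∀ r, Ψ r ∈ H := fun r =>
    mul_mem (mul_mem (inv_mem hh) (mul_mem r.2.1 (mul_mem (mul_mem hg r.2.1) hg))) hh
  obtain ⟨n, hn⟩ : ∃ n, n = T.E l e e := ⟨_, rfl⟩
  have hΨn : ∀ r, ((Ψ r : Rˣ) : R) * n = n * (Ψ r : R) := fun r => by
    have e0 : g * ((r : Rˣ) * (g * r * g)) = (r : Rˣ) * (g * r * g) * g := by
      conv_lhs => rw [← hswap r r]
      simp only [mul_assoc, hgu, mul_one]
      rw [← mul_assoc g g, hgu, one_mul]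
    obtain ⟨D, hD⟩ : ∃ D : Rˣ, D = (r : Rˣ) * (g * r * g) := ⟨_, rfl⟩
    have e1 : x * (D : R) = (D : R) * x := by
      have := congrArg Units.val (hD ▸ e0)
      rw [Units.val_mul, Units.val_mul, hgx, add_mul, one_mul, mul_add, mul_one] at this
      exact add_left_cancel this
    show ((h⁻¹ * _ * h : Rˣ) : R) * n = n * ((h⁻¹ * _ * h : Rˣ) : R)
    rw [← hD, Units.val_mul, Units.val_mul]
    have e2 := congrArg (fun t => a⁻¹ • ((↑h⁻¹ : R) * t * (h : R))) e1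
    rw [hxh] at e2
    simp only [mul_assoc, mul_smul_comm, smul_mul_assoc, Units.inv_mul_cancel_left, Units.inv_mul, mul_one,
      inv_smul_smul₀ ha] at e2
    simp only [hn, mul_assoc]
    exact e2.symm
  obtain ⟨X, hX⟩ : ∃ X, X = T.E l u e := ⟨_, rfl⟩
  have hn0 : n ≠ 0 := hn ▸ T.E_ne_zero l he he
  -- values
  have hval : ∀ r, ∃ ρ c : F, ρ ≠ 0 ∧ (Ψ r : R) * X * (↑(Ψ r)⁻¹ : R) = ρ • X + c • n := fun r => by
    have hh' := hΨn r
    rw [hn] at hh'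
    rw [hX, hn]
    exact G.line_act Z hw hk hyp hue huf huu hr (hΨH r) hh'
  choose ρ cX hρ0 hρ using hval
  have huniq : ∀ a b a' b' : F, a • X + b • n = a' • X + b' • n → a = a' ∧ b = b' := by
    intro a b a' b' hab
    have h1 := congrArg (fun t => T.rI l e f₀ * t) hab
    simp only [hX, hn, mul_add, mul_smul_comm, hyp.rI_mul_n, smul_zero, add_zero, T.rI_E,
      Sys.proj_of_perp hue huf] at h1
    have ha' := smul_left_injective F (T.E_ne_zero l (fun e0 => huu (by simp [e0])) he) h1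
    exact ⟨ha', smul_left_injective F hn0 (by rw [ha'] at hab; exact add_left_cancel hab)⟩
  have hρmul : ∀ r s, ρ (r * s) = ρ r * ρ s ∧ cX (r * s) = ρ s * cX r + cX s := by
    intro r s
    refine huniq _ _ _ _ ?_
    rw [← hρ]
    have hnr : (Ψ r : R) * n * (↑(Ψ r)⁻¹ : R) = n := by rw [hΨn, mul_assoc, Units.mul_inv, mul_one]
    calc (Ψ (r * s) : R) * X * (↑(Ψ (r * s))⁻¹ : R)
        = (Ψ r : R) * ((Ψ s : R) * X * (↑(Ψ s)⁻¹ : R)) * (↑(Ψ r)⁻¹ : R) := by simp [map_mul, mul_assoc]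
      _ = ρ s • ((Ψ r : R) * X * (↑(Ψ r)⁻¹ : R)) + cX s • ((Ψ r : R) * n * (↑(Ψ r)⁻¹ : R)) := by
          rw [hρ s]; simp [mul_add, add_mul]
      _ = _ := by rw [hρ r, hnr]; module
  have hswapC : ∀ r s : Si, r * s * r⁻¹ * s⁻¹ * (s * r) = r * s := fun r s => by group
  have hlev1 : ∀ r s, ρ (r * s * r⁻¹ * s⁻¹) = 1 := fun r s => by
    have h1 := congrArg ρ (hswapC r s)
    rw [(hρmul _ _).1, (hρmul s r).1, (hρmul r s).1, mul_comm (ρ s)] at h1
    exact mul_right_cancel₀ (mul_ne_zero (hρ0 r) (hρ0 s)) (h1.trans (one_mul _).symm)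
  have hlev2 : ∀ r s, ρ r = 1 → ρ s = 1 → cX (r * s * r⁻¹ * s⁻¹) = 0 := fun r s hr1 hs1 => by
    have h1 := congrArg cX (hswapC r s)
    rw [(hρmul _ _).2, (hρmul s r).1, (hρmul s r).2, (hρmul r s).2, hr1, hs1] at h1
    linear_combination h1
  have hcen : ∀ r, ρ r = 1 → cX r = 0 → ∃ α, ∃ c : F, T.Cen l α ∧ (Ψ r : R) = α + c • (n * α) := by
    intro r hr1 hc0
    have hh' := hΨn r
    rw [hn] at hh' ⊢
    refine G.line_cen Z hw hk hyp hue huf hr (hΨH r) hh' ?_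
    have := hρ r
    rw [hr1, hc0, one_smul, zero_smul, add_zero, hX] at this
    exact this
  -- the elements
  obtain ⟨N, hN⟩ : ∃ N, N = T.E i e e := ⟨_, rfl⟩
  obtain ⟨M, hM⟩ : ∃ M, M = T.E i f₀ f₀ := ⟨_, rfl⟩
  have skew : ∀ b : F, T.σ b = b → T.σ b = -b := fun b hb => by rw [hb, hneg]
  have mkN : ∀ b : F, T.σ b = b → ∃ r : Si, ((r : Rˣ) : R) = 1 + b • N := fun b hb => by
    obtain ⟨r, hr', hrv⟩ := G.root i e b hee (skew b hb)
    exact ⟨⟨r, hr', hrv ▸ add_mem (T.one_mem_phi i) ((T.phi i).smul_mem _ (T.E_mem_phi i e e))⟩, by rw [hrv, hN]⟩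
  have mkM : ∀ b : F, T.σ b = b → ∃ r : Si, ((r : Rˣ) : R) = 1 + b • M := fun b hb => by
    obtain ⟨r, hr', hrv⟩ := G.root i f₀ b hyp.ff (skew b hb)
    exact ⟨⟨r, hr', hrv ▸ add_mem (T.one_mem_phi i) ((T.phi i).smul_mem _ (T.E_mem_phi i f₀ f₀))⟩, by rw [hrv, hM]⟩
  have hN2 : N * N = 0 := hN ▸ T.n_mul_self i hee
  have hM2 : M * M = 0 := hM ▸ T.n_mul_self i hyp.ff
  -- a root element as a commutator
  have hcomm : ∀ (O : R), O * O = 0 → ∀ (t : Si) (μ y b : F), ((t : Rˣ) : R) * O = μ • (O * ((t : Rˣ) : R)) →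
      (μ - 1) * y = b → ∀ ry rb : Si, ((ry : Rˣ) : R) = 1 + y • O → ((rb : Rˣ) : R) = 1 + b • O →
      t * ry * t⁻¹ * ry⁻¹ = rb := by
    intro O hO t μ y b ht hμy ry rb hry hrb
    have e1 : ((t * ry * t⁻¹ : Si) : Rˣ).1 = 1 + (μ * y) • O := by
      show (((t : Rˣ) * (ry : Rˣ) * (t : Rˣ)⁻¹ : Rˣ) : R) = _
      rw [Units.val_mul, Units.val_mul, hry, mul_add, mul_one, mul_smul_comm, ht, add_mul, Units.mul_inv,
        smul_mul_assoc, smul_mul_assoc, mul_assoc, Units.mul_inv, mul_one, smul_smul, mul_comm]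
    rw [mul_inv_eq_iff_eq_mul]
    refine Subtype.ext (Units.ext ?_)
    show ((t * ry * t⁻¹ : Si) : Rˣ).1 = (((rb : Rˣ) * (ry : Rˣ) : Rˣ) : R)
    rw [e1, Units.val_mul, hry, hrb, ← hμy]
    simp only [mul_add, add_mul, one_mul, mul_one, smul_mul_assoc, mul_smul_comm, hO, smul_zero, add_zero]
    module
  have lift : ∀ (b μ : F), T.σ b = b → T.σ μ = μ → μ ≠ 1 → T.σ (b / (μ - 1)) = b / (μ - 1) ∧ (μ - 1) * (b / (μ - 1)) = b :=
    fun b μ hb hμ hμ1 => ⟨by rw [map_div₀, map_sub, map_one, hb, hμ],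
      mul_div_cancel₀ _ (sub_ne_zero.2 hμ1)⟩
  -- torus elements
  obtain ⟨t₀, ht₀, ht₀v⟩ := G.tor i e f₀ u hyp hue huf huu lam hlam
  let t : Si := ⟨t₀, ht₀, ht₀v ▸ T.tau_mem_phi i e f₀ u lam⟩
  have htN : ((t : Rˣ) : R) * N = ν • (N * ((t : Rˣ) : R)) := by
    have a1 : (t₀ : R) * N = lam • N := by
      rw [ht₀v, Sys.tau, hN]
      simp [add_mul, sub_mul, smul_mul_assoc, hyp.pI_mul_n, T.qI_E, hyp.ee, T.mul, T.perp_symm hue, sub_smul]
    have a2 : N * (t₀ : R) = (T.σ lam)⁻¹ • N := by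
      rw [ht₀v, Sys.tau, hN]
      simp [mul_add, mul_sub, mul_smul_comm, hyp.n_mul_qI, T.E_pI, hyp.ee, T.mul, hue, sub_smul]
    show (t₀ : R) * N = ν • (N * (t₀ : R))
    rw [a1, a2, smul_smul, hν, mul_assoc, mul_inv_cancel₀ (T.σ_ne_zero.2 hlam), mul_one]
  have htM : ((t : Rˣ) : R) * M = ν⁻¹ • (M * ((t : Rˣ) : R)) := by
    have a1 : (t₀ : R) * M = (T.σ lam)⁻¹ • M := by
      rw [ht₀v, Sys.tau, hM]
      simp [add_mul, sub_mul, smul_mul_assoc, T.pI_E, T.qI_E, hyp.ff, hyp.fe, T.mul, T.perp_symm huf, sub_smul]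
    have a2 : M * (t₀ : R) = lam • M := by
      rw [ht₀v, Sys.tau, hM]
      simp [mul_add, mul_sub, mul_smul_comm, T.E_pI, T.E_qI, hyp.ff, hyp.ef, T.mul, huf, sub_smul]
    show (t₀ : R) * M = ν⁻¹ • (M * (t₀ : R))
    rw [a1, a2, smul_smul, hν, mul_inv, mul_right_comm, inv_mul_cancel₀ hlam, one_mul]
  have hν1' : ν⁻¹ ≠ 1 := fun e1 => hν1 (inv_eq_one.1 e1)
  have hνσ' : T.σ ν⁻¹ = ν⁻¹ := by rw [map_inv₀, hνσ]
  have h1N : ∀ (b : F), T.σ b = b → ∀ rb : Si, ((rb : Rˣ) : R) = 1 + b • N → ρ rb = 1 := by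
    intro b hb rb hrb
    obtain ⟨hy, hyb⟩ := lift b ν hb hνσ hν1
    obtain ⟨ry, hry⟩ := mkN _ hy
    rw [← hcomm N hN2 t ν _ b htN hyb ry rb hry hrb]
    exact hlev1 _ _
  have h1M : ∀ (b : F), T.σ b = b → ∀ rb : Si, ((rb : Rˣ) : R) = 1 + b • M → ρ rb = 1 := by
    intro b hb rb hrb
    obtain ⟨hy, hyb⟩ := lift b ν⁻¹ hb hνσ' hν1'
    obtain ⟨ry, hry⟩ := mkM _ hy
    rw [← hcomm M hM2 t _ _ b htM hyb ry rb hry hrb]
    exact hlev1 _ _
  -- a torus element inside the derived group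
  have hW : ∀ b : F, T.σ b = b → b ≠ 0 → ∀ r r' : Si, ((r : Rˣ) : R) = 1 + b • N → ((r' : Rˣ) : R) = 1 + b⁻¹ • M →
      ((r * r' * r : Si) : Rˣ).1 * ((r * r' * r : Si) : Rˣ).1 = 1 ∧
        ((r * r' * r : Si) : Rˣ).1 * N * ((r * r' * r : Si) : Rˣ).1 = (b⁻¹ * b⁻¹) • M ∧
        ((r * r' * r : Si) : Rˣ).1 * M * ((r * r' * r : Si) : Rˣ).1 = (b * b) • N := by
    intro b hb hb0 r r' hr1 hr1'
    have e0 : ((r * r' * r : Si) : Rˣ).1 = (1 + b • N) * (1 + b⁻¹ • M) * (1 + b • N) := by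
      show (((r : Rˣ) * (r' : Rˣ) * (r : Rˣ) : Rˣ) : R) = _
      rw [Units.val_mul, Units.val_mul, hr1, hr1']
    have hNMN : N * M * N = N := by
      rw [hN, hM, T.mul, hyp.fe, one_smul, T.mul, hyp.ef, one_smul]
    have hMNM : M * N * M = M := by
      rw [hN, hM, T.mul, hyp.ef, one_smul, T.mul, hyp.fe, one_smul]
    obtain ⟨w1, w2⟩ := weyl_conj two (n := b • N) (m := b⁻¹ • M) (by rw [smul_mul_smul, hN2, smul_zero])
      (by rw [smul_mul_smul, hM2, smul_zero])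
      (by rw [smul_mul_smul, smul_mul_smul, hNMN]; congr 1; field_simp)
      (by rw [smul_mul_smul, smul_mul_smul, hMNM]; congr 1; field_simp)
    rw [e0]
    obtain ⟨W, hWd⟩ : ∃ W, W = (1 + b • N) * (1 + b⁻¹ • M) * (1 + b • N) := ⟨_, rfl⟩
    rw [← hWd] at w1 w2 ⊢
    rw [mul_smul_comm, smul_mul_assoc, ← eq_inv_smul_iff₀ hb0, smul_smul] at w2
    refine ⟨w1, w2, ?_⟩
    have h3 := congrArg (fun s => (b * b) • (W * s * W)) w2
    simp only [mul_assoc, w1, mul_one, mul_smul_comm, smul_mul_assoc, smul_smul] at h3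
    rw [← mul_assoc W W, w1, one_mul, show b * (b * (b⁻¹ * b⁻¹)) = 1 by field_simp, one_smul] at h3
    rw [h3, mul_assoc]
  obtain ⟨r1, hr1⟩ := mkN 1 (map_one _)
  obtain ⟨r1', hr1'⟩ := mkM (1 : F)⁻¹ (by simp)
  obtain ⟨r2, hr2⟩ := mkN ν hνσ
  obtain ⟨r2', hr2'⟩ := mkM ν⁻¹ hνσ'
  obtain ⟨a1, a2, a3⟩ := hW 1 (map_one _) one_ne_zero r1 r1' hr1 hr1'
  obtain ⟨b1, b2, b3⟩ := hW ν hνσ hν0 r2 r2' hr2 hr2'
  let T₀ : Si := (r2 * r2' * r2) * (r1 * r1' * r1)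
  have hT₀ρ : ρ T₀ = 1 := by
    simp only [T₀, (hρmul _ _).1, h1N _ (map_one _) r1 hr1, h1N _ hνσ r2 hr2,
      h1M _ hνσ' r2' hr2', h1M _ (show T.σ (1 : F)⁻¹ = (1 : F)⁻¹ by simp) r1' hr1', mul_one]
  have hscale : ∀ (O O' : R) (μ μ' : F), ((r1 * r1' * r1 : Si) : Rˣ).1 * O * ((r1 * r1' * r1 : Si) : Rˣ).1 = μ • O' →
      ((r2 * r2' * r2 : Si) : Rˣ).1 * O' * ((r2 * r2' * r2 : Si) : Rˣ).1 = μ' • O →
      ((T₀ : Si) : Rˣ).1 * O = (μ * μ') • (O * ((T₀ : Si) : Rˣ).1) := by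
    intro O O' μ μ' e1 e2
    show (((r2 * r2' * r2 : Si) : Rˣ) * ((r1 * r1' * r1 : Si) : Rˣ) : Rˣ).1 * O =
      (μ * μ') • (O * (((r2 * r2' * r2 : Si) : Rˣ) * ((r1 * r1' * r1 : Si) : Rˣ) : Rˣ).1)
    rw [Units.val_mul]
    obtain ⟨A1, hA1⟩ : ∃ A1, A1 = ((r1 * r1' * r1 : Si) : Rˣ).1 := ⟨_, rfl⟩
    obtain ⟨B1, hB1⟩ : ∃ B1, B1 = ((r2 * r2' * r2 : Si) : Rˣ).1 := ⟨_, rfl⟩
    rw [← hA1] at e1 a1 ⊢
    rw [← hB1] at e2 b1 ⊢
    have e1' : A1 * O = μ • (O' * A1) := by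
      rw [← smul_mul_assoc, ← e1, mul_assoc _ A1 A1, a1, mul_one]
    have e2' : B1 * O' = μ' • (O * B1) := by
      rw [← smul_mul_assoc, ← e2, mul_assoc _ B1 B1, b1, mul_one]
    rw [mul_assoc, e1', mul_smul_comm, ← mul_assoc, e2', smul_mul_assoc, smul_smul, mul_assoc]
  have hT₀N := hscale N M _ _ a2 b3
  have hT₀M := hscale M N _ _ a3 b2
  have hνν : ν * ν ≠ 1 := fun e1 => hν1 (by
    rcases mul_self_eq_one_iff.1 e1 with e2 | e2
    · exact e2
    · rw [e2, hneg])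
  rw [inv_one, one_mul, one_mul] at hT₀N
  rw [one_mul, one_mul] at hT₀M
  have hνν' : ν⁻¹ * ν⁻¹ ≠ 1 := fun e1 => hνν (by rw [← mul_inv] at e1; exact inv_eq_one.1 e1)
  have hσνν : T.σ (ν * ν) = ν * ν := by rw [map_mul, hνσ]
  have hσνν' : T.σ (ν⁻¹ * ν⁻¹) = ν⁻¹ * ν⁻¹ := by rw [map_mul, hνσ']
  have h2N : ∀ (b : F), T.σ b = b → ∀ rb : Si, ((rb : Rˣ) : R) = 1 + b • N → cX rb = 0 := by
    intro b hb rb hrb
    obtain ⟨hy, hyb⟩ := lift b (ν * ν) hb hσνν hνν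
    obtain ⟨ry, hry⟩ := mkN _ hy
    rw [← hcomm N hN2 T₀ _ _ b hT₀N hyb ry rb hry hrb]
    exact hlev2 _ _ hT₀ρ (h1N _ hy ry hry)
  have h2M : ∀ (b : F), T.σ b = b → ∀ rb : Si, ((rb : Rˣ) : R) = 1 + b • M → cX rb = 0 := by
    intro b hb rb hrb
    obtain ⟨hy, hyb⟩ := lift b (ν⁻¹ * ν⁻¹) hb hσνν' hνν'
    obtain ⟨ry, hry⟩ := mkM _ hy
    rw [← hcomm M hM2 T₀ _ _ b hT₀M hyb ry rb hry hrb]
    exact hlev2 _ _ hT₀ρ (h1M _ hy ry hry)
  have hT₀c : cX T₀ = 0 := by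
    simp only [T₀, (hρmul _ _).2, h2N _ (map_one _) r1 hr1, h2N _ hνσ r2 hr2,
      h2M _ hνσ' r2' hr2', h2M _ (show T.σ (1 : F)⁻¹ = (1 : F)⁻¹ by simp) r1' hr1', mul_zero, add_zero]
  -- the diagonal root elements commute with the factor
  have hΨN : ∀ (b : F), T.σ b = b → ∀ rb : Si, ((rb : Rˣ) : R) = 1 + b • N → T.Cen l (Ψ rb : R) := by
    intro b hb rb hrb
    obtain ⟨hy, hyb⟩ := lift b (ν * ν) hb hσνν hνν
    obtain ⟨ry, hry⟩ := mkN _ hy
    obtain ⟨α, c, hα, hαv⟩ := hcen T₀ hT₀ρ hT₀c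
    obtain ⟨β, d, hβ, hβv⟩ := hcen ry (h1N _ hy ry hry) (h2N _ hy ry hry)
    obtain ⟨γ, q, hγ, hγv⟩ := hcen rb (h1N _ hb rb hrb) (h2N _ hb rb hrb)
    have hnm : n * n = 0 := hn ▸ T.n_mul_self l hee
    have hnc : ∀ {z : R}, T.Cen l z → z * n = n * z := fun hz => hn ▸ hz e e
    have mulv : ∀ {α β : R}, T.Cen l α → ∀ c d : F, (α + c • (n * α)) * (β + d • (n * β)) =
        α * β + (c + d) • (n * (α * β)) := by
      intro α β hα c d
      have a1 : α * (n * β) = n * (α * β) := by rw [← mul_assoc, hnc hα, mul_assoc]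
      have a2 : n * α * (n * β) = 0 := by rw [mul_assoc, a1, ← mul_assoc, hnm, zero_mul]
      simp only [add_mul, mul_add, smul_mul_assoc, mul_smul_comm, a1, a2, smul_zero, add_zero, mul_assoc n]
      module
    have h1 := congrArg (fun r => (Ψ r : R)) (hswapC T₀ ry)
    simp only [hcomm N hN2 T₀ _ _ b hT₀N hyb ry rb hry hrb, map_mul, Units.val_mul, hγv, hβv, hαv, mulv hα c,
      mulv hβ d, mulv hγ q] at h1
    obtain ⟨Y, hY⟩ : ∃ Y, Y = γ * (β * α) := ⟨_, rfl⟩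
    rw [← hY] at h1
    have hYc : T.Cen l Y := hY ▸ hγ.mul (hβ.mul hα)
    have hZc : T.Cen l (α * β) := hα.mul hβ
    have b0 : ∀ (z : R), T.Cen l z → ∀ s : F, T.blk l f₀ e (z + s • (n * z)) = z := fun z hz s => by
      rw [T.blk_add, T.blk_smul, T.blk_cen hz, hn, T.blk_E_mul hz, hyp.ef, hyp.ee, one_smul, mul_zero, zero_smul,
        smul_zero, add_zero]
    have hYZ : Y = α * β := by
      have := congrArg (T.blk l f₀ e) h1
      rwa [b0 Y hYc, b0 _ hZc] at this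
    rw [hYZ, add_left_cancel_iff] at h1
    have hY0 : α * β ≠ 0 := fun e0 => by
      have hu : IsUnit ((Ψ T₀ : R) * (Ψ ry : R)) := ((Ψ T₀).isUnit).mul (Ψ ry).isUnit
      rw [hαv, hβv, mulv hα c, e0, mul_zero, smul_zero, add_zero] at hu
      exact not_isUnit_zero hu
    have hnY : n * (α * β) ≠ 0 := fun e0 => hY0 (T.E_mul_cancel he he hZc (hn ▸ e0))
    have hq := smul_left_injective F hnY h1
    rw [hγv, show q = 0 by linear_combination hq, zero_smul, add_zero]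
    exact hγ
  -- the sum and the product of the two root elements
  obtain ⟨N', hN'⟩ : ∃ N', N' = (g : R) * N * g := ⟨_, rfl⟩
  obtain ⟨ψ, hψ⟩ : ∃ ψ : R, ψ = N * N' := ⟨_, rfl⟩
  have hYc : ∀ y ∈ T.phi l, ((h : R) * y * (↑h⁻¹ : R)) * ψ = ψ * ((h : R) * y * (↑h⁻¹ : R)) := by
    intro y hy
    obtain ⟨Y, hY⟩ : ∃ Y, Y = (h : R) * y * (↑h⁻¹ : R) := ⟨_, rfl⟩
    rw [← hY]
    have key : ∀ b : F, T.σ b = b → (b • (N + N') + (b * b) • ψ) * Y = Y * (b • (N + N') + (b * b) • ψ) := by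
      intro b hb
      obtain ⟨rb, hrb⟩ := mkN b hb
      have h1 := congrArg (fun t => (h : R) * t * (↑h⁻¹ : R)) (T.phi_comm_cen hy (hΨN b hb rb hrb))
      have e1 : ((Ψ rb : Rˣ) : R) = (↑h⁻¹ : R) * (1 + (b • (N + N') + (b * b) • ψ)) * (h : R) := by
        show (((h⁻¹ * ((rb : Rˣ) * (g * rb * g)) * h) : Rˣ) : R) = _
        simp only [Units.val_mul, hrb, hψ, hN']
        congr 2
        simp only [mul_add, add_mul, mul_one, one_mul, mul_smul_comm, smul_mul_assoc, hgg, smul_smul, smul_add,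
          mul_assoc]
        abel
      rw [e1] at h1
      obtain ⟨B, hB⟩ : ∃ B, B = b • (N + N') + (b * b) • ψ := ⟨_, rfl⟩
      rw [← hB] at h1 ⊢
      have c1 : (h : R) * ((↑h⁻¹ : R) * (1 + B) * (h : R) * y) * (↑h⁻¹ : R) = (1 + B) * Y := by
        simp [hY, mul_assoc]
      have c2 : (h : R) * (y * ((↑h⁻¹ : R) * (1 + B) * (h : R))) * (↑h⁻¹ : R) = Y * (1 + B) := by
        simp [hY, mul_assoc]
      rw [c1, c2, add_mul, one_mul, mul_add, mul_one] at h1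
      exact add_left_cancel h1
    have k1 := key 1 (map_one _)
    have k2 := key ν hνσ
    simp only [one_smul, one_mul, add_mul, mul_add, smul_mul_assoc, mul_smul_comm] at k1 k2
    have k3 : (ν * ν - ν) • (ψ * Y - Y * ψ) = 0 := by linear_combination (norm := module) k2 - ν • k1
    exact (sub_eq_zero.1 ((smul_eq_zero.1 k3).resolve_left
      (sub_ne_zero.2 fun e1 => hν1 (mul_left_cancel₀ hν0 (e1.trans (mul_one ν).symm))))).symm
  -- the idempotent of the diagonal piece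
  obtain ⟨π, hπ⟩ : ∃ π, π = T.pI i e f₀ * ((g : R) * T.pI i e f₀ * g) := ⟨_, rfl⟩
  have hgπ : (g : R) * π = π := hπ ▸ (G.swap_pieces hw hx hgx hgg hij hcar hyp).1
  have hM'j : (g : R) * M * g ∈ T.phi j := by
    have := hcar M (hM ▸ T.E_mem_phi i f₀ f₀); rwa [hgi] at this
  have hP'j : (g : R) * T.pI i e f₀ * g ∈ T.phi j := by
    have := hcar _ (T.pI_mem_phi (e := e) (f₀ := f₀) i); rwa [hgi] at this
  have hN'j : N' ∈ T.phi j := by
    have := hcar N (hN ▸ T.E_mem_phi i e e); rw [hgi, ← hN'] at this; exact this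
  obtain ⟨ω, hω⟩ : ∃ ω, ω = M * ((g : R) * M * g) := ⟨_, rfl⟩
  have hKM : ∀ a b : R, (g : R) * a * g * ((g : R) * b * g) = (g : R) * (a * b) * g := fun a b => by
    simp only [mul_assoc]; rw [← mul_assoc (g : R) g, hgg, one_mul]
  have hNM : N * M = T.pI i e f₀ := by rw [hN, hM, T.mul, hyp.fe, one_smul]; rfl
  have hπω : π = ψ * ω := by
    rw [hψ, hω, mul_assoc N, ← mul_assoc N' M,
      (T.phi_comm_cen (hM ▸ T.E_mem_phi i f₀ f₀) (T.cen_of_phi_ne hij hN'j) : N' * M = M * N'), mul_assoc M,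
      ← mul_assoc N M, hN', hKM, hNM, hπ]
  have hπψ : π * ψ = ψ := by
    rw [hπ, hψ, mul_assoc (T.pI i e f₀), ← mul_assoc _ N,
      (T.phi_comm_cen (hN ▸ T.E_mem_phi i e e) (T.cen_of_phi_ne hij hP'j)), mul_assoc N, ← mul_assoc (T.pI i e f₀),
      hN', hKM, hN, hyp.pI_mul_n]
  have hπY : ∀ y ∈ T.phi l, ((h : R) * y * (↑h⁻¹ : R)) * π = π * (((h : R) * y * (↑h⁻¹ : R)) * π) := fun y hy => by
    obtain ⟨Y, hY⟩ : ∃ Y, Y = (h : R) * y * (↑h⁻¹ : R) := ⟨_, rfl⟩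
    have := hY ▸ hYc y hy
    rw [← hY, hπω, ← mul_assoc Y, this, mul_assoc ψ, ← mul_assoc (ψ * ω), ← hπω, hπψ]
  have hxπ : x * π = 0 := by rw [show x = (g : R) - 1 by rw [hgx, add_sub_cancel_left], sub_mul, one_mul, hgπ, sub_self]
  -- the operators of the factor killed by it
  have hkill : ∀ p q, π * ((h : R) * T.E l p q * (↑h⁻¹ : R)) * π = 0 := by
    intro p q
    have e1 : T.E l p q = a⁻¹ • (T.E l p f₀ * (a • T.E l e e) * T.E l f₀ q) := by
      rw [mul_smul_comm, smul_mul_assoc, inv_smul_smul₀ ha, T.mul, hyp.ef, one_smul, T.mul, hyp.fe, one_smul]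
    obtain ⟨Y₁, hY₁⟩ : ∃ Y, Y = (h : R) * T.E l p f₀ * (↑h⁻¹ : R) := ⟨_, rfl⟩
    obtain ⟨Y₂, hY₂⟩ : ∃ Y, Y = (h : R) * T.E l f₀ q * (↑h⁻¹ : R) := ⟨_, rfl⟩
    have e2 : (h : R) * T.E l p q * (↑h⁻¹ : R) = a⁻¹ • (Y₁ * x * Y₂) := by
      rw [e1, hY₁, hY₂, hxh]; simp [mul_assoc]
    rw [e2, mul_smul_comm, smul_mul_assoc]
    calc a⁻¹ • (π * (Y₁ * x * Y₂) * π) = a⁻¹ • (π * (Y₁ * (x * (Y₂ * π)))) := by simp only [mul_assoc]
      _ = 0 := by
        rw [hY₂, hπY _ (T.E_mem_phi l f₀ q), ← mul_assoc x, hxπ, zero_mul, mul_zero, mul_zero, smul_zero]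
  have hπ0 : π * π = 0 := by
    calc π * π = π * ((h : R) * (∑ s, T.E l (T.b s) (T.b' s)) * (↑h⁻¹ : R)) * π := by
          rw [T.one, mul_one, Units.mul_inv, mul_one]
      _ = 0 := by
          simp only [Finset.mul_sum, Finset.sum_mul]
          exact Finset.sum_eq_zero fun s _ => hkill _ _
  have hππ : π * π = π := by
    conv_lhs => arg 2; rw [hπω]
    rw [← mul_assoc, hπψ, ← hπω]
  have hP0 : T.pI i e f₀ ≠ 0 := T.E_ne_zero i he hyp.right_ne
  have hQ0 := T.eq_zero_of_phi_mul (T.pI_mem_phi i) hP0 (T.cen_of_phi_ne hij hP'j) (by rw [← hπ, ← hππ, hπ0])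
  apply hP0
  have h1 := congrArg (fun s => (g : R) * s * g) hQ0
  simp only [mul_assoc, hgg, mul_one] at h1
  rw [← mul_assoc (g : R) g, hgg, one_mul, zero_mul, mul_zero] at h1
  exact h1

end CfsgLib.MaxSub.SuPow
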