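import Cfsg.Agent.Lib.MaxSub.SuPow.Fix
import Cfsg.Agent.Lib.MaxSub.SpPow.Quad

/-!
Tensor powers of a Hermitian space: members permuting a set of factors, and the step of the descent - a root whose
root element permutes the factors of the set is pure, provided the roots living in smaller sets of factors are.
-/

set_option autoImplicit false
set_option linter.unusedSectionVars false

namespace CfsgLib.MaxSub.SuPow

open CfsgLib.MaxSub.SpPow (InH inv_one_add)

variable {F A R ι κ : Type*} [Field F] [AddCommGroup A] [Module F A] [Ring R] [Algebra F R] [Fintype κ]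
variable {T : Sys F A R ι κ} {H : Subgroup Rˣ}

/-- `x` commutes with the factors outside `S` -/
def Sys.Off (T : Sys F A R ι κ) (S : Finset ι) (x : R) : Prop := ∀ l ∉ S, T.Cen l x

theorem Sys.Off.mul {S : Finset ι} {x y : R} (hx : T.Off S x) (hy : T.Off S y) : T.Off S (x * y) :=
  fun l hl => (hx l hl).mul (hy l hl)

theorem Sys.Off.add {S : Finset ι} {x y : R} (hx : T.Off S x) (hy : T.Off S y) : T.Off S (x + y) :=
  fun l hl => (hx l hl).add (hy l hl)

theorem Sys.Off.inv {S : Finset ι} {g : Rˣ} (h : T.Off S (g : R)) : T.Off S (↑g⁻¹ : R) := fun l hl u v =>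
  (Commute.units_inv_left (h l hl u v : Commute (g : R) (T.E l u v))).eq

theorem Sys.off_one (T : Sys F A R ι κ) (S : Finset ι) : T.Off S 1 := fun l _ => T.cen_one l

theorem Sys.off_of_phi (T : Sys F A R ι κ) {S : Finset ι} {k : ι} (hk : k ∈ S) {x : R} (hx : x ∈ T.phi k) :
    T.Off S x := fun l hl => T.cen_of_phi_ne (fun h : l = k => hl (h ▸ hk)) hx

theorem Sys.Off.conj {S : Finset ι} {g : Rˣ} {x : R} (hg : T.Off S (g : R)) (hx : T.Off S x) :
    T.Off S ((g : R) * x * (↑g⁻¹ : R)) := (hg.mul hx).mul hg.inv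

theorem IsPure.factor [Nontrivial R] {S : Finset ι} {x : R} (hx : IsPure T x) (hS : T.Off S x) :
    ∃ k ∈ S, ∃ e, e ≠ 0 ∧ T.f e e = 0 ∧ ∃ a : F, a ≠ 0 ∧ T.σ a = -a ∧ x = a • T.E k e e := by
  obtain ⟨k, e, he, hee, a, ha, hσ, rfl⟩ := hx
  refine ⟨k, ?_, e, he, hee, a, ha, hσ, rfl⟩
  by_contra hk
  obtain ⟨f₀, hf⟩ := T.exists_hyp he hee
  have := (hS k hk).smul a⁻¹
  rw [inv_smul_smul₀ ha] at this
  exact T.not_cen_E hf this

theorem IsPure.factor_unique [Nontrivial R] {i j : ι} {x : R} (hx : IsPure T x) (h1 : x ∈ T.phi i)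
    (h2 : x ∈ T.phi j) : i = j := by
  by_contra hij
  obtain ⟨e, he, hee, a, ha, -, rfl⟩ := Sys.IsPure.of_mem_phi hx h1
  obtain ⟨f₀, hf⟩ := T.exists_hyp he hee
  have := (T.cen_of_phi_ne hij h2).smul a⁻¹
  rw [inv_smul_smul₀ ha] at this
  exact T.not_cen_E hf this

theorem Carries.comp {g h : Rˣ} {i j k : ι} (h1 : Carries T g i j) (h2 : Carries T h j k) :
    Carries T (h * g) i k := fun y hy => by
  have := h2 _ (h1 y hy)
  simpa [mul_assoc] using this

theorem Carries.refl (T : Sys F A R ι κ) (i : ι) : Carries T (1 : Rˣ) i i := fun y hy => by simpa using hy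

theorem Carries.pow {g : Rˣ} {i : ι} (h : Carries T g i i) (m : ℕ) : Carries T (g ^ m) i i := by
  induction m with
  | zero => simpa using Carries.refl T i
  | succ m ih => rw [pow_succ']; exact ih.comp h

theorem Carries.right_unique [Nontrivial R] {g : Rˣ} {i j j' : ι} {e : A} (he : e ≠ 0) (hee : T.f e e = 0)
    (h1 : Carries T g i j) (h2 : Carries T g i j') : j = j' := by
  by_contra hne
  obtain ⟨X, hX⟩ : ∃ X, X = (g : R) * T.E i e e * (↑g⁻¹ : R) := ⟨_, rfl⟩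
  have m1 : X ∈ T.phi j := hX ▸ h1 _ (T.E_mem_phi i e e)
  have m2 : T.Cen j X := hX ▸ T.cen_of_phi_ne hne (h2 _ (T.E_mem_phi i e e))
  obtain ⟨u, hu⟩ := T.exists_f_eq_one he
  obtain ⟨s, hs⟩ := T.blk_phi m1 u e
  have e1 : X = s • (1 : R) := by rw [← hs, T.blk_cen m2, hu, one_smul]
  have h0 : T.E i e e = s • (1 : R) := by
    have := congrArg (fun t => (↑g⁻¹ : R) * t * (g : R)) (hX.symm.trans e1)
    simpa [mul_assoc] using this
  have hsq := T.n_mul_self i hee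
  rw [h0, smul_mul_smul, one_mul, smul_eq_zero, or_iff_left one_ne_zero, mul_self_eq_zero] at hsq
  exact T.E_ne_zero i he he (by rw [h0, hsq, zero_smul])

/-- a member permuting the factors in `S` -/
def Good (T : Sys F A R ι κ) (H : Subgroup Rˣ) (S : Finset ι) (g : Rˣ) : Prop :=
  g ∈ H ∧ T.Off S (g : R) ∧ ∀ k ∈ S, ∃ k' ∈ S, Carries T g k k'

theorem Good.mul {S : Finset ι} {g h : Rˣ} (hg : Good T H S g) (hh : Good T H S h) : Good T H S (g * h) := by
  refine ⟨mul_mem hg.1 hh.1, by rw [Units.val_mul]; exact hg.2.1.mul hh.2.1, fun k hk => ?_⟩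
  obtain ⟨k', hk', h1⟩ := hh.2.2 k hk
  obtain ⟨k'', hk'', h2⟩ := hg.2.2 k' hk'
  exact ⟨k'', hk'', h1.comp h2⟩

theorem Good.inv [Finite R] {S : Finset ι} {g : Rˣ} (hg : Good T H S g) : Good T H S g⁻¹ := by
  haveI : Finite Rˣ := Finite.of_injective _ Units.val_injective
  have hpow : ∀ m, Good T H S (g ^ m) := by
    intro m
    induction m with
    | zero => exact ⟨by simp, by simpa using T.off_one S, fun k hk => ⟨k, hk, by simpa using Carries.refl T k⟩⟩
    | succ m ih => rw [pow_succ]; exact ih.mul hg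
  convert hpow (orderOf g - 1) using 1
  refine inv_eq_of_mul_eq_one_right ?_
  rw [← pow_succ', Nat.sub_add_cancel (orderOf_pos g), pow_orderOf_eq_one]

/-- the roots in fewer factors are pure -/
def Low (T : Sys F A R ι κ) (H : Subgroup Rˣ) (S : Finset ι) : Prop :=
  ∀ k ∈ S, ∀ x, IsRoot T H x → T.Off S x → T.Cen k x → IsPure T x

variable [Finite F] [Finite R] [Nontrivial R]
variable {S : Finset ι}

/-- a root commuting with a root element of a factor of the set is pure -/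
theorem Grp.pure_of_commute (G : Grp T H) (Z : Ctr T H) (hw : T.Wide) (hk : T.Big ∨ 4 < Nat.card F)
    (L : Low T H S) {y : R} (hy : IsPure T y) (hyS : T.Off S y) {x : R} (hx : IsRoot T H x) (hxS : T.Off S x)
    (hc : y * x = x * y) : IsPure T x := by
  obtain ⟨k, hk', e, he, hee, a, ha, -, rfl⟩ := hy.factor hyS
  rw [smul_mul_assoc, mul_smul_comm] at hc
  exact (G.pure_or_cen Z hw hk he hee hx (smul_right_injective R ha hc)).elim id (L k hk' x hx hxS)

/-- one pure image decides -/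
theorem Grp.good_of_image (G : Grp T H) (Z : Ctr T H) (hw : T.Wide) (hk : T.Big ∨ 4 < Nat.card F)
    (L : Low T H S) {g : Rˣ} (hg : g ∈ H) (hgS : T.Off S (g : R)) {y : R} (hy : IsPure T y) (hyS : T.Off S y)
    (himg : IsPure T ((g : R) * y * (↑g⁻¹ : R))) : Good T H S g := by
  obtain ⟨k₀, hk₀, e, he, hee, a, ha, hσ, rfl⟩ := hy.factor hyS
  have carry : ∀ l ∈ S, ∀ y, IsPure T y → y ∈ T.phi l → IsPure T ((g : R) * y * (↑g⁻¹ : R)) →
      ∃ l' ∈ S, Carries T g l l' := by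
    intro l hl y hy hyl himg
    obtain ⟨v, hv, hvv, b, hb, -, rfl⟩ := Sys.IsPure.of_mem_phi hy hyl
    obtain ⟨l', hl', v', hv', hvv', c, hc, -, hgv⟩ := himg.factor (hgS.conj (T.off_of_phi hl hyl))
    rw [mul_smul_comm, smul_mul_assoc, ← eq_inv_smul_iff₀ hb, smul_smul] at hgv
    exact ⟨l', hl', G.stab Z hw hk hg hv hvv hv' hvv' (mul_ne_zero (inv_ne_zero hb) hc) hgv⟩
  have hm : a • T.E k₀ e e ∈ T.phi k₀ := (T.phi k₀).smul_mem a (T.E_mem_phi k₀ e e)
  refine ⟨hg, hgS, fun l hl => ?_⟩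
  rcases eq_or_ne l k₀ with rfl | hne
  · exact carry l hl _ ⟨l, e, he, hee, a, ha, hσ, rfl⟩ hm himg
  have hy' : IsPure T (a • T.E l e e) := ⟨l, e, he, hee, a, ha, hσ, rfl⟩
  have hl' : a • T.E l e e ∈ T.phi l := (T.phi l).smul_mem a (T.E_mem_phi l e e)
  refine carry l hl _ hy' hl' (G.pure_of_commute Z hw hk L himg (hgS.conj (T.off_of_phi hk₀ hm))
    (hy'.isRoot.conj hg) (hgS.conj (T.off_of_phi hl hl')) ?_)
  have := congrArg (fun t => (g : R) * t * (↑g⁻¹ : R)) (T.phi_comm_cen hm (T.cen_of_phi_ne (Ne.symm hne) hl'))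
  simpa [mul_assoc] using this.symm

variable [Fintype ι]

/-- **a root whose root element permutes the factors is pure** -/
theorem Grp.pure_of_good (G : Grp T H) (Z : Ctr T H) (hw : T.Wide) (hk : T.Big ∨ 4 < Nat.card F) (L : Low T H S)
    {i : ι} (hi : i ∈ S) {x : R} (hx : IsRoot T H x) (hxS : T.Off S x) {g : Rˣ} (hg : Good T H S g)
    (hgx : (g : R) = 1 + x) : IsPure T x := by
  classical
  obtain ⟨-, -, y₀, ⟨-, e, he, hee, a, ha, hσ, -⟩, -⟩ := id hx
  obtain ⟨f₀, h⟩ := T.exists_hyp he hee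
  obtain ⟨j, hj, hij⟩ := hg.2.2 i hi
  by_cases hji : j = i
  · subst hji
    have hp : IsPure T (a • T.E j e e) := ⟨j, e, he, hee, a, ha, hσ, rfl⟩
    have hm := hij _ ((T.phi j).smul_mem a (T.E_mem_phi j e e))
    obtain ⟨e', he', hee', b, hb, -, hgn⟩ := Sys.IsPure.of_mem_phi
      (G.pure_of_phi (hp.isRoot.conj hg.1) hm) hm
    rw [mul_smul_comm, smul_mul_assoc, ← eq_inv_smul_iff₀ ha, smul_smul] at hgn
    exact (G.pure_or_cen_of_image Z hw hk he hee he' hee' hx hg.1 hgx (mul_ne_zero (inv_ne_zero ha) hb) hgn).elim id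
      (L j hi x hx hxS)
  exfalso
  obtain ⟨k, hk', hjk⟩ := hg.2.2 j hj
  have hinj : k ≠ j := by
    rintro rfl
    obtain ⟨m, -, hm⟩ := hg.inv.2.2 k hj
    have h1 := hij.comp hm
    have h2 := hjk.comp hm
    rw [inv_mul_cancel] at h1 h2
    exact hji ((h2.right_unique he hee (Carries.refl T k)).symm.trans (h1.right_unique he hee (Carries.refl T i)))
  by_cases hki : k = i
  · subst hki
    obtain ⟨p, hp⟩ := CharP.exists F
    haveI : Fact p.Prime := ⟨CharP.char_is_prime F p⟩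
    rcases (Fact.out : p.Prime).eq_two_or_odd' with rfl | hodd
    · exact G.no_swap Z hw hk (by exact_mod_cast CharP.cast_eq_zero F 2) hg.1 hx hgx (Ne.symm hji) hij
    obtain ⟨m, hm⟩ := hodd
    have hgp : g ^ p = 1 := Units.ext (by
      have h1 := SpPow.Quad.pow_char (F := F) (x := x) p 1
      rw [pow_one, show p = 2 + (p - 2) by have := (Fact.out : p.Prime).two_le; omega,
        pow_add x, pow_two x, hx.sq, zero_mul, add_zero, ← show p = 2 + (p - 2) by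
          have := (Fact.out : p.Prime).two_le; omega] at h1
      rw [Units.val_pow_eq_pow_val, hgx, h1, Units.val_one])
    have hg1 : (g * g) ^ (m + 1) = g := by
      rw [← pow_two, ← pow_mul, show 2 * (m + 1) = p + 1 by omega, pow_succ, hgp, one_mul]
    have h1 := (hij.comp hjk).pow (m + 1)
    rw [hg1] at h1
    exact hji (hij.right_unique he hee h1)
  -- three factors
  obtain ⟨P₀, hP₀⟩ : ∃ P, P = T.pI i e f₀ := ⟨_, rfl⟩
  obtain ⟨P₁, hP₁⟩ : ∃ P, P = (g : R) * P₀ * (↑g⁻¹ : R) := ⟨_, rfl⟩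
  obtain ⟨P₂, hP₂⟩ : ∃ P, P = ((g * g : Rˣ) : R) * P₀ * (↑(g * g)⁻¹ : R) := ⟨_, rfl⟩
  have hP₀m : P₀ ∈ T.phi i := hP₀ ▸ T.pI_mem_phi i
  have hP₁m : P₁ ∈ T.phi j := hP₁ ▸ hij _ hP₀m
  have hP₂m : P₂ ∈ T.phi k := hP₂ ▸ (hij.comp hjk) _ hP₀m
  have hP₀0 : P₀ ≠ 0 := hP₀ ▸ T.E_ne_zero i he h.right_ne
  have hidP : P₀ * P₀ = P₀ := hP₀ ▸ h.pI_mul_self i
  have hP₀1 : P₀ ≠ 1 := fun e1 => by
    have := h.qI_mul_pI i
    rw [← hP₀, e1, mul_one] at this
    exact T.E_ne_zero i h.right_ne he this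
  have hone : ∀ h : Rˣ, (h : R) * P₀ * (↑h⁻¹ : R) ≠ 1 := fun h e1 => hP₀1 (by
    have := congrArg (fun t => (↑h⁻¹ : R) * t * (h : R)) e1
    simpa [mul_assoc] using this)
  have hcj : ∀ {l : ι} {y : R}, y ∈ T.phi l → ∀ {l' : ι}, l' ≠ l → T.Cen l' (1 - y) := fun hy _ h =>
    (T.cen_one _).sub (T.cen_of_phi_ne h hy)
  have c12 : (1 - P₁) * (1 - P₂) = (1 - P₂) * (1 - P₁) := by
    simp only [sub_mul, mul_sub, one_mul, mul_one, T.phi_comm_cen hP₁m (T.cen_of_phi_ne hinj.symm hP₂m)]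
    abel
  have hid : ∀ h : Rˣ, (1 - (h : R) * P₀ * (↑h⁻¹ : R)) * (1 - (h : R) * P₀ * (↑h⁻¹ : R)) =
      1 - (h : R) * P₀ * (↑h⁻¹ : R) := fun h => by
    have : ((h : R) * P₀ * (↑h⁻¹ : R)) * ((h : R) * P₀ * (↑h⁻¹ : R)) = (h : R) * P₀ * (↑h⁻¹ : R) := by
      rw [show ((h : R) * P₀ * (↑h⁻¹ : R)) * ((h : R) * P₀ * (↑h⁻¹ : R)) =
        (h : R) * (P₀ * P₀) * (↑h⁻¹ : R) by simp [mul_assoc], hidP]
    simp only [sub_mul, mul_sub, one_mul, mul_one, this]
    abel
  obtain ⟨ε, hε⟩ : ∃ ε, ε = P₀ * ((1 - P₁) * (1 - P₂)) := ⟨_, rfl⟩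
  have k1 : (1 - P₁) * ((g : R) * P₀) = 0 := by
    rw [sub_mul, one_mul, hP₁, mul_assoc ((g : R) * P₀), Units.inv_mul_cancel_left, mul_assoc, hidP, sub_self]
  have k2 : (1 - P₂) * ((g : R) * g * P₀) = 0 := by
    rw [sub_mul, one_mul, hP₂, Units.val_mul, mul_assoc ((g : R) * g * P₀), ← Units.val_mul,
      mul_assoc ((g * g : Rˣ) : R), Units.inv_mul_cancel_left, hidP, sub_self]
  have e1 : ε * (g : R) * ε = 0 := by
    calc ε * (g : R) * ε = P₀ * ((1 - P₂) * ((1 - P₁) * ((g : R) * P₀))) * ((1 - P₁) * (1 - P₂)) := by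
          rw [hε, c12]; simp only [mul_assoc]
      _ = 0 := by rw [k1, mul_zero, mul_zero, zero_mul]
  have e2 : ε * ((g : R) * g) * ε = 0 := by
    calc ε * ((g : R) * g) * ε = P₀ * ((1 - P₁) * ((1 - P₂) * ((g : R) * g * P₀))) * ((1 - P₁) * (1 - P₂)) := by
          rw [hε]; simp only [mul_assoc]
      _ = 0 := by rw [k2, mul_zero, mul_zero, zero_mul]
  have hεε : ε * ε = ε := by
    have c : ((1 - P₁) * (1 - P₂)) * P₀ = P₀ * ((1 - P₁) * (1 - P₂)) :=
      T.phi_comm_cen hP₀m ((hcj hP₁m (Ne.symm hji)).mul (hcj hP₂m (Ne.symm hki)))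
    have q1 : (1 - P₁) * (1 - P₁) = 1 - P₁ := hP₁ ▸ hid g
    have q2 : (1 - P₂) * (1 - P₂) = 1 - P₂ := hP₂ ▸ hid (g * g)
    calc ε * ε = P₀ * (((1 - P₁) * (1 - P₂)) * P₀) * ((1 - P₁) * (1 - P₂)) := by
          rw [hε]; simp only [mul_assoc]
      _ = (P₀ * P₀) * (((1 - P₁) * (1 - P₂)) * ((1 - P₁) * (1 - P₂))) := by rw [c]; simp only [mul_assoc]
      _ = ε := by
        rw [hidP, mul_assoc (1 - P₁), ← mul_assoc (1 - P₂) (1 - P₁), ← c12, mul_assoc (1 - P₁) (1 - P₂), q2,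
          ← mul_assoc, ← mul_assoc, hε, mul_assoc P₀, q1, mul_assoc]
  have hquad : (g : R) * g - ((g : R) + g) + 1 = 0 := by
    rw [hgx]
    simp only [add_mul, mul_add, one_mul, mul_one, hx.sq]
    abel
  have h0 : ε = 0 := by
    have h1 := congrArg (fun t => ε * t * ε) hquad
    simp only [mul_sub, sub_mul, mul_add, add_mul, e1, e2, mul_one, hεε, mul_zero, zero_mul] at h1
    simpa using h1
  rw [hε] at h0
  have hy := T.eq_zero_of_phi_mul hP₀m hP₀0 ((hcj hP₁m (Ne.symm hji)).mul (hcj hP₂m (Ne.symm hki))) h0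
  have h12 := T.eq_zero_of_phi_mul (sub_mem (T.one_mem_phi j) hP₁m) (sub_ne_zero.2 (hP₁ ▸ hone g).symm)
    (hcj hP₂m hinj.symm) hy
  exact sub_ne_zero.2 (hP₂ ▸ hone (g * g)).symm h12

end CfsgLib.MaxSub.SuPow
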