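import Cfsg.Agent.Lib.MaxSub.SuPow.Cut

/-!
Tensor powers of a Hermitian space: when a centre of a root parabolic meets the group outside the root group,
products of root elements of several factors are root elements of the group; they grow to all factors.
-/

set_option autoImplicit false
set_option linter.unusedSectionVars false

namespace CfsgLib.MaxSub.SuPow

open CfsgLib.MaxSub.SpPow (InH inv_one_add)

variable {F A R ι κ : Type*} [Field F] [AddCommGroup A] [Module F A] [Ring R] [Algebra F R] [Fintype κ]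
  [DecidableEq ι]
variable {T : Sys F A R ι κ} {H : Subgroup Rˣ}

/-- products of root elements of the factors in a set -/
inductive Mono (T : Sys F A R ι κ) : Finset ι → R → Prop
  | empty : Mono T ∅ 1
  | insert {J : Finset ι} {x : R} (l : ι) (a : A) : l ∉ J → a ≠ 0 → T.f a a = 0 → Mono T J x →
      Mono T (insert l J) (T.E l a a * x)

theorem Mono.cen {J : Finset ι} {x : R} (h : Mono T J x) {l : ι} (hl : l ∉ J) : T.Cen l x := by
  induction h with
  | empty => exact T.cen_one l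
  | insert m a hm ha haa _ ih =>
    rw [Finset.mem_insert, not_or] at hl
    exact (T.cen_E hl.1 a a).mul (ih hl.2)

theorem Mono.comm {J : Finset ι} {x : R} (h : Mono T J x) {z : R} (hz : ∀ l ∈ J, T.Cen l z) :
    z * x = x * z := by
  induction h with
  | empty => rw [mul_one, one_mul]
  | insert m a hm ha haa _ ih =>
    rw [← mul_assoc, hz m (Finset.mem_insert_self _ _), mul_assoc,
      ih fun l hl => hz l (Finset.mem_insert_of_mem hl), mul_assoc]

theorem Mono.single (l : ι) {a : A} (ha : a ≠ 0) (haa : T.f a a = 0) : Mono T {l} (T.E l a a) := by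
  have := Mono.insert l a (Finset.notMem_empty l) ha haa (Mono.empty (T := T))
  rwa [mul_one, insert_empty_eq] at this

theorem Mono.eq_one {J : Finset ι} {x : R} (h : Mono T J x) (hJ : J = ∅) : x = 1 := by
  cases h with
  | empty => rfl
  | insert l a => exact absurd hJ (Finset.insert_ne_empty _ _)

/-- an operator commuting with the other factors is an operator of the factor -/
theorem Sys.mem_phi_of_cen {l : ι} {x : R} (h : ∀ m, m ≠ l → T.Cen m x) : x ∈ T.phi l :=
  T.mem_phi_of_blk fun u v => T.scal _ fun m => by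
    rcases eq_or_ne m l with rfl | hm
    · exact fun a b => T.cen_blk m u v x a b
    · exact fun a b => T.cen_blk_other hm u v (h m hm) a b

theorem Mono.sq {J : Finset ι} {x : R} (h : Mono T J x) (hJ : J.Nonempty) : x * x = 0 := by
  cases h with
  | empty => simp at hJ
  | @insert J x l a hl ha haa h =>
    rw [mul_assoc, ← mul_assoc x, h.cen hl, mul_assoc, ← mul_assoc, T.n_mul_self l haa, zero_mul]

theorem Mono.split {J : Finset ι} {x : R} (h : Mono T J x) {l : ι} (hl : l ∈ J) :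
    ∃ a x', a ≠ 0 ∧ T.f a a = 0 ∧ Mono T (J.erase l) x' ∧ x = T.E l a a * x' := by
  induction h with
  | empty => simp at hl
  | @insert J x m a hm ha haa h ih =>
    rcases eq_or_ne l m with rfl | hlm
    · exact ⟨a, x, ha, haa, by rwa [Finset.erase_insert hm], rfl⟩
    · obtain ⟨b, x', hb, hbb, hx', rfl⟩ := ih ((Finset.mem_insert.1 hl).resolve_left hlm)
      refine ⟨b, T.E m a a * x', hb, hbb, ?_, ?_⟩
      · rw [Finset.erase_insert_of_ne hlm.symm]
        exact Mono.insert m a (fun h' => hm (Finset.mem_of_mem_erase h')) ha haa hx'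
      · rw [← mul_assoc, T.comm m l hlm.symm, mul_assoc]

/-- a multiple of a product of root elements over `J` is the generator of an element of the group -/
def Full (T : Sys F A R ι κ) (H : Subgroup Rˣ) (J : Finset ι) : Prop :=
  ∃ x, Mono T J x ∧ ∃ c : F, c ≠ 0 ∧ InH H (1 + c • x)

/-- the group moves any three factors in a cycle -/
def Perms (T : Sys F A R ι κ) (H : Subgroup Rˣ) : Prop :=
  ∀ i j m, i ≠ j → i ≠ m → j ≠ m → ∃ g ∈ H, ∀ l a, a ≠ 0 → T.f a a = 0 → ∃ b, ∃ c : F,
    b ≠ 0 ∧ T.f b b = 0 ∧ c ≠ 0 ∧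
      (g : R) * T.E l a a * (↑g⁻¹ : R) = c • T.E ((Equiv.swap i m * Equiv.swap i j) l) b b

theorem Mono.conj {g : Rˣ} {σ : Equiv.Perm ι}
    (hg : ∀ l a, a ≠ 0 → T.f a a = 0 → ∃ b, ∃ c : F, b ≠ 0 ∧ T.f b b = 0 ∧ c ≠ 0 ∧
      (g : R) * T.E l a a * (↑g⁻¹ : R) = c • T.E (σ l) b b) {J : Finset ι} {x : R} (h : Mono T J x) :
    ∃ y, ∃ c : F, c ≠ 0 ∧ Mono T (J.image σ) y ∧ (g : R) * x * (↑g⁻¹ : R) = c • y := by
  induction h with
  | empty => exact ⟨1, 1, one_ne_zero, by rw [Finset.image_empty]; exact Mono.empty, by simp⟩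
  | @insert J x l a hl ha haa h ih =>
    obtain ⟨y, c, hc, hy, e⟩ := ih
    obtain ⟨b, d, hb, hbb, hd, e'⟩ := hg l a ha haa
    refine ⟨T.E (σ l) b b * y, d * c, mul_ne_zero hd hc, ?_, ?_⟩
    · rw [Finset.image_insert]
      refine Mono.insert (σ l) b (fun h' => hl ?_) hb hbb hy
      obtain ⟨m, hm, hml⟩ := Finset.mem_image.1 h'
      rwa [σ.injective hml] at hm
    · rw [show (g : R) * (T.E l a a * x) * (↑g⁻¹ : R) =
          ((g : R) * T.E l a a * (↑g⁻¹ : R)) * ((g : R) * x * (↑g⁻¹ : R)) by simp [mul_assoc],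
        e, e', smul_mul_smul]

theorem commutator_mem {a b : R} (ha : a * a = 0) (hb : b * b = 0) (haba : a * b * a = 0) (hbab : b * a * b = 0)
    (h1 : InH H (1 + a)) (h2 : InH H (1 + b)) : InH H (1 + (a * b - b * a)) := by
  have h := ((h1.mul h2).mul (h1.inv ha)).mul (h2.inv hb)
  have ha' : ∀ x, a * (a * x) = 0 := fun x => by rw [← mul_assoc, ha, zero_mul]
  have hb' : ∀ x, b * (b * x) = 0 := fun x => by rw [← mul_assoc, hb, zero_mul]
  have haba' : ∀ x, a * (b * (a * x)) = 0 := fun x => by rw [← mul_assoc, ← mul_assoc, haba, zero_mul]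
  rw [mul_assoc] at haba hbab
  convert h using 1
  simp only [add_mul, mul_add, mul_sub, sub_mul, one_mul, mul_one, mul_assoc, ha, hb, ha', hb', haba, haba', hbab,
    mul_zero, zero_mul]
  abel

/-- the coefficients outside of a product of root elements of `J` -/
def zm {J : Finset ι} {x : R} (hx : Mono T J x) (hJ : J.Nonempty) (H : Subgroup Rˣ) : AddSubgroup R where
  carrier := {z | (∀ l ∈ J, T.Cen l z) ∧ InH H (1 + x * z)}
  zero_mem' := ⟨fun l _ => T.cen_zero l, by rw [mul_zero, add_zero]; exact InH.one⟩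
  add_mem' {a b} ha hb := ⟨fun l hl => (ha.1 l hl).add (hb.1 l hl), by
    have h := ha.2.mul hb.2
    have h0 : x * a * (x * b) = 0 := by
      rw [mul_assoc, ← mul_assoc a, hx.comm ha.1, mul_assoc, ← mul_assoc, hx.sq hJ, zero_mul]
    convert h using 1
    simp only [add_mul, mul_add, one_mul, mul_one, h0, add_zero]
    abel⟩
  neg_mem' {a} ha := ⟨fun l hl => (ha.1 l hl).neg, by
    have h0 : x * a * (x * a) = 0 := by
      rw [mul_assoc, ← mul_assoc a, hx.comm ha.1, mul_assoc, ← mul_assoc, hx.sq hJ, zero_mul]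
    have h := ha.2.inv h0
    rwa [sub_eq_add_neg, ← mul_neg] at h⟩

theorem zm_conj {J : Finset ι} {x : R} (hx : Mono T J x) {hJ : J.Nonempty} (G : Grp T H) {i : ι} (hi : i ∉ J)
    {S : R} (hS : S ∈ T.phi i) (hg : InH H (1 + S)) {z : R} (hz : z ∈ zm hx hJ H) :
    (1 + S) * z * (1 + T.ad S) ∈ zm hx hJ H := by
  obtain ⟨hzc, hzH⟩ := hz
  have hS' : ∀ l ∈ J, T.Cen l S := fun l hl => T.cen_of_phi_ne (fun h : l = i => hi (h ▸ hl)) hS
  obtain ⟨g, hg', hgv⟩ := hg
  have hinv : (↑g⁻¹ : R) = 1 + T.ad S := by rw [G.inv_eq hg', hgv, map_add, T.ad_one]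
  refine ⟨fun l hl => ((((T.cen_one l).add (hS' l hl)).mul (hzc l hl)).mul
    ((T.cen_one l).add (hS' l hl).ad)), ?_⟩
  have h := hzH.conj hg'
  rw [show (g : R) * (1 + x * z) * (↑g⁻¹ : R) = 1 + (g : R) * (x * z) * (↑g⁻¹ : R) by
    rw [mul_add, mul_one, add_mul, Units.mul_inv], hgv, hinv] at h
  convert h using 1
  congr 1
  have e : (1 + S) * x = x * (1 + S) := hx.comm fun l hl => (T.cen_one l).add (hS' l hl)
  simp only [← mul_assoc, e]

theorem zm_stable {J : Finset ι} {x : R} (hx : Mono T J x) {hJ : J.Nonempty} (G : Grp T H) {i : ι} (hi : i ∉ J) :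
    StableAt T i (zm hx hJ H) where
  root e a he ha z hz := by
    have h := zm_conj hx G hi ((T.phi i).smul_mem a (T.E_mem_phi i e e)) (G.root i e a he ha) hz
    rw [T.ad_smul, T.ad_E, ha, neg_smul, ← sub_eq_add_neg] at h
    exact sub_mem h hz
  short e v c he hv hc z hz := by
    have h := zm_conj hx G hi (add_mem (sub_mem (T.E_mem_phi i v e) (T.E_mem_phi i e v))
      ((T.phi i).smul_mem c (T.E_mem_phi i e e))) (G.short i e v c he hv hc) hz
    rw [show T.E i v e - T.E i e v + c • T.E i e e = T.sh i e v c from rfl, T.ad_sh] at h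
    exact sub_mem h hz

/-- **first step**: products of root elements of at least two factors -/
theorem exists_full_two [Fintype ι] (G : Grp T H) (hw : T.Wide) (hZ : ¬ Ctr T H) :
    ∃ J, 2 ≤ J.card ∧ Full T H J := by
  classical
  simp only [Ctr, not_forall, not_exists] at hZ
  obtain ⟨i, e, he, hee, y, hy, hin, hno⟩ := hZ
  obtain ⟨f₀, hef⟩ := T.exists_hyp he hee
  suffices key : ∀ (C : Finset ι) (J : Finset ι) (x z : R), C = Jᶜ → J.Nonempty → Mono T J x →
      (∀ l ∈ J, T.Cen l z) → z ≠ 0 → InH H (1 + x * z) →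
      (∀ c : F, z = c • (1 : R) → 2 ≤ J.card) → ∃ K, 2 ≤ K.card ∧ Full T H K by
    refine key _ {i} (T.E i e e) y rfl (Finset.singleton_nonempty i) (Mono.single i he hee)
      (fun l hl => by rw [Finset.mem_singleton] at hl; exact hl ▸ hy) (fun h0 => hno 0 ?_) hin
      fun c hc => absurd (by rw [hc, mul_smul_comm, mul_one]) (hno c)
    rw [h0, mul_zero, zero_smul]
  intro C
  induction C using Finset.strongInduction with
  | H C ih =>
    intro J x z hC hJ hx hzc hz0 hin hcard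
    by_cases hs : ∃ c : F, z = c • (1 : R)
    · obtain ⟨c, rfl⟩ := hs
      refine ⟨J, hcard c rfl, x, hx, c, fun h0 => hz0 (by rw [h0, zero_smul]), ?_⟩
      rwa [mul_smul_comm, mul_one] at hin
    obtain ⟨j, hj⟩ : ∃ j, ¬ T.Cen j z := by
      by_contra hall
      simp only [not_exists, not_not] at hall
      exact hs (T.scal z fun l u v => hall l u v)
    have hjJ : j ∉ J := fun h => hj (hzc j h)
    obtain ⟨a, w, ha, haa, hw0, hwc, hwo, hmem⟩ :=
      (zm_stable hx (hJ := hJ) G hjJ).cut hw hef (y := z) ⟨hzc, hin⟩ hj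
    refine ih (insert j J)ᶜ ?_ (insert j J) (T.E j a a * x) w rfl (Finset.insert_nonempty _ _)
      (Mono.insert j a hjJ ha haa hx) (fun l hl => ?_) hw0 ?_ fun c _ => ?_
    · rw [hC, Finset.compl_insert]
      exact Finset.erase_ssubset (Finset.mem_compl.2 hjJ)
    · rcases Finset.mem_insert.1 hl with rfl | hl
      · exact hwc
      · exact hwo l (fun h => hjJ (h ▸ hl)) (hzc l hl)
    · rw [show T.E j a a * x * w = x * (T.E j a a * w) by
        rw [hx.comm fun l hl => T.cen_E (fun h : l = j => hjJ (h ▸ hl)) a a, mul_assoc]]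
      exact hmem.2
    · rw [Finset.card_insert_of_notMem hjJ]
      have := hJ.card_pos
      omega

/-- a member in one factor carries a root element to any other one -/
theorem Grp.exists_carry (G : Grp T H) {a b : A} (ha : a ≠ 0) (haa : T.f a a = 0) (hb : b ≠ 0)
    (hbb : T.f b b = 0) (l : ι) :
    ∃ g ∈ H, (∀ m, m ≠ l → T.Cen m (g : R)) ∧ ∃ c : F, c ≠ 0 ∧
      (g : R) * T.E l a a * (↑g⁻¹ : R) = c • T.E l b b := by
  obtain ⟨r, hr0, hr⟩ := T.exists_skew
  have step : ∀ a z : A, T.f a a = 0 → T.f z z = 0 → T.f a z ≠ 0 →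
      ∃ g ∈ H, (∀ m, m ≠ l → T.Cen m (g : R)) ∧ ∃ c : F, c ≠ 0 ∧
        (g : R) * T.E l a a * (↑g⁻¹ : R) = c • T.E l z z := by
    intro a z haa hzz haz
    obtain ⟨s, hs⟩ : ∃ s : F, s = T.σ (T.f a z)⁻¹ := ⟨_, rfl⟩
    have hs0 : s ≠ 0 := by rw [hs]; exact (map_ne_zero T.σ).2 (inv_ne_zero haz)
    obtain ⟨e, he⟩ : ∃ e, e = s • z := ⟨_, rfl⟩
    have hh : T.Hyp a e := ⟨haa, by simp [he, hzz], by simp [he, hs, T.σσ, inv_mul_cancel₀ haz]⟩
    have hμ : T.σ (-r⁻¹) = -(-r⁻¹) := by rw [map_neg, map_inv₀, hr, inv_neg]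
    obtain ⟨g₁, hg₁, hv₁⟩ := G.root l e (-r⁻¹) hh.ff hμ
    obtain ⟨g₂, hg₂, hv₂⟩ := G.root l a r haa hr
    have hi₁ := inv_one_add (by rw [smul_mul_smul, T.n_mul_self l hh.ff, smul_zero]) hv₁
    have hi₂ := inv_one_add (by rw [smul_mul_smul, T.n_mul_self l haa, smul_zero]) hv₂
    refine ⟨g₂ * g₁, mul_mem hg₂ hg₁, fun m hm => ?_, -(r⁻¹ * r⁻¹) * (s * T.σ s), ?_, ?_⟩
    · rw [Units.val_mul, hv₁, hv₂]
      exact ((T.cen_one m).add ((T.cen_E hm _ _).smul _)).mul ((T.cen_one m).add ((T.cen_E hm _ _).smul _))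
    · exact mul_ne_zero (neg_ne_zero.2 (mul_ne_zero (inv_ne_zero hr0) (inv_ne_zero hr0)))
        (mul_ne_zero hs0 ((map_ne_zero T.σ).2 hs0))
    · have hzE : (-(r⁻¹ * r⁻¹) * (s * T.σ s)) • T.E l z z = (-(r⁻¹ * r⁻¹)) • T.E l e e := by
        simp only [he, map_smul, map_smulₛₗ, LinearMap.smul_apply, smul_smul]
        congr 1
        ring
      rw [hzE, mul_inv_rev, Units.val_mul, Units.val_mul, hv₁, hv₂, hi₁, hi₂]
      simp only [add_mul, mul_add, mul_sub, sub_mul, one_mul, mul_one, smul_mul_assoc, mul_smul_comm, T.mul,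
        hh.ee, hh.ff, hh.ef, hh.fe, smul_sub, smul_add, smul_smul, zero_smul, smul_zero, one_smul, mul_zero,
        zero_mul, sub_zero, add_zero, zero_add, zero_sub, mul_neg, neg_mul]
      match_scalars <;> field_simp <;> ring
  obtain ⟨a', ha'⟩ := T.exists_hyp ha haa
  obtain ⟨b', hb'⟩ := T.exists_hyp hb hbb
  obtain ⟨z, hzz, haz, hbz⟩ : ∃ z, T.f z z = 0 ∧ T.f a z ≠ 0 ∧ T.f b z ≠ 0 := by
    by_cases h1 : T.f b a' ≠ 0
    · exact ⟨a', ha'.ff, by simp [ha'.ef], h1⟩
    by_cases h2 : T.f a b' ≠ 0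
    · exact ⟨b', hb'.ff, h2, by simp [hb'.ef]⟩
    rw [not_not] at h1 h2
    obtain ⟨s, hs0, hs⟩ : ∃ s : F, s ≠ 0 ∧ s * T.f b' a' + T.σ (s * T.f b' a') = 0 := by
      by_cases hx : T.f b' a' = 0
      · exact ⟨1, one_ne_zero, by simp [hx]⟩
      · exact ⟨r / T.f b' a', div_ne_zero hr0 hx, by rw [div_mul_cancel₀ _ hx, hr, add_neg_cancel]⟩
    refine ⟨a' + s • b', ?_, by simp [ha'.ef, h2], by simp [hb'.ef, h1, hs0]⟩
    rw [map_mul, T.herm] at hs
    simp only [map_add, map_smulₛₗ, LinearMap.add_apply, LinearMap.smul_apply, RingHom.id_apply, smul_eq_mul,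
      ha'.ff, hb'.ff, mul_zero, add_zero, zero_add]
    linear_combination hs
  obtain ⟨g₁, hg₁, hc₁, c₁, hc₁0, e₁⟩ := step a z haa hzz haz
  obtain ⟨g₂, hg₂, hc₂, c₂, hc₂0, e₂⟩ := step z b hzz hbb fun h => hbz (T.perp_symm h)
  refine ⟨g₂ * g₁, mul_mem hg₂ hg₁, fun m hm => by rw [Units.val_mul]; exact (hc₂ m hm).mul (hc₁ m hm),
    c₁ * c₂, mul_ne_zero hc₁0 hc₂0, ?_⟩
  rw [mul_inv_rev, Units.val_mul, Units.val_mul]
  calc (g₂ : R) * g₁ * T.E l a a * ((↑g₁⁻¹ : R) * (↑g₂⁻¹ : R))
      = (g₂ : R) * ((g₁ : R) * T.E l a a * (↑g₁⁻¹ : R)) * (↑g₂⁻¹ : R) := by simp [mul_assoc]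
    _ = _ := by rw [e₁, mul_smul_comm, smul_mul_assoc, e₂, smul_smul]

/-- products of root elements of the same factors are interchangeable -/
theorem Mono.change (G : Grp T H) {J : Finset ι} {x y : R} (hx : Mono T J x) (hy : Mono T J y) (W : R)
    (hW : ∀ l ∈ J, T.Cen l W) (h : ∃ c : F, c ≠ 0 ∧ InH H (1 + (c • x) * W)) :
    ∃ c : F, c ≠ 0 ∧ InH H (1 + (c • y) * W) := by
  induction hy generalizing x W with
  | empty =>
    obtain ⟨c, hc, h⟩ := h
    exact ⟨c, hc, hx.eq_one rfl ▸ h⟩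
  | @insert J y l a hl ha haa hy ih =>
    obtain ⟨b, x', hb, hbb, hx', rfl⟩ := hx.split (Finset.mem_insert_self l J)
    rw [Finset.erase_insert hl] at hx'
    obtain ⟨c, hc, h⟩ := h
    obtain ⟨g, hg, hgc, d, hd, hgv⟩ := G.exists_carry hb hbb ha haa l
    have h1 := h.conj hg
    have hgW : (g : R) * (x' * W) * (↑g⁻¹ : R) = x' * W := by
      have hph : ∀ l' ∈ J, T.Cen l' (g : R) := fun l' hl' => hgc l' fun e => hl (e ▸ hl')
      rw [← mul_assoc, hx'.comm hph, mul_assoc, mul_assoc]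
      congr 1
      have : (g : R) * W = W * (g : R) := by
        refine (T.phi_comm_cen ?_ (hW l (Finset.mem_insert_self l J))).symm
        exact T.mem_phi_of_cen hgc
      rw [← mul_assoc, this, mul_assoc, Units.mul_inv, mul_one]
    have e : (g : R) * (1 + (c • (T.E l b b * x')) * W) * (↑g⁻¹ : R) = 1 + ((c * d) • x') * (T.E l a a * W) := by
      rw [mul_add, mul_one, add_mul, Units.mul_inv]
      congr 1
      simp only [smul_mul_assoc, mul_smul_comm]
      rw [show (g : R) * (T.E l b b * x' * W) * (↑g⁻¹ : R) =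
          ((g : R) * T.E l b b * (↑g⁻¹ : R)) * ((g : R) * (x' * W) * (↑g⁻¹ : R)) by simp [mul_assoc],
        hgW, hgv, smul_mul_assoc, smul_smul, ← mul_assoc, ← mul_assoc,
        hx'.comm fun l' hl' => T.cen_E (fun e : l' = l => hl (e ▸ hl')) a a]
    rw [e] at h1
    obtain ⟨c', hc', h2⟩ := ih hx' (T.E l a a * W)
      (fun l' hl' => (T.cen_E (fun e : l' = l => hl (e ▸ hl')) a a).mul (hW l' (Finset.mem_insert_of_mem hl')))
      ⟨c * d, mul_ne_zero hc hd, h1⟩
    refine ⟨c', hc', ?_⟩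
    convert h2 using 2
    rw [smul_mul_assoc, smul_mul_assoc, ← mul_assoc,
      hy.comm fun l' hl' => T.cen_E (fun e : l' = l => hl (e ▸ hl')) a a]

/-- the products of the two root elements of a hyperbolic pair over `C` -/
inductive Blocks (T : Sys F A R ι κ) (e f₀ : A) : Finset ι → R → R → Prop
  | empty : Blocks T e f₀ ∅ 1 1
  | insert {C : Finset ι} {N M : R} (l : ι) : l ∉ C → Blocks T e f₀ C N M →
      Blocks T e f₀ (insert l C) (T.E l e e * N) (T.E l f₀ f₀ * M)

theorem Blocks.mono {e f₀ : A} (h : T.Hyp e f₀) {C : Finset ι} {N M : R} (hB : Blocks T e f₀ C N M) :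
    Mono T C N ∧ Mono T C M := by
  induction hB with
  | empty => exact ⟨Mono.empty, Mono.empty⟩
  | insert l hl _ ih =>
    exact ⟨Mono.insert l e hl h.left_ne h.ee ih.1, Mono.insert l f₀ hl h.right_ne h.ff ih.2⟩

theorem exists_blocks (e f₀ : A) (C : Finset ι) : ∃ N M, Blocks T e f₀ C N M := by
  induction C using Finset.induction_on with
  | empty => exact ⟨1, 1, Blocks.empty⟩
  | insert l C hl ih =>
    obtain ⟨N, M, h⟩ := ih
    exact ⟨_, _, Blocks.insert l hl h⟩

/-- **separation** of the two orders of a product of root elements -/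
theorem Blocks.separate (G : Grp T H) (hw : T.Wide) {e f₀ : A} (h : T.Hyp e f₀) {C : Finset ι} {N M : R}
    (hB : Blocks T e f₀ C N M) : C.Nonempty → ∀ W : R, W * W = 0 → (∀ l ∈ C, T.Cen l W) → ∀ α β : F,
      ¬(α = 0 ∧ β = 0) → InH H (1 + (α • (N * M) + β • (M * N)) * W) →
      ∃ x, Mono T C x ∧ ∃ c : F, c ≠ 0 ∧ InH H (1 + (c • x) * W) := by
  induction hB with
  | empty => simp
  | @insert C N M l hl hB ih =>
    intro _ W hWW hW α β hab hin
    obtain ⟨hN, hM⟩ := hB.mono h
    obtain ⟨v, hve, hvf, hvv⟩ := T.exists_aniso_perp hw h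
    obtain ⟨a, hNa⟩ : ∃ a, a = N * M := ⟨_, rfl⟩
    obtain ⟨b, hMb⟩ : ∃ b, b = M * N := ⟨_, rfl⟩
    have hca : T.Cen l a := hNa ▸ (hN.cen hl).mul (hM.cen hl)
    have hcb : T.Cen l b := hMb ▸ (hM.cen hl).mul (hN.cen hl)
    have hWl := hW l (Finset.mem_insert_self l C)
    have hN' : ∀ x, x * T.E l f₀ f₀ = T.E l f₀ f₀ * x → T.E l e e * x * (T.E l f₀ f₀ * M) = T.pI l e f₀ * (x * M) :=
      fun x hx => by rw [mul_assoc, ← mul_assoc x, hx, mul_assoc, ← mul_assoc, T.mul, h.fe, one_smul]; rfl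
    have hM' : ∀ x, x * T.E l e e = T.E l e e * x → T.E l f₀ f₀ * x * (T.E l e e * N) = T.qI l e f₀ * (x * N) :=
      fun x hx => by rw [mul_assoc, ← mul_assoc x, hx, mul_assoc, ← mul_assoc, T.mul, h.ef, one_smul]; rfl
    rw [hN' N (hN.cen hl _ _), hM' M (hM.cen hl _ _), ← hNa, ← hMb] at hin
    obtain ⟨z, hz⟩ : ∃ z, z = α • (T.pI l e f₀ * a) + β • (T.qI l e f₀ * b) := ⟨_, rfl⟩
    rw [← hz] at hin
    -- differences along a short root element
    have diff : ∀ (S z : R), S ∈ T.phi l → InH H (1 + S) → z * W = W * z → InH H (1 + z * W) →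
        InH H (1 + ((1 + S) * z * (1 + T.ad S) - z) * W) ∧
          ((1 + S) * z * (1 + T.ad S) - z) * W = W * ((1 + S) * z * (1 + T.ad S) - z) := by
      intro S z hS hgS hzW hz
      obtain ⟨g, hg, hgv⟩ := hgS
      have hinv : (↑g⁻¹ : R) = 1 + T.ad S := by rw [G.inv_eq hg, hgv, map_add, T.ad_one]
      have h1 : W * (1 + S) = (1 + S) * W := by
        rw [mul_add, add_mul, mul_one, one_mul, T.phi_comm_cen hS hWl]
      have h2 : W * (1 + T.ad S) = (1 + T.ad S) * W := by
        rw [mul_add, add_mul, mul_one, one_mul, T.phi_comm_cen (T.ad_mem_phi hS) hWl]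
      obtain ⟨z', hz'⟩ : ∃ z', z' = (1 + S) * z * (1 + T.ad S) := ⟨_, rfl⟩
      have hz'W : z' * W = W * z' := by
        rw [hz', mul_assoc _ (1 + T.ad S), ← h2]
        simp only [← mul_assoc]
        rw [h1, mul_assoc (1 + S) z W, hzW, ← mul_assoc]
      have hc : InH H (1 + z' * W) := by
        convert hz.conj hg using 1
        rw [mul_add, mul_one, add_mul, Units.mul_inv, hgv, hinv, hz']
        simp only [← mul_assoc]
        rw [mul_assoc _ W, h2, ← mul_assoc]
      have hzz : ∀ u v : R, v * W = W * v → u * W * (v * W) = 0 := fun u v hv => by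
        rw [hv, mul_assoc u W, ← mul_assoc W W, hWW, zero_mul, mul_zero]
      rw [← hz']
      refine ⟨?_, by rw [sub_mul, mul_sub, hz'W, hzW]⟩
      have h3 := hc.mul (hz.inv (hzz z z hzW))
      convert h3 using 1
      simp only [mul_sub, add_mul, one_mul, mul_one, hzz z' z hzW, add_zero, sub_mul]
      abel
    have hzW : z * W = W * z := by
      have hc : ∀ m ∈ C, T.Cen m W := fun m hm => hW m (Finset.mem_insert_of_mem hm)
      have ha' : W * a = a * W := by rw [hNa, ← mul_assoc, hN.comm hc, mul_assoc, hM.comm hc, mul_assoc]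
      have hb' : W * b = b * W := by rw [hMb, ← mul_assoc, hM.comm hc, mul_assoc, hN.comm hc, mul_assoc]
      have hp := T.phi_comm_cen (T.pI_mem_phi (e := e) (f₀ := f₀) l) hWl
      have hq := T.phi_comm_cen (T.qI_mem_phi (e := e) (f₀ := f₀) l) hWl
      rw [hz, add_mul, mul_add, smul_mul_assoc, smul_mul_assoc, mul_smul_comm, mul_smul_comm, mul_assoc, ← ha',
        ← mul_assoc, ← hp, mul_assoc, mul_assoc (T.qI l e f₀), ← hb', ← mul_assoc (T.qI l e f₀), ← hq, mul_assoc]
    have hphi : ∀ u c, T.sh l e u c ∈ T.phi l := fun u c =>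
      add_mem (sub_mem (T.E_mem_phi l u e) (T.E_mem_phi l e u)) ((T.phi l).smul_mem c (T.E_mem_phi l e e))
    obtain ⟨c, hc⟩ := T.exists_short v
    have key : ∀ μ : F, InH H (1 + (T.E l e e * ((-(T.f v v) * μ * α) • a + (-(T.f v v) * T.σ μ * β) • b)) * W) := by
      intro μ
      obtain ⟨c', hc'⟩ := T.exists_short (μ • v)
      have hve' : T.f (μ • v) e = 0 := by simp [hve]
      obtain ⟨h1, h1W⟩ := diff _ z (hphi v c) (G.short l e v c h.ee hve hc) hzW hin
      obtain ⟨h2, -⟩ := diff _ _ (hphi (μ • v) c') (G.short l e (μ • v) c' h.ee hve' hc') h1W h1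
      convert h2 using 3
      have hevs := T.perp_symm hve
      have hfv := T.perp_symm hvf
      have ca : ∀ p q x, a * (T.E l p q * x) = T.E l p q * (a * x) := fun p q x => by
        rw [← mul_assoc, hca, mul_assoc]
      have cb : ∀ p q x, b * (T.E l p q * x) = T.E l p q * (b * x) := fun p q x => by
        rw [← mul_assoc, hcb, mul_assoc]
      have mE : ∀ u v u' v' x, T.E l u v * (T.E l u' v' * x) = T.f u' v • (T.E l u v' * x) := fun u v u' v' x => by
        rw [← mul_assoc, T.mul, smul_mul_assoc]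
      rw [hz, T.ad_sh, T.ad_sh]
      simp only [Sys.sh, Sys.pI, Sys.qI, map_neg, LinearMap.neg_apply, map_smul, map_smulₛₗ, LinearMap.smul_apply,
        add_mul, mul_add, sub_mul, mul_sub, one_mul, mul_one, neg_mul, mul_neg, smul_mul_assoc, mul_smul_comm,
        smul_add, smul_sub, smul_neg, smul_smul, mul_assoc, mE, ca, cb, hca _ _, hcb _ _, h.ee, h.ff, h.ef, h.fe,
        hve, hvf, hevs, hfv, RingHom.id_apply, smul_eq_mul, mul_zero, zero_mul, zero_smul, smul_zero, add_zero,
        zero_add, sub_zero, neg_zero]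
      module
    rcases C.eq_empty_or_nonempty with rfl | hCne
    · obtain ⟨μ, hμ⟩ : ∃ μ : F, μ * α + T.σ μ * β ≠ 0 := by
        by_contra hno
        simp only [not_exists, not_not] at hno
        obtain ⟨μ, hμ⟩ := T.σ_ne
        have h1 := hno 1
        have h2 := hno μ
        rw [map_one, one_mul, one_mul] at h1
        have hb0 : β = 0 := (mul_eq_zero.1 (show (T.σ μ - μ) * β = 0 by linear_combination h2 - μ * h1)).resolve_left
          (sub_ne_zero.2 hμ)
        exact hab ⟨by rw [hb0, add_zero] at h1; exact h1, hb0⟩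
      refine ⟨T.E l e e, by rw [insert_empty_eq]; exact Mono.single l h.left_ne h.ee,
        -(T.f v v) * (μ * α + T.σ μ * β), mul_ne_zero (neg_ne_zero.2 hvv) hμ, ?_⟩
      convert key μ using 3
      obtain ⟨hN1, hM1⟩ : N = 1 ∧ M = 1 := ⟨(hB.mono h).1.eq_one rfl, (hB.mono h).2.eq_one rfl⟩
      simp only [hNa, hMb, hN1, hM1, one_mul, mul_one, mul_add (T.E l e e), mul_smul_comm]
      rw [← add_smul]
      congr 1
      ring
    · have h1 := key 1
      rw [map_one, mul_one] at h1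
      obtain ⟨x, hx, c', hc', hxin⟩ := ih hCne (T.E l e e * W)
        (by rw [mul_assoc, ← mul_assoc W, hWl, mul_assoc, ← mul_assoc, T.n_mul_self l h.ee, zero_mul])
        (fun m hm => (T.cen_E (fun e' : m = l => hl (e' ▸ hm)) e e).mul (hW m (Finset.mem_insert_of_mem hm)))
        (-(T.f v v) * α) (-(T.f v v) * β) (by
          rintro ⟨h1, h2⟩
          exact hab ⟨(mul_eq_zero.1 h1).resolve_left (neg_ne_zero.2 hvv),
            (mul_eq_zero.1 h2).resolve_left (neg_ne_zero.2 hvv)⟩) (by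
          convert h1 using 2
          rw [← mul_assoc, ← hNa, ← hMb]
          congr 1
          rw [mul_add, add_mul, mul_smul_comm, mul_smul_comm, smul_mul_assoc, smul_mul_assoc, hca, hcb])
      refine ⟨T.E l e e * x, Mono.insert l e hl h.left_ne h.ee hx, c', hc', ?_⟩
      convert hxin using 2
      rw [smul_mul_assoc, smul_mul_assoc, ← mul_assoc, hx.cen hl]

/-- **growing** by one factor -/
theorem Full.grow [Fintype ι] (G : Grp T H) (P : Perms T H) (hw : T.Wide) {J : Finset ι} (h : Full T H J)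
    (h2 : 2 ≤ J.card) {j : ι} (hj : j ∉ J) : Full T H (insert j J) := by
  classical
  obtain ⟨x₀, hx₀, c₀, hc₀, hin₀⟩ := h
  obtain ⟨i, hi⟩ : J.Nonempty := Finset.card_pos.1 (by omega)
  obtain ⟨e, he, hee⟩ : ∃ e : A, e ≠ 0 ∧ T.f e e = 0 := by
    obtain ⟨a, -, ha, haa, -⟩ := hx₀.split hi
    exact ⟨a, ha, haa⟩
  obtain ⟨f₀, hef⟩ := T.exists_hyp he hee
  obtain ⟨C, hC⟩ : ∃ C, C = J.erase i := ⟨_, rfl⟩
  have hCne : C.Nonempty := Finset.card_pos.1 (by rw [hC, Finset.card_erase_of_mem hi]; omega)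
  have hiC : i ∉ C := by simp [hC]
  have hjC : j ∉ C := fun h => hj (Finset.mem_of_mem_erase (s := J) (a := i) (by rw [← hC]; exact h))
  have hij : i ≠ j := fun h => hj (h ▸ hi)
  obtain ⟨N, M, hB⟩ := exists_blocks (T := T) e f₀ C
  obtain ⟨hN, hM⟩ := hB.mono hef
  have hXm : Mono T J (T.E i e e * N) := by
    have := Mono.insert i e hiC he hee hN
    rwa [hC, Finset.insert_erase hi] at this
  have hYm : Mono T (insert j C) (T.E j e e * M) := Mono.insert j e hjC he hee hM
  obtain ⟨c, hc, hX⟩ := Mono.change G hx₀ hXm 1 (fun l _ => T.cen_one l) ⟨c₀, hc₀, by rwa [mul_one]⟩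
  rw [mul_one] at hX
  obtain ⟨m, hm⟩ := hCne
  have hmJ : m ∈ J := Finset.mem_of_mem_erase (s := J) (a := i) (by rw [← hC]; exact hm)
  have hmi : m ≠ i := fun h => hiC (h ▸ hm)
  have hmj : m ≠ j := fun h => hj (h ▸ hmJ)
  obtain ⟨g, hg, hgE⟩ := P j i m hij.symm hmj.symm hmi.symm
  obtain ⟨y₀, d, hd, hy₀, hgy⟩ := hx₀.conj hgE
  have hCne : C.Nonempty := ⟨m, hm⟩
  have himg : J.image (Equiv.swap j m * Equiv.swap j i) = insert j C := by
    ext x
    simp only [Finset.mem_image, Finset.mem_insert, hC, Finset.mem_erase, Equiv.Perm.mul_apply]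
    constructor
    · rintro ⟨y, hy, rfl⟩
      have hyj : y ≠ j := fun h => hj (h ▸ hy)
      rcases eq_or_ne y i with rfl | h1
      · rw [Equiv.swap_apply_right, Equiv.swap_apply_left]
        exact Or.inr ⟨hmi, hmJ⟩
      · rw [Equiv.swap_apply_of_ne_of_ne hyj h1]
        rcases eq_or_ne y m with rfl | h2
        · rw [Equiv.swap_apply_right]; exact Or.inl rfl
        · rw [Equiv.swap_apply_of_ne_of_ne hyj h2]
          exact Or.inr ⟨h1, hy⟩
    · intro hx
      rcases hx with hxj | ⟨h1, h2⟩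
      · exact ⟨m, hmJ, by rw [Equiv.swap_apply_of_ne_of_ne hmj hmi, Equiv.swap_apply_right, hxj]⟩
      · rcases eq_or_ne x m with hxm | hxm
        · exact ⟨i, hi, by rw [Equiv.swap_apply_right, Equiv.swap_apply_left, hxm]⟩
        · have hxj : x ≠ j := fun h => hj (h ▸ h2)
          exact ⟨x, h2, by rw [Equiv.swap_apply_of_ne_of_ne hxj h1, Equiv.swap_apply_of_ne_of_ne hxj hxm]⟩
  rw [himg] at hy₀
  obtain ⟨c', hc', hY⟩ := Mono.change G hy₀ hYm 1 (fun l _ => T.cen_one l) ⟨c₀ * d, mul_ne_zero hc₀ hd, by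
    rw [mul_one]
    convert hin₀.conj hg using 1
    rw [mul_add, mul_one, add_mul, Units.mul_inv, mul_smul_comm, smul_mul_assoc, hgy, smul_smul]⟩
  rw [mul_one] at hY
  obtain ⟨U, hU⟩ : ∃ U, U = T.E i e e := ⟨_, rfl⟩
  obtain ⟨V, hV⟩ : ∃ V, V = T.E j e e := ⟨_, rfl⟩
  rw [← hU] at hX
  rw [← hV] at hY
  have hUV : U * V = V * U := by rw [hU, hV]; exact T.comm i j hij _ _ _ _
  have hUU : U * U = 0 := by rw [hU]; exact T.n_mul_self i hee
  have hVV : V * V = 0 := by rw [hV]; exact T.n_mul_self j hee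
  have hUN : N * U = U * N := by rw [hU]; exact hN.cen hiC e e
  have hUM : M * U = U * M := by rw [hU]; exact hM.cen hiC e e
  have hVN : N * V = V * N := by rw [hV]; exact hN.cen hjC e e
  have hVM : M * V = V * M := by rw [hV]; exact hM.cen hjC e e
  have hUVN : N * (U * V) = U * V * N := by rw [← mul_assoc, hUN, mul_assoc, hVN, ← mul_assoc]
  have hUVM : M * (U * V) = U * V * M := by rw [← mul_assoc, hUM, mul_assoc, hVM, ← mul_assoc]
  have hXY : U * N * (V * M) = N * M * (U * V) := by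
    rw [mul_assoc N, hUVM, ← mul_assoc N, hUVN, show U * N * (V * M) = U * (N * V) * M by simp [mul_assoc], hVN,
      ← mul_assoc U]
  have hYX : V * M * (U * N) = M * N * (U * V) := by
    rw [mul_assoc M, hUVN, ← mul_assoc M, hUVM, show V * M * (U * N) = V * (M * U) * N by simp [mul_assoc], hUM,
      ← mul_assoc V, hUV]
  have z1 : U * N * (U * N) = 0 := by rw [mul_assoc, ← mul_assoc N, hUN, mul_assoc, ← mul_assoc, hUU, zero_mul]
  have z2 : V * M * (V * M) = 0 := by rw [mul_assoc, ← mul_assoc M, hVM, mul_assoc, ← mul_assoc, hVV, zero_mul]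
  have hUUV : U * V * U = 0 := by rw [mul_assoc, ← hUV, ← mul_assoc, hUU, zero_mul]
  have hVUV : U * V * V = 0 := by rw [mul_assoc, hVV, mul_zero]
  have z3 : U * N * (V * M) * (U * N) = 0 := by
    rw [hXY, mul_assoc, ← mul_assoc (U * V), hUUV, zero_mul, mul_zero]
  have z4 : V * M * (U * N) * (V * M) = 0 := by
    rw [hYX, mul_assoc, ← mul_assoc (U * V), hVUV, zero_mul, mul_zero]
  have hcom := commutator_mem (by rw [smul_mul_smul, z1, smul_zero]) (by rw [smul_mul_smul, z2, smul_zero])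
    (by rw [smul_mul_smul, smul_mul_smul, z3, smul_zero]) (by rw [smul_mul_smul, smul_mul_smul, z4, smul_zero]) hX hY
  have hin : InH H (1 + ((c * c') • (N * M) + (-(c * c')) • (M * N)) * (U * V)) := by
    convert hcom using 2
    rw [smul_mul_smul, smul_mul_smul, hXY, hYX, add_mul, smul_mul_assoc, smul_mul_assoc, neg_smul, mul_comm c' c,
      ← sub_eq_add_neg]
  obtain ⟨w, hw', d', hd', hres⟩ := hB.separate G hw hef hCne (U * V)
    (by rw [← mul_assoc, hUUV, zero_mul])
    (fun l hl => by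
      rw [hU, hV]
      exact (T.cen_E (fun h : l = i => hiC (h ▸ hl)) e e).mul (T.cen_E (fun h : l = j => hjC (h ▸ hl)) e e))
    _ _ (fun h => mul_ne_zero hc hc' h.1) hin
  refine ⟨T.E i e e * (T.E j e e * w), ?_, d', hd', ?_⟩
  · have : insert j J = insert i (insert j C) := by rw [Finset.insert_comm, hC, Finset.insert_erase hi]
    rw [this]
    exact Mono.insert i e (by simp [hij, hiC]) he hee (Mono.insert j e hjC he hee hw')
  · convert hres using 2
    rw [smul_mul_assoc, ← hU, ← hV, ← mul_assoc, hw'.comm (z := U * V) fun l hl => by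
      rw [hU, hV]
      exact (T.cen_E (fun h : l = i => hiC (h ▸ hl)) e e).mul (T.cen_E (fun h : l = j => hjC (h ▸ hl)) e e)]

/-- **a transvection**: a product of root elements of all factors -/
theorem exists_full [Fintype ι] (G : Grp T H) (P : Perms T H) (hw : T.Wide) (hZ : ¬ Ctr T H) :
    Full T H Finset.univ := by
  classical
  obtain ⟨J, h2, hJ⟩ := exists_full_two G hw hZ
  suffices key : ∀ (C J : Finset ι), C = Jᶜ → 2 ≤ J.card → Full T H J → Full T H Finset.univ from
    key _ J rfl h2 hJ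
  intro C
  induction C using Finset.strongInduction with
  | H C ih =>
    intro J hC h2 hJ
    rcases eq_or_ne J Finset.univ with rfl | hne
    · exact hJ
    obtain ⟨j, hj⟩ : ∃ j, j ∉ J := by
      by_contra hall
      simp only [not_exists, not_not] at hall
      exact hne (Finset.eq_univ_of_forall hall)
    refine ih (insert j J)ᶜ ?_ (insert j J) rfl (h2.trans (Finset.card_le_card (Finset.subset_insert j J)))
      (hJ.grow G P hw h2 hj)
    rw [hC, Finset.compl_insert]
    exact Finset.erase_ssubset (Finset.mem_compl.2 hj)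

end CfsgLib.MaxSub.SuPow
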