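import Cfsg.Agent.Lib.MaxSub.SuPow.Trans
import Cfsg.Agent.Lib.MaxSub.SpPow.Model
import Cfsg.Agent.Lib.MaxSub.HermFull
import Mathlib.LinearAlgebra.Matrix.SchurComplement

/-!
The coordinate model of a tensor power of a Hermitian form similar to the standard one.
-/

set_option autoImplicit false
set_option linter.unusedSectionVars false

namespace CfsgLib.MaxSub.SuPow

open Matrix CfsgLib.Aschbacher Cfsg.Geo
open CfsgLib.MaxSub.SpPow (InH)
open CfsgLib.MaxSub.SpPow.Data (sl sl_apply)
open CfsgLib.Classical (qFrob qFrob_apply qFrob_qFrob qFrob_ne_id isHermSpace_hermB)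
open scoped MatrixGroups Kronecker

variable {F : Type*} [Field F] [Fintype F] {n q k t : ℕ}

local notation "𝕄" => Matrix (Fin n) (Fin n) F

theorem sl_injective (i : Fin t) : Function.Injective (sl (F := F) (k := k) i) := by
  intro x y h
  ext a b
  have := congrFun (congrFun h (fun _ => a)) (Function.update (fun _ => a) i b)
  simp only [sl_apply, slot_apply] at this
  have hc : ∀ j, j ≠ i → (fun _ : Fin t => a) j = Function.update (fun _ => a) i b j := fun j hj => by
    rw [Function.update_of_ne hj]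
  simpa [if_pos hc] using this

theorem det_sl (i : Fin t) {x : Matrix (Fin k) (Fin k) F} (hx : x.det = 1) : (sl i x).det = 1 := by
  classical
  have key : sl i x = Matrix.reindex (Equiv.piSplitAt i fun _ : Fin t => Fin k).symm
      (Equiv.piSplitAt i fun _ : Fin t => Fin k).symm
      (x ⊗ₖ (1 : Matrix ({j // j ≠ i} → Fin k) ({j // j ≠ i} → Fin k) F)) := by
    ext p p'
    simp only [sl_apply, slot_apply, Matrix.reindex_apply, Equiv.symm_symm, Matrix.submatrix_apply,
      Matrix.kroneckerMap_apply, Equiv.piSplitAt_apply, Matrix.one_apply]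
    have hiff : (∀ j, j ≠ i → p j = p' j) ↔
        (fun j : {j // j ≠ i} => p j) = (fun j : {j // j ≠ i} => p' j) :=
      ⟨fun h => funext fun j => h j j.2, fun h j hj => congrFun h ⟨j, hj⟩⟩
    by_cases h : ∀ j, j ≠ i → p j = p' j
    · rw [if_pos h, if_pos (hiff.1 h), mul_one]
    · rw [if_neg h, if_neg fun h' => h (hiff.2 h'), mul_zero]
  rw [key, Matrix.det_reindex_self, Matrix.det_kronecker, hx, one_pow, Matrix.det_one, one_pow, mul_one]

theorem det_one_add_cube {ι : Type*} [Fintype ι] [DecidableEq ι] {S : Matrix ι ι F} (h : S * S * S = 0) :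
    (1 + S).det = 1 := by
  classical
  obtain ⟨p, hp⟩ := CharP.exists F
  haveI := hp
  haveI hpf : Fact p.Prime := ⟨CharP.char_is_prime F p⟩
  rcases isEmpty_or_nonempty ι with he | hne
  · exact Matrix.det_isEmpty
  haveI : CharP (Matrix ι ι F) p := inferInstance
  have h3 : 3 ≤ p ^ 2 := by have := hpf.1.two_le; nlinarith
  have h1 : S ^ p ^ 2 = 0 := pow_eq_zero_of_le h3 (by rw [pow_three, ← mul_assoc]; exact h)
  have h2 : (1 + S) ^ p ^ 2 = 1 := by
    rw [add_pow_char_pow_of_commute (p := p) (n := 2) (Commute.one_left S), one_pow, h1, add_zero]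
  have h4 := congrArg Matrix.det h2
  rw [det_pow, det_one] at h4
  refine iterateFrobenius_inj F p 2 ?_
  simpa [iterateFrobenius_def] using h4

/-- the adjoint for the standard Hermitian form -/
noncomputable def adM (hF : Fintype.card F = q ^ 2) : 𝕄 →+ 𝕄 where
  toFun x := (x.map (qFrob hF))ᵀ
  map_zero' := by simp
  map_add' x y := by ext a b; simp

theorem adM_apply (hF : Fintype.card F = q ^ 2) (x : 𝕄) : adM hF x = (x.map (qFrob hF))ᵀ := rfl

theorem hermForm_eq (hF : Fintype.card F = q ^ 2) (u v : Fin n → F) :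
    Cfsg.hermForm n F q u v = u ⬝ᵥ (qFrob hF ∘ v) := by
  simp [Cfsg.hermForm, dotProduct, qFrob_apply]

/-- the conjugate of a product with a vector -/
theorem conj_mulVec (hF : Fintype.card F = q ^ 2) {ι ι' : Type*} [Fintype ι'] (x : Matrix ι ι' F) (v : ι' → F) :
    qFrob hF ∘ (x *ᵥ v) = x.map (qFrob hF) *ᵥ (qFrob hF ∘ v) :=
  funext fun i => RingHom.map_mulVec (qFrob hF) x v i

theorem hermForm_mulVec_left (hF : Fintype.card F = q ^ 2) (x : 𝕄) (u v : Fin n → F) :
    Cfsg.hermForm n F q (x *ᵥ u) v = Cfsg.hermForm n F q u (adM hF x *ᵥ v) := by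
  rw [hermForm_eq hF, hermForm_eq hF, conj_mulVec, adM_apply, ← Matrix.transpose_map, Matrix.map_map,
    show (qFrob hF : F → F) ∘ qFrob hF = id from funext (qFrob_qFrob hF), Matrix.map_id,
    Matrix.dotProduct_mulVec, Matrix.vecMul_transpose]

/-- membership in the unitary group in terms of the adjoint -/
theorem mem_GU_iff (hF : Fintype.card F = q ^ 2) (g : GL (Fin n) F) :
    g ∈ Cfsg.GU n F q ↔ adM hF (g : 𝕄) * (g : 𝕄) = 1 := by
  constructor
  · intro h
    refine Matrix.ext_of_mulVec_single fun b => ?_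
    rw [Matrix.one_mulVec, ← Matrix.mulVec_mulVec]
    refine sub_eq_zero.1 (by_contra fun hne => ?_)
    obtain ⟨⟨u, hu⟩, -⟩ := (isUnitaryForm_hermForm hF n).nondegenerate _ hne
    refine hu ?_
    have := h u (Pi.single b 1)
    simp only [Units.coeHom_apply] at this
    rw [sub_eq_add_neg, herm_add_right (isUnitaryForm_hermForm hF n), show -Pi.single b (1 : F) = (-1 : F) • (Pi.single b 1 : Fin n → F) from (neg_one_smul F _).symm,
      herm_smul_right (isUnitaryForm_hermForm hF n), map_neg, map_one, ← hermForm_mulVec_left hF, this]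
    ring
  · intro h u v
    show Cfsg.hermForm n F q ((g : 𝕄) *ᵥ u) ((g : 𝕄) *ᵥ v) = _
    rw [hermForm_mulVec_left hF, Matrix.mulVec_mulVec, h, Matrix.one_mulVec]

/-- The data of a tensor power of a Hermitian form in coordinates. -/
structure Data (F : Type*) [Field F] [Fintype F] (n q k t : ℕ) where
  hF : Fintype.card F = q ^ 2
  e : Fin n ≃ (Fin t → Fin k)
  P : GL (Fin n) F
  f₁ : (Fin k → F) → (Fin k → F) → F
  hf₁ : IsUnitaryFormPow q f₁
  c : F
  hc : c ≠ 0
  hT : ∀ x y : (Fin t → Fin k) → F,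
    Cfsg.hermForm n F q ((P : Matrix (Fin n) (Fin n) F) *ᵥ (x ∘ e)) ((P : Matrix (Fin n) (Fin n) F) *ᵥ (y ∘ e)) =
      c * ∑ a, ∑ b, x a * (∏ i, gramMatrix f₁ (a i) (b i)) * (y b) ^ q

namespace Data

variable (D : Data F n q k t)

/-- the Frobenius of order two -/
noncomputable def s : F →+* F := qFrob D.hF

theorem s_s (x : F) : D.s (D.s x) = x := qFrob_qFrob D.hF x

theorem s_apply (x : F) : D.s x = x ^ q := qFrob_apply D.hF x

theorem norm_surj {r : F} (hr : D.s r = r) : ∃ x, x * D.s x = r := by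
  obtain ⟨l, hl⟩ := (isHermSpace_hermB D.hF n).norm_surj r hr
  exact ⟨l, by rw [mul_comm]; exact hl⟩

/-- the Gram matrix of a factor -/
def G : Matrix (Fin k) (Fin k) F := gramMatrix D.f₁

theorem G_conj (a b : Fin k) : D.s (D.G a b) = D.G b a := by
  rw [s_apply]; exact (D.hf₁.herm _ _).symm

theorem f₁_eq (x y : Fin k → F) : D.f₁ x y = x ⬝ᵥ (D.G *ᵥ (D.s ∘ y)) := by
  have lin : ∀ (x v : Fin k → F), D.f₁ x v = ∑ a, x a * D.f₁ (Pi.single a 1) v := fun x v => by
    let L : (Fin k → F) →ₗ[F] F :=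
      { toFun := fun x => D.f₁ x v
        map_add' := fun x y => D.hf₁.add_left x y v
        map_smul' := fun c x => D.hf₁.smul_left c x v }
    calc D.f₁ x v = L x := rfl
      _ = L (∑ a, x a • Pi.single a 1) := by rw [← pi_eq_sum_univ' x]
      _ = _ := by simp [L, map_sum]
  rw [lin, dotProduct]
  refine Finset.sum_congr rfl fun a _ => ?_
  congr 1
  rw [D.hf₁.herm, lin y, ← s_apply D, map_sum, Matrix.mulVec, dotProduct]
  refine Finset.sum_congr rfl fun b _ => ?_
  rw [map_mul, show D.f₁ (Pi.single b 1) (Pi.single a 1) = D.G b a from rfl, G_conj, mul_comm, Function.comp_apply]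

theorem isUnit_det : IsUnit D.G.det := by
  rw [isUnit_iff_ne_zero]
  intro h0
  obtain ⟨v, hv, hv0⟩ := Matrix.exists_mulVec_eq_zero_iff.2 h0
  have hw : D.s ∘ v ≠ 0 := fun h => hv (funext fun i => by
    have := congrFun h i
    simpa using this)
  obtain ⟨x, hx⟩ := (D.hf₁.nondegenerate _ hw).1
  refine hx ?_
  rw [f₁_eq, show D.s ∘ (D.s ∘ v) = v from funext fun i => D.s_s _, hv0, dotProduct_zero]

theorem single_eq (b : Fin k) : D.G *ᵥ (D.s ∘ (D.s ∘ (D.G⁻¹ *ᵥ Pi.single b 1))) = Pi.single b 1 := by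
  rw [show D.s ∘ (D.s ∘ (D.G⁻¹ *ᵥ Pi.single b 1)) = D.G⁻¹ *ᵥ Pi.single b 1 from funext fun i => D.s_s _,
    Matrix.mulVec_mulVec, Matrix.mul_nonsing_inv _ D.isUnit_det, Matrix.one_mulVec]

/-- the transport to the coordinates of the form -/
def tr : Matrix (Fin t → Fin k) (Fin t → Fin k) F ≃ₐ[F] 𝕄 :=
  (Matrix.reindexAlgEquiv F F D.e.symm).trans (cj D.P)

theorem tr_apply (X : Matrix (Fin t → Fin k) (Fin t → Fin k) F) :
    D.tr X = (D.P : 𝕄) * Matrix.reindex D.e.symm D.e.symm X * (↑D.P⁻¹ : 𝕄) := rfl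

/-- a factor -/
def slot (i : Fin t) : Matrix (Fin k) (Fin k) F →ₐ[F] 𝕄 := D.tr.toAlgHom.comp (sl i)

theorem slot_eq (i : Fin t) (x : Matrix (Fin k) (Fin k) F) : D.slot i x = slotFactor D.e D.P i x := rfl

theorem slot_injective (i : Fin t) : Function.Injective (D.slot i) := D.tr.injective.comp (sl_injective i)

/-- the Gram matrix of the tensor power -/
def pG : Matrix (Fin t → Fin k) (Fin t → Fin k) F := pureMat fun _ => D.G

theorem gram_pullback :
    (D.P : 𝕄)ᵀ * (D.P : 𝕄).map D.s = D.c • Matrix.reindex D.e.symm D.e.symm D.pG := by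
  classical
  refine Matrix.ext fun a b => ?_
  have h := D.hT (Pi.single (D.e a) 1) (Pi.single (D.e b) 1)
  have e1 : ∀ j, (Pi.single (D.e j) (1 : F) : (Fin t → Fin k) → F) ∘ D.e = Pi.single j 1 := fun j => by
    funext l; simp [Pi.single_apply]
  rw [e1, e1, Matrix.mulVec_single_one, Matrix.mulVec_single_one] at h
  simp only [← D.s_apply] at h
  simp only [Pi.single_apply, ite_mul, one_mul, zero_mul, Finset.sum_ite_eq', Finset.mem_univ, if_true, apply_ite D.s,
    map_one, map_zero, mul_ite, mul_one, mul_zero] at h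
  simpa [Cfsg.hermForm, Matrix.mul_apply, ← D.s_apply, pG, G, pureMat] using h

theorem adM_tr {X X' : Matrix (Fin t → Fin k) (Fin t → Fin k) F} (h : Xᵀ * D.pG = D.pG * X'.map D.s) :
    adM D.hF (D.tr X) = D.tr X' := by
  classical
  obtain ⟨ρ, hρ⟩ : ∃ ρ, ρ = Matrix.reindex (α := F) D.e.symm D.e.symm := ⟨_, rfl⟩
  have hmul : ∀ A B, ρ A * ρ B = ρ (A * B) := fun A B => by
    subst hρ
    exact (map_mul (Matrix.reindexAlgEquiv F F D.e.symm) A B).symm
  have hmap : ∀ A, (ρ A).map D.s = ρ (A.map D.s) := fun A => by subst hρ; rfl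
  have htra : ∀ A, (ρ A)ᵀ = ρ Aᵀ := fun A => by subst hρ; rfl
  have hg : (D.P : 𝕄)ᵀ * (D.P : 𝕄).map D.s = D.c • ρ D.pG := hρ ▸ D.gram_pullback
  have hPi : (↑D.P⁻¹ : 𝕄).map D.s * (D.P : 𝕄).map D.s = 1 := by
    rw [← Matrix.map_mul, Units.inv_mul, Matrix.map_one _ D.s.map_zero D.s.map_one]
  have key : (D.tr X)ᵀ * (D.P : 𝕄).map D.s = (D.P : 𝕄).map D.s * ρ (X'.map D.s) := by
    have e1 : ρ Xᵀ * (D.c • ρ D.pG) = (D.P : 𝕄)ᵀ * (D.P : 𝕄).map D.s * ρ (X'.map D.s) := by
      rw [mul_smul_comm, hmul, h, ← hmul, ← smul_mul_assoc, hg]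
    rw [tr_apply, ← hρ, Matrix.transpose_mul, Matrix.transpose_mul, htra, mul_assoc, mul_assoc, hg, e1,
      ← mul_assoc, ← mul_assoc, ← Matrix.transpose_mul, Units.mul_inv, Matrix.transpose_one, one_mul]
  have e2 : (D.tr X)ᵀ = (D.tr X').map D.s := by
    calc (D.tr X)ᵀ = (D.tr X)ᵀ * ((D.P : 𝕄).map D.s * (↑D.P⁻¹ : 𝕄).map D.s) := by
          rw [← Matrix.map_mul, Units.mul_inv, Matrix.map_one _ D.s.map_zero D.s.map_one, mul_one]
      _ = (D.P : 𝕄).map D.s * ρ (X'.map D.s) * (↑D.P⁻¹ : 𝕄).map D.s := by rw [← mul_assoc, key]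
      _ = _ := by rw [← hmap, tr_apply, ← hρ, Matrix.map_mul, Matrix.map_mul]
  rw [adM_apply, ← Matrix.transpose_map, e2, Matrix.map_map]
  ext a b
  exact D.s_s _

theorem adM_slot {i : Fin t} {x x' : Matrix (Fin k) (Fin k) F} (h : xᵀ * D.G = D.G * x'.map D.s) :
    adM D.hF (D.slot i x) = D.slot i x' := by
  classical
  refine D.adM_tr ?_
  show (pureMat (Function.update (fun _ => (1 : Matrix (Fin k) (Fin k) F)) i x))ᵀ * pureMat _ =
    pureMat _ * (pureMat _).map D.s
  rw [show ∀ a : Fin t → Matrix (Fin k) (Fin k) F, (pureMat a)ᵀ = pureMat fun l => (a l)ᵀ from fun a => rfl,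
    show ∀ a : Fin t → Matrix (Fin k) (Fin k) F, (pureMat a).map D.s = pureMat fun l => (a l).map D.s from fun a => by
      ext p r; simp [pureMat],
    pureMat_mul, pureMat_mul]
  congr 1
  funext l
  rcases eq_or_ne l i with rfl | hl
  · simp [h]
  · simp [hl]

/-- the matrix units of a factor -/
noncomputable def ME : (Fin k → F) →ₗ[F] (Fin k → F) →ₛₗ[D.s] Matrix (Fin k) (Fin k) F :=
  LinearMap.mk₂'ₛₗ (RingHom.id F) D.s (fun u v => vecMulVec u (D.G *ᵥ (D.s ∘ v)))
    (fun u u' v => Matrix.add_vecMulVec _ _ _)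
    (fun c u v => Matrix.smul_vecMulVec _ _ _)
    (fun u v v' => by
      rw [show D.s ∘ (v + v') = D.s ∘ v + D.s ∘ v' from funext fun _ => map_add D.s _ _, Matrix.mulVec_add,
        Matrix.vecMulVec_add])
    (fun c u v => by
      rw [show D.s ∘ (c • v) = D.s c • (D.s ∘ v) from funext fun _ => map_mul D.s _ _, Matrix.mulVec_smul,
        Matrix.vecMulVec_smul])

theorem ME_apply (u v : Fin k → F) : D.ME u v = vecMulVec u (D.G *ᵥ (D.s ∘ v)) := rfl

theorem ME_mul (u v u' v' : Fin k → F) : D.ME u v * D.ME u' v' = D.f₁ u' v • D.ME u v' := by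
  rw [ME_apply, ME_apply, ME_apply, Matrix.vecMulVec_mul_vecMulVec, f₁_eq, dotProduct_comm]
  ext a b
  simp [Matrix.vecMulVec_apply]
  ring

/-- the operators of the factors -/
noncomputable def sys : Sys F (Fin k → F) 𝕄 (Fin t) (Fin k) where
  σ := D.s
  σσ := D.s_s
  σ_ne := by
    by_contra h
    simp only [not_exists, ne_eq, not_not] at h
    exact qFrob_ne_id D.hF (RingHom.ext h)
  f := LinearMap.mk₂'ₛₗ (RingHom.id F) D.s D.f₁ D.hf₁.add_left (fun c x v => D.hf₁.smul_left c x v)
    (fun x u v => by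
      rw [D.hf₁.herm x (u + v), D.hf₁.add_left, ← D.s_apply, map_add, D.s_apply, D.s_apply, ← D.hf₁.herm,
        ← D.hf₁.herm])
    (fun c x v => by
      rw [D.hf₁.herm x (c • v), D.hf₁.smul_left, ← D.s_apply, map_mul, D.s_apply (D.f₁ v x), ← D.hf₁.herm,
        smul_eq_mul])
  herm u v := by
    show D.s (D.f₁ u v) = D.f₁ v u
    rw [s_apply]; exact (D.hf₁.herm v u).symm
  b l := Pi.single l 1
  b' l := D.s ∘ (D.G⁻¹ *ᵥ Pi.single l 1)
  dual y := by
    show ∑ l, D.f₁ y (D.s ∘ (D.G⁻¹ *ᵥ Pi.single l 1)) • Pi.single l 1 = y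
    funext j
    simp only [f₁_eq, single_eq]
    simp [dotProduct_single, Finset.sum_apply, Pi.single_apply]
  E i := LinearMap.mk₂'ₛₗ (RingHom.id F) D.s (fun u v => D.slot i (D.ME u v))
    (fun u u' v => by rw [map_add, LinearMap.add_apply, map_add])
    (fun c u v => by rw [map_smul, LinearMap.smul_apply, map_smul]; rfl)
    (fun u v v' => by rw [map_add, map_add])
    (fun c u v => by rw [map_smulₛₗ, map_smul])
  mul i u v u' v' := by
    show D.slot i (D.ME u v) * D.slot i (D.ME u' v') = D.f₁ u' v • D.slot i (D.ME u v')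
    rw [← map_mul, ME_mul, map_smul]
  one i := by
    show ∑ l, D.slot i (D.ME (Pi.single l 1) (D.s ∘ (D.G⁻¹ *ᵥ Pi.single l 1))) = 1
    rw [← map_sum, ← map_one (D.slot i)]
    simp only [ME_apply, single_eq]
    congr 1
    ext a b
    simp [Matrix.sum_apply, Matrix.vecMulVec_apply, Pi.single_apply, Matrix.one_apply]
  comm i j hij u v u' v' := by
    show D.tr _ * D.tr _ = D.tr _ * D.tr _
    rw [← map_mul, ← map_mul]
    congr 1
    show pureMat _ * pureMat _ = pureMat _ * pureMat _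
    rw [pureMat_mul, pureMat_mul]
    congr 1
    funext l
    rcases eq_or_ne l i with rfl | hl
    · simp [hij]
    · simp [hl]
  ad := adM D.hF
  ad_smul c x := by
    show ((c • x).map D.s)ᵀ = D.s c • (x.map D.s)ᵀ
    ext a b; simp
  ad_mul x y := by
    show ((x * y).map D.s)ᵀ = (y.map D.s)ᵀ * (x.map D.s)ᵀ
    rw [Matrix.map_mul, Matrix.transpose_mul]
  ad_ad x := by
    ext a b
    simp [adM_apply, qFrob_qFrob]
  ad_one := by
    show ((1 : 𝕄).map D.s)ᵀ = 1
    rw [Matrix.map_one _ D.s.map_zero D.s.map_one, Matrix.transpose_one]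
  ad_E i u v := by
    show adM D.hF (D.slot i (D.ME u v)) = D.slot i (D.ME v u)
    refine D.adM_slot ?_
    have e1 : (D.ME v u).map D.s = vecMulVec (D.s ∘ v) (D.s ∘ (D.G *ᵥ (D.s ∘ u))) := by
      ext a b; simp [ME_apply, Matrix.vecMulVec_apply]
    have e2 : D.s ∘ (D.G *ᵥ (D.s ∘ u)) = u ᵥ* D.G := by
      funext a
      simp only [Function.comp_apply, Matrix.mulVec, Matrix.vecMul, dotProduct, map_sum, map_mul, D.s_s, G_conj]
      exact Finset.sum_congr rfl fun b _ => mul_comm _ _
    rw [ME_apply, Matrix.transpose_vecMulVec, Matrix.vecMulVec_mul, e1, e2, Matrix.mul_vecMulVec]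
  scal x hx := by
    classical
    rcases isEmpty_or_nonempty (Fin t → Fin k) with hem | hne
    · haveI : IsEmpty (Fin n) := D.e.isEmpty
      exact ⟨0, Subsingleton.elim _ _⟩
    rcases isEmpty_or_nonempty (Fin k) with hk | hk
    · rcases Nat.eq_zero_or_pos t with rfl | ht
      · haveI : Subsingleton (Fin n) := D.e.subsingleton
        obtain ⟨a⟩ : Nonempty (Fin n) := D.e.nonempty
        refine ⟨x a a, ?_⟩
        ext p r
        rw [Subsingleton.elim p a, Subsingleton.elim r a]
        simp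
      · exact (hk.false (hne.some ⟨0, ht⟩)).elim
    obtain ⟨c, hc⟩ := scalar_of_commute_slots (D.tr.symm x) fun i y => by
      have e1 : y = ∑ a, ∑ b, y a b • D.ME (Pi.single a 1) (D.s ∘ (D.G⁻¹ *ᵥ Pi.single b 1)) := by
        ext p r
        simp only [ME_apply, single_eq]
        simp [Matrix.sum_apply, Matrix.vecMulVec_apply, Pi.single_apply]
      have e2 : x * D.slot i y = D.slot i y * x := by
        rw [e1]
        simp only [map_sum, map_smul, Finset.mul_sum, Finset.sum_mul, mul_smul_comm, smul_mul_assoc]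
        exact Finset.sum_congr rfl fun a _ => Finset.sum_congr rfl fun b _ => congrArg _ (hx i _ _)
      have e3 := congrArg D.tr.symm e2
      rw [map_mul, map_mul, show D.tr.symm (D.slot i y) = sl i y from D.tr.symm_apply_apply _] at e3
      exact e3
    refine ⟨c, ?_⟩
    have := congrArg D.tr hc
    rwa [AlgEquiv.apply_symm_apply, map_smul, map_one] at this

theorem sys_E (i : Fin t) (u v : Fin k → F) : D.sys.E i u v = D.slot i (D.ME u v) := rfl

theorem sys_f (u v : Fin k → F) : D.sys.f u v = D.f₁ u v := rfl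

theorem slot_mem_phi (i : Fin t) (y : Matrix (Fin k) (Fin k) F) : D.slot i y ∈ D.sys.phi i := by
  have e1 : y = ∑ a, ∑ b, y a b • D.ME (Pi.single a 1) (D.s ∘ (D.G⁻¹ *ᵥ Pi.single b 1)) := by
    ext p r
    simp only [ME_apply, single_eq]
    simp [Matrix.sum_apply, Matrix.vecMulVec_apply, Pi.single_apply]
  rw [e1]
  simp only [map_sum, map_smul]
  exact Submodule.sum_mem _ fun a _ => Submodule.sum_mem _ fun b _ =>
    Submodule.smul_mem _ _ (D.sys.E_mem_phi i (Pi.single a 1) (D.s ∘ (D.G⁻¹ *ᵥ Pi.single b 1)))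

theorem phi_le_range (i : Fin t) {z : 𝕄} (hz : z ∈ D.sys.phi i) : z ∈ (D.slot i).range := by
  induction hz using Submodule.span_induction with
  | mem z hz => obtain ⟨⟨u, v⟩, rfl⟩ := hz; exact ⟨_, rfl⟩
  | zero => exact Subalgebra.zero_mem _
  | add a b _ _ ha hb => exact Subalgebra.add_mem _ ha hb
  | smul c a _ ha => exact Subalgebra.smul_mem _ ha c

/-- the stabiliser of the decomposition in the special unitary group -/
def base : Subgroup (GL (Fin n) F) :=
  tensorWreathSubgroup k t D.e D.P ⊓ (Cfsg.GU n F q ⊓ specialLinear (Fin n) F)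

theorem mem_wreath {y : GL (Fin t → Fin k) F} (hy : IsPureTensor k t y ∨ IsFactorPermutation k t y) :
    MulAut.conj D.P (glReindex D.e.symm y) ∈ tensorWreathSubgroup k t D.e D.P :=
  Subgroup.mem_map_of_mem _ (Subgroup.mem_map_of_mem _ (Subgroup.subset_closure hy))

theorem conj_val (y : GL (Fin t → Fin k) F) :
    ((MulAut.conj D.P (glReindex D.e.symm y) : GL (Fin n) F) : 𝕄) = D.tr (y : Matrix _ _ F) := rfl

theorem det_tr (X : Matrix (Fin t → Fin k) (Fin t → Fin k) F) : (D.tr X).det = X.det := by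
  rw [tr_apply, Matrix.det_units_conj, Matrix.det_reindex_self]

/-- members of the stabiliser in one factor -/
theorem slot_base (i : Fin t) (x : Matrix (Fin k) (Fin k) F) (hx : x.det = 1)
    (hiso : D.sys.ad (D.slot i x) * D.slot i x = 1) : InH D.base (D.slot i x) := by
  classical
  let g : GL (Fin k) F := Matrix.GeneralLinearGroup.mkOfDetNeZero x (by rw [hx]; exact one_ne_zero)
  let y : GL (Fin t → Fin k) F := Units.map (sl i).toMonoidHom g
  have hgv : (g : Matrix (Fin k) (Fin k) F) = x := rfl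
  have hy : IsPureTensor k t y := by
    refine ⟨Function.update (fun _ => 1) i g, fun p r => ?_⟩
    show pureMat (Function.update (fun _ => (1 : Matrix (Fin k) (Fin k) F)) i x) p r = _
    simp only [pureMat, Matrix.of_apply]
    refine Finset.prod_congr rfl fun l _ => ?_
    rcases eq_or_ne l i with rfl | hl <;> simp [hgv, *]
  have hval : ((MulAut.conj D.P (glReindex D.e.symm y) : GL (Fin n) F) : 𝕄) = D.slot i x := rfl
  refine ⟨_, ⟨D.mem_wreath (Or.inl hy), (mem_GU_iff D.hF _).2 (by rw [hval]; exact hiso), ?_⟩, hval⟩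
  refine MonoidHom.mem_ker.2 (Units.ext ?_)
  rw [Matrix.GeneralLinearGroup.val_det_apply, hval, slot, AlgHom.comp_apply]
  show (D.tr (sl i x)).det = 1
  rw [det_tr, det_sl i hx]

theorem grp_base : Grp D.sys D.base where
  iso g hg := (mem_GU_iff D.hF g).1 hg.2.1
  root i e a he ha := by
    have e1 : (1 : 𝕄) + a • D.sys.E i e e = D.slot i (1 + a • D.ME e e) := by
      rw [map_add, map_one, map_smul, sys_E]
    rw [e1]
    refine D.slot_base i _ (det_one_add_cube ?_) (by rw [← e1]; exact D.sys.iso_root i he ha)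
    refine D.slot_injective i ?_
    rw [map_mul, map_mul, map_smul, map_zero, ← sys_E, smul_mul_smul, D.sys.n_mul_self i he, smul_zero, zero_mul]
  short i e v c he hv hc := by
    obtain ⟨S, hS⟩ : ∃ S, S = D.ME v e - D.ME e v + c • D.ME e e := ⟨_, rfl⟩
    have e0 : D.slot i S = D.sys.sh i e v c := by
      rw [hS, map_add, map_sub, map_smul]; rfl
    have e1 : (1 : 𝕄) + D.sys.sh i e v c = D.slot i (1 + S) := by rw [map_add, map_one, e0]
    rw [e1]
    refine D.slot_base i _ (det_one_add_cube ?_) (by rw [← e1]; exact D.sys.iso_short i he hv hc)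
    refine D.slot_injective i ?_
    rw [map_mul, map_mul, map_zero, e0, D.sys.sh_cube i he hv]
  tor i e f₀ u h hue huf hu l hl := by
    have hl' : D.s l ≠ 0 := (map_ne_zero D.s).2 hl
    obtain ⟨z, hz⟩ : ∃ z, z = 1 + (l - 1) • D.ME e f₀ + ((D.s l)⁻¹ - 1) • D.ME f₀ e +
        ((D.s l * l⁻¹ - 1) * (D.f₁ u u)⁻¹) • D.ME u u := ⟨_, rfl⟩
    have e1 : D.sys.tau i e f₀ u l = D.slot i z := by
      rw [hz, map_add, map_add, map_add, map_one, map_smul, map_smul, map_smul]; rfl
    rw [e1]
    refine D.slot_base i _ ?_ (by rw [← e1]; exact D.sys.iso_tau i h hue huf hu hl)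
    let cs : Fin 3 → F := ![l - 1, (D.s l)⁻¹ - 1, (D.s l * l⁻¹ - 1) * (D.f₁ u u)⁻¹]
    let us : Fin 3 → Fin k → F := ![e, f₀, u]
    let vs : Fin 3 → Fin k → F := ![f₀, e, u]
    let U : Matrix (Fin k) (Fin 3) F := Matrix.of fun a j => cs j * us j a
    let W : Matrix (Fin 3) (Fin k) F := Matrix.of fun j b => (D.G *ᵥ (D.s ∘ vs j)) b
    have e2 : z = 1 + U * W := by
      ext a b
      rw [hz]
      simp [U, W, cs, us, vs, Matrix.mul_apply, Fin.sum_univ_three, ME_apply, Matrix.vecMulVec_apply, mul_assoc,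
        add_assoc]
    have e3 : W * U = Matrix.diagonal ![l - 1, (D.s l)⁻¹ - 1, D.s l * l⁻¹ - 1] := by
      have hWU : ∀ j j', (W * U) j j' = cs j' * D.f₁ (us j') (vs j) := fun j j' => by
        rw [f₁_eq, dotProduct, Finset.mul_sum, Matrix.mul_apply]
        exact Finset.sum_congr rfl fun a _ => by simp only [U, W, Matrix.of_apply]; ring
      have q1 : D.f₁ e e = 0 := h.ee
      have q2 : D.f₁ f₀ f₀ = 0 := h.ff
      have q3 : D.f₁ e f₀ = 1 := h.ef
      have q4 : D.f₁ f₀ e = 1 := h.fe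
      have q5 : D.f₁ u e = 0 := hue
      have q6 : D.f₁ u f₀ = 0 := huf
      have q7 : D.f₁ e u = 0 := D.sys.perp_symm hue
      have q8 : D.f₁ f₀ u = 0 := D.sys.perp_symm huf
      have q9 : D.f₁ u u ≠ 0 := hu
      ext j j'
      rw [hWU]
      fin_cases j <;> fin_cases j' <;> simp [cs, us, vs, q1, q2, q3, q4, q5, q6, q7, q8, q9]
    rw [e2, Matrix.det_one_add_mul_comm, e3, ← Matrix.diagonal_one, Matrix.diagonal_add, Matrix.det_diagonal,
      Fin.prod_univ_three]
    simp only [Matrix.cons_val_zero, Matrix.cons_val_one, Matrix.cons_val_two, Matrix.head_cons, Matrix.tail_cons]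
    field_simp
    simp [hl, hl']

theorem grp_of_le {M : Subgroup (GL (Fin n) F)} (hb : D.base ≤ M)
    (hM : M ≤ Cfsg.GU n F q ⊓ specialLinear (Fin n) F) : Grp D.sys M where
  iso g hg := (mem_GU_iff D.hF g).1 (hM hg).1
  root i e a he ha := by obtain ⟨g, hg, hv⟩ := D.grp_base.root i e a he ha; exact ⟨g, hb hg, hv⟩
  short i e v c he hv hc := by obtain ⟨g, hg, hv'⟩ := D.grp_base.short i e v c he hv hc; exact ⟨g, hb hg, hv'⟩
  tor i e f₀ u h hue huf hu l hl := by
    obtain ⟨g, hg, hv⟩ := D.grp_base.tor i e f₀ u h hue huf hu l hl; exact ⟨g, hb hg, hv⟩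

/-- three factors in a cycle -/
theorem perms_of_le {M : Subgroup (GL (Fin n) F)} (hb : D.base ≤ M) : Perms D.sys M := by
  classical
  intro i j m hij him hjm
  have mk : ∀ σ : Equiv.Perm (Fin t), ∃ g ∈ tensorWreathSubgroup k t D.e D.P, g ∈ Cfsg.GU n F q ∧
      ∀ l u v, (g : 𝕄) * D.sys.E l u v * (↑g⁻¹ : 𝕄) = D.sys.E (σ l) u v := by
    intro σ
    let y : GL (Fin t → Fin k) F :=
      ⟨permMat σ, permMat σ.symm, permMat_mul_inv σ, SpPow.Data.permMat_inv' σ⟩
    have hy : IsFactorPermutation k t y := ⟨σ, fun p r => rfl⟩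
    refine ⟨_, D.mem_wreath (Or.inr hy), (mem_GU_iff D.hF _).2 ?_, fun l u v => ?_⟩
    · rw [conj_val, D.adM_tr (X' := permMat σ.symm), ← map_mul]
      · rw [show (y : Matrix (Fin t → Fin k) (Fin t → Fin k) F) = permMat σ from rfl, SpPow.Data.permMat_inv',
          map_one]
      · show (permMat σ)ᵀ * D.pG = _
        have hs : (permMat σ.symm : Matrix (Fin t → Fin k) (Fin t → Fin k) F).map D.s = permMat σ.symm := by
          ext p r
          simp [permMat, apply_ite D.s]
        rw [SpPow.Data.permMat_transpose', hs]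
        exact (pureMat_mul_permMat σ.symm (fun _ => D.G)).symm
    · rw [← map_inv, conj_val, ← map_inv, conj_val, sys_E, sys_E]
      show D.tr (permMat σ) * D.tr (sl l _) * D.tr (permMat σ.symm) = D.tr (sl (σ l) _)
      rw [← map_mul, ← map_mul]
      congr 1
      rw [sl_apply, sl_apply, show Function.update (fun _ => (1 : Matrix (Fin k) (Fin k) F)) l
          (D.ME u v) = fun a => Function.update (fun _ => (1 : Matrix (Fin k) (Fin k) F)) (σ l)
          (D.ME u v) (σ a) by
        funext a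
        rcases eq_or_ne a l with rfl | ha
        · simp
        · rw [Function.update_of_ne ha, Function.update_of_ne (σ.injective.ne ha)],
        ← pureMat_mul_permMat]
      simp only [Equiv.apply_symm_apply]
      rw [mul_assoc, permMat_mul_inv, mul_one]
  obtain ⟨a, ha, haU, hae⟩ := mk (Equiv.swap i j)
  obtain ⟨b, hbm, hbU, hbe⟩ := mk (Equiv.swap i m)
  have hinv : ∀ (g : GL (Fin n) F) (x y : Fin t), (∀ l u v, (g : 𝕄) * D.sys.E l u v * (↑g⁻¹ : 𝕄) =
      D.sys.E (Equiv.swap x y l) u v) →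
      ∀ l u v, (↑g⁻¹ : 𝕄) * D.sys.E l u v * (g : 𝕄) = D.sys.E (Equiv.swap x y l) u v := by
    intro g x y hg l u v
    have := hg (Equiv.swap x y l) u v
    rw [Equiv.swap_apply_self] at this
    rw [← this]
    simp [mul_assoc]
  refine ⟨a * b * a⁻¹ * b⁻¹, hb (Subgroup.mem_inf.2 ⟨mul_mem (mul_mem (mul_mem ha hbm) (inv_mem ha)) (inv_mem hbm),
    Subgroup.mem_inf.2 ⟨mul_mem (mul_mem (mul_mem haU hbU) (inv_mem haU)) (inv_mem hbU), ?_⟩⟩),
    fun l u hu huu => ⟨u, 1, hu, huu, one_ne_zero, ?_⟩⟩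
  · show Matrix.GeneralLinearGroup.det (a * b * a⁻¹ * b⁻¹) = 1
    rw [map_mul, map_mul, map_mul, map_inv, map_inv, mul_comm (Matrix.GeneralLinearGroup.det a)]
    group
  · have hσ : Equiv.swap i m * Equiv.swap i j = Equiv.swap i j * Equiv.swap i m * Equiv.swap i j * Equiv.swap i m := by
      ext x
      have d1 := hij.symm
      have d2 := him.symm
      have d3 := hjm.symm
      simp only [Equiv.Perm.mul_apply]
      by_cases h1 : x = i
      · subst h1
        simp [Equiv.swap_apply_of_ne_of_ne, hij, him, hjm, d1, d2, d3]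
      by_cases h2 : x = j
      · subst h2
        simp [Equiv.swap_apply_of_ne_of_ne, hij, him, hjm, d1, d2, d3]
      by_cases h3 : x = m
      · subst h3
        simp [Equiv.swap_apply_of_ne_of_ne, hij, him, hjm, d1, d2, d3]
      simp [Equiv.swap_apply_of_ne_of_ne, h1, h2, h3]
    rw [one_smul, hσ]
    simp only [Equiv.Perm.mul_apply]
    have conj : ∀ (g h : GL (Fin n) F) (X : 𝕄), (↑(g * h) : 𝕄) * X * (↑(g * h)⁻¹ : 𝕄) =
        (g : 𝕄) * ((h : 𝕄) * X * (↑h⁻¹ : 𝕄)) * (↑g⁻¹ : 𝕄) := fun g h X => by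
      simp only [Units.val_mul, _root_.mul_inv_rev, mul_assoc]
    rw [conj, conj, conj, inv_inv, inv_inv, hinv b _ _ hbe, hinv a _ _ hae, hbe, hae]

/-- members of the stabiliser permute the factors -/
theorem permutes_of_mem {g : GL (Fin n) F} (hg : g ∈ tensorWreathSubgroup k t D.e D.P) : Permutes D.sys g := by
  classical
  obtain ⟨g', ⟨y, hy, rfl⟩, rfl⟩ := hg
  have key : ∃ σ : Equiv.Perm (Fin t), ∀ l x, ∃ x',
      (y : Matrix (Fin t → Fin k) (Fin t → Fin k) F) * sl l x *
        (↑y⁻¹ : Matrix (Fin t → Fin k) (Fin t → Fin k) F) = sl (σ l) x' := by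
    induction hy using Subgroup.closure_induction with
    | mem y hy =>
      rcases hy with ⟨gs, hgs⟩ | ⟨σ, hσ⟩
      · refine ⟨1, fun l x => ⟨(gs l : Matrix (Fin k) (Fin k) F) * x * (↑(gs l)⁻¹ : Matrix (Fin k) (Fin k) F), ?_⟩⟩
        have ev : (y : Matrix (Fin t → Fin k) (Fin t → Fin k) F) = pureMat fun a => (gs a : Matrix (Fin k) (Fin k) F) := by
          ext p q; exact hgs p q
        have ei : (↑y⁻¹ : Matrix (Fin t → Fin k) (Fin t → Fin k) F) = pureMat fun a => (↑(gs a)⁻¹ : Matrix (Fin k) (Fin k) F) :=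
          Units.inv_eq_of_mul_eq_one_right (by rw [ev, pureMat_mul]; simp [pureMat_one])
        rw [ev, ei, sl_apply, sl_apply, pureMat_mul, pureMat_mul]
        congr 1
        funext a
        rcases eq_or_ne a l with rfl | ha
        · simp
        · simp [ha]
      · refine ⟨σ, fun l x => ⟨x, ?_⟩⟩
        have ev : (y : Matrix (Fin t → Fin k) (Fin t → Fin k) F) = permMat σ := by ext p q; exact hσ p q
        have ei : (↑y⁻¹ : Matrix (Fin t → Fin k) (Fin t → Fin k) F) = permMat σ.symm :=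
          Units.inv_eq_of_mul_eq_one_right (by rw [ev]; exact permMat_mul_inv σ)
        rw [ev, ei, sl_apply, sl_apply, show Function.update (fun _ => (1 : Matrix (Fin k) (Fin k) F)) l x =
            fun a => Function.update (fun _ => (1 : Matrix (Fin k) (Fin k) F)) (σ l) x (σ a) by
          funext a
          rcases eq_or_ne a l with rfl | ha
          · simp
          · rw [Function.update_of_ne ha, Function.update_of_ne (σ.injective.ne ha)],
          ← pureMat_mul_permMat]
        simp only [Equiv.apply_symm_apply]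
        rw [mul_assoc, permMat_mul_inv, mul_one]
    | one => exact ⟨1, fun l x => ⟨x, by simp⟩⟩
    | mul a b _ _ ha hb =>
      obtain ⟨σ, hσ⟩ := ha
      obtain ⟨τ, hτ⟩ := hb
      refine ⟨σ * τ, fun l x => ?_⟩
      obtain ⟨x₁, h1⟩ := hτ l x
      obtain ⟨x₂, h2⟩ := hσ (τ l) x₁
      exact ⟨x₂, by rw [Equiv.Perm.mul_apply, ← h2, ← h1]; simp [mul_assoc]⟩
    | inv a _ ha =>
      obtain ⟨σ, hσ⟩ := ha
      choose f hf using hσ
      refine ⟨σ⁻¹, fun l x => ?_⟩
      have hinj : Function.Injective (f (σ⁻¹ l)) := by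
        intro x₁ x₂ h
        have e1 := hf (σ⁻¹ l) x₁
        rw [h, ← hf (σ⁻¹ l) x₂] at e1
        simp only [Units.mul_left_inj, Units.mul_right_inj] at e1
        exact sl_injective _ e1
      obtain ⟨x', hx'⟩ := Finite.injective_iff_surjective.1 hinj x
      refine ⟨x', ?_⟩
      have e1 := hf (σ⁻¹ l) x'
      rw [hx', show σ (σ⁻¹ l) = l from σ.apply_symm_apply l] at e1
      rw [← e1, inv_inv]
      simp [mul_assoc]
  obtain ⟨σ, hσ⟩ := key
  refine ⟨σ, fun l u v => ?_⟩
  obtain ⟨x', hx'⟩ := hσ l (D.ME u v)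
  rw [sys_E]
  rw [← map_inv, ← map_inv]
  show D.tr (y : Matrix (Fin t → Fin k) (Fin t → Fin k) F) * D.tr (sl l (D.ME u v)) *
    D.tr (↑y⁻¹ : Matrix (Fin t → Fin k) (Fin t → Fin k) F) ∈ D.sys.phi (σ l)
  rw [← map_mul, ← map_mul, hx']
  exact D.slot_mem_phi (σ l) x'

/-- a group permuting the factors lies in the stabiliser -/
theorem le_wreath_of_permutes [NeZero k] [Nonempty (Fin n)] (ht : 0 < t) {M : Subgroup (GL (Fin n) F)}
    (h : ∀ g ∈ M, Permutes D.sys g) : M ≤ tensorWreathSubgroup k t D.e D.P := by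
  classical
  refine le_tensorWreathSubgroup ht D.slot D.e D.P D.slot_eq fun g hg => ?_
  obtain ⟨σ, hσ⟩ := h g hg
  refine ⟨σ, fun i x => D.phi_le_range _ ?_⟩
  show (g : 𝕄) * D.slot i x * (↑g⁻¹ : 𝕄) ∈ D.sys.phi (σ i)
  have hx := D.slot_mem_phi i x
  generalize D.slot i x = z at hx ⊢
  induction hx using Submodule.span_induction with
  | mem x hx => obtain ⟨⟨a, b⟩, rfl⟩ := hx; exact hσ i a b
  | zero => rw [mul_zero, zero_mul]; exact zero_mem _
  | add a b _ _ ha hb => rw [mul_add, add_mul]; exact add_mem ha hb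
  | smul c a _ ha => rw [mul_smul_comm, smul_mul_assoc]; exact (D.sys.phi _).smul_mem c ha

/-- the product vector in coordinates -/
def vec (a : Fin t → Fin k → F) : Fin n → F := (D.P : 𝕄) *ᵥ ((fun p => ∏ i, a i (p i)) ∘ D.e)

theorem slot_vec (l : Fin t) (M : Matrix (Fin k) (Fin k) F) (a : Fin t → Fin k → F) :
    D.slot l M *ᵥ D.vec a = D.vec (Function.update a l (M *ᵥ a l)) := by
  classical
  show D.tr (sl l M) *ᵥ _ = _
  rw [tr_apply, vec, vec, ← Matrix.mulVec_mulVec, Matrix.mulVec_mulVec _ (↑D.P⁻¹ : 𝕄), Units.inv_mul,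
    Matrix.one_mulVec, ← Matrix.mulVec_mulVec]
  congr 1
  funext p
  simp only [Matrix.mulVec, dotProduct, Matrix.reindex_apply, Matrix.submatrix_apply, Equiv.symm_symm,
    Function.comp_apply]
  rw [Equiv.sum_comp D.e (fun r => sl l M (D.e p) r * ∏ i, a i (r i))]
  simp only [sl_apply, pureMat, Matrix.of_apply, ← Finset.prod_mul_distrib]
  rw [← Fintype.prod_sum fun i c => Function.update (fun _ => (1 : Matrix (Fin k) (Fin k) F)) l M i (D.e p i) c * a i c]
  refine Finset.prod_congr rfl fun i _ => ?_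
  rcases eq_or_ne i l with rfl | hi
  · rw [Function.update_self, Function.update_self]; rfl
  · rw [Function.update_of_ne hi, Function.update_of_ne hi]
    simp [Matrix.one_apply]

/-- the action on the space of the form -/
noncomputable def act : Act D.sys (Fin n → F) where
  ρ := (Matrix.toLinAlgEquiv' : 𝕄 ≃ₐ[F] _).toAlgHom
  h := LinearMap.mk₂'ₛₗ (RingHom.id F) D.s (Cfsg.hermForm n F q)
    (fun x y v => (isUnitaryForm_hermForm D.hF n).add_left x y v)
    (fun c x v => (isUnitaryForm_hermForm D.hF n).smul_left c x v)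
    (fun x u v => herm_add_right (isUnitaryForm_hermForm D.hF n) x u v)
    (fun c x v => herm_smul_right (isUnitaryForm_hermForm D.hF n) c x v)
  herm x y := ((isUnitaryForm_hermForm D.hF n).herm y x).symm
  h_ad r x y := hermForm_mulVec_left D.hF r x y
  nondeg x hx := by
    by_contra h0
    obtain ⟨-, ⟨y, hy⟩⟩ := (isUnitaryForm_hermForm D.hF n).nondegenerate x h0
    exact hy (hx y)
  vec := D.vec
  vec_add a l x y := by
    rw [vec, vec, vec, ← Matrix.mulVec_add]
    congr 1
    funext p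
    simp only [Function.comp_apply, Pi.add_apply, ← Finset.mul_prod_erase _ _ (Finset.mem_univ l),
      Function.update_self, add_mul]
    congr 2 <;>
      exact Finset.prod_congr rfl fun j hj => by simp [Function.update_of_ne (Finset.ne_of_mem_erase hj)]
  vec_smul a l c x := by
    rw [vec, vec, ← Matrix.mulVec_smul]
    congr 1
    funext p
    simp only [Function.comp_apply, Pi.smul_apply, smul_eq_mul, ← Finset.mul_prod_erase _ _ (Finset.mem_univ l),
      Function.update_self, mul_assoc]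
    congr 2
    exact Finset.prod_congr rfl fun j hj => by simp [Function.update_of_ne (Finset.ne_of_mem_erase hj)]
  vec_E l u v a := by
    have hv : D.ME u v *ᵥ a l = D.f₁ (a l) v • u := by
      rw [ME_apply, Matrix.vecMulVec_mulVec, f₁_eq, dotProduct_comm]
      ext i; simp [mul_comm]
    show D.slot l (D.ME u v) *ᵥ D.vec a = D.f₁ (a l) v • D.vec (Function.update a l u)
    rw [slot_vec, hv, vec, vec, ← Matrix.mulVec_smul]
    congr 1
    funext p
    simp only [Function.comp_apply, Pi.smul_apply, smul_eq_mul, ← Finset.mul_prod_erase _ _ (Finset.mem_univ l),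
      Function.update_self, mul_assoc]
    congr 2
    exact Finset.prod_congr rfl fun j hj => by simp [Function.update_of_ne (Finset.ne_of_mem_erase hj)]
  c := D.c
  hc := D.hc
  h_vec a b := by
    show Cfsg.hermForm n F q (D.vec a) (D.vec b) = D.c * ∏ i, D.f₁ (a i) (b i)
    rw [vec, vec, D.hT]
    congr 1
    simp only [← D.s_apply, map_prod, ← Finset.prod_mul_distrib]
    rw [Finset.sum_congr rfl fun x _ => (Fintype.prod_sum fun i j =>
      a i (x i) * gramMatrix D.f₁ (x i) j * D.s (b i j)).symm,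
      ← Fintype.prod_sum fun i j => ∑ j', a i j * gramMatrix D.f₁ j j' * D.s (b i j')]
    refine Finset.prod_congr rfl fun i _ => ?_
    rw [f₁_eq, dotProduct]
    refine Finset.sum_congr rfl fun x _ => ?_
    rw [Matrix.mulVec, dotProduct, Finset.mul_sum]
    exact Finset.sum_congr rfl fun y _ => by rw [Function.comp_apply, G, mul_assoc]
  span := by
    classical
    refine eq_top_iff.2 fun x _ => ?_
    have hx : x = ∑ i, ((↑D.P⁻¹ : 𝕄) *ᵥ x) i • D.vec fun l => Pi.single (D.e i l) 1 := by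
      have hp : ∀ i, D.vec (fun l => Pi.single (D.e i l) 1) = (D.P : 𝕄) *ᵥ Pi.single i 1 := by
        intro i
        rw [vec]
        congr 1
        funext j
        simp only [Function.comp_apply, Pi.single_apply]
        rcases eq_or_ne j i with rfl | hj
        · simp
        · rw [if_neg hj]
          obtain ⟨l, hl⟩ := Function.ne_iff.1 (D.e.injective.ne hj)
          exact Finset.prod_eq_zero (Finset.mem_univ l) (if_neg hl)
      simp only [hp, ← Matrix.mulVec_smul, ← Matrix.mulVec_sum]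
      rw [← pi_eq_sum_univ' ((↑D.P⁻¹ : 𝕄) *ᵥ x), Matrix.mulVec_mulVec, Units.mul_inv, Matrix.one_mulVec]
    rw [hx]
    exact Submodule.sum_mem _ fun i _ => Submodule.smul_mem _ _ (Submodule.subset_span ⟨_, rfl⟩)

end Data

end CfsgLib.MaxSub.SuPow
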