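import Cfsg.Agent.Lib.MaxSub.SuPow.Good
import Cfsg.Agent.Lib.MaxSub.SpPow.Involution

/-!
Tensor powers of a Hermitian space, odd characteristic: a root and a root element of a factor generate a group with
an involution which is minus one on one plane of the factor; the root lives there.
-/

set_option autoImplicit false
set_option linter.unusedSectionVars false

namespace CfsgLib.MaxSub.SuPow

open CfsgLib.MaxSub.SpPow (InH inv_one_add Quad)

variable {F A R ι κ : Type*} [Field F] [AddCommGroup A] [Module F A] [Ring R] [Algebra F R] [Fintype κ]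
variable {T : Sys F A R ι κ} {H : Subgroup Rˣ}

/-- operators `C s C` vanish on the complement of the plane -/
theorem Sys.Hyp.rI_kill {i : ι} {e f₀ : A} (h : T.Hyp e f₀) {a : F} {d s : R}
    (hs : (a • T.E i e e) * s = s * (a • T.E i e e)) :
    T.rI i e f₀ * ((a • T.E i e e * d + d * (a • T.E i e e)) * s * (a • T.E i e e * d + d * (a • T.E i e e))) *
      T.rI i e f₀ = 0 := by
  obtain ⟨n, hn⟩ : ∃ n, n = a • T.E i e e := ⟨_, rfl⟩
  rw [← hn] at hs ⊢
  have h1 : T.rI i e f₀ * n = 0 := by rw [hn, mul_smul_comm, h.rI_mul_n, smul_zero]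
  have h2 : n * T.rI i e f₀ = 0 := by rw [hn, smul_mul_assoc, h.n_mul_rI, smul_zero]
  have h3 : n * n = 0 := by rw [hn, smul_mul_smul, T.n_mul_self i h.ee, smul_zero]
  have eL : T.rI i e f₀ * (n * d + d * n) = T.rI i e f₀ * d * n := by
    rw [mul_add, ← mul_assoc, h1, zero_mul, zero_add, ← mul_assoc]
  have eR : (n * d + d * n) * T.rI i e f₀ = n * (d * T.rI i e f₀) := by
    rw [add_mul, mul_assoc d, h2, mul_zero, add_zero, mul_assoc]
  rw [← mul_assoc, ← mul_assoc, eL, mul_assoc, eR, mul_assoc _ n s, hs, mul_assoc, mul_assoc s, ← mul_assoc n, h3,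
    zero_mul, mul_zero, mul_zero]

variable [Finite F] [Finite R] [Nontrivial R]

/-- an involution commuting with a root element of a factor, trivial off its plane, lives in the factor -/
theorem Grp.plane (G : Grp T H) (Z : Ctr T H) (hw : T.Wide) (hk : T.Big ∨ 4 < Nat.card F) (h2 : (2 : F) ≠ 0)
    {i : ι} {e f₀ : A} (h : T.Hyp e f₀) {g : Rˣ} (hg : g ∈ H) {f : R} (hgf : (g : R) = 1 - (f + f))
    (hff : f * f = f) (hf0 : f ≠ 0) (hfn : T.E i e e * f = f * T.E i e e)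
    (hmid : T.rI i e f₀ * f * T.rI i e f₀ = 0) :
    f ∈ T.phi i ∧ T.ad f = f ∧ f * T.E i e e = T.E i e e ∧
      ∃ q v, T.f v e = 0 ∧ T.f v f₀ = 0 ∧ f = T.E i e q + T.E i (f₀ + v) e := by
  classical
  have he := h.left_ne
  have hgg : (g : R) * g = 1 := by
    rw [hgf]
    simp only [sub_mul, mul_sub, add_mul, mul_add, one_mul, mul_one, hff]
    abel
  have hadg : T.ad (g : R) = g := by rw [← G.inv_eq hg, Units.inv_eq_of_mul_eq_one_right hgg]
  have half : ∀ y : R, (2 : F)⁻¹ • (y + y) = y := fun y => by rw [← two_smul F y, inv_smul_smul₀ h2]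
  have hadf : T.ad f = f := by
    have h1 := hadg
    rw [hgf, map_sub, T.ad_one, map_add] at h1
    rw [← half (T.ad f), sub_right_injective h1, half]
  have hgn : (g : R) * T.E i e e = T.E i e e * (g : R) := by
    rw [hgf, sub_mul, mul_sub, one_mul, mul_one, add_mul, mul_add, hfn]
  have hcar : Carries T g i i := G.stab Z hw hk hg he h.ee he h.ee one_ne_zero (by
    rw [one_smul, hgn, mul_assoc, Units.mul_inv, mul_one])
  obtain ⟨δ, hδd⟩ : ∃ δ, δ = T.blk i e f₀ (g : R) := ⟨_, rfl⟩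
  have hbase : ∀ u, T.blk i u e (g : R) = T.f e u • δ := by
    intro u
    have h1 := congrArg (T.blk i u f₀) hgn
    rw [T.blk_mul_E he, T.blk_E_left he, h.fe, one_smul, ← hδd] at h1
    exact h1
  have hline : ∀ u p, ∃ a : F, T.blk i u p (g : R) = a • δ := by
    intro u p
    have key : ∀ Φ ∈ T.phi i, ∃ a : F, T.blk i u e (Φ * (g : R)) = a • δ := by
      intro Φ hΦ
      induction hΦ using Submodule.span_induction with
      | mem x hx =>
        obtain ⟨⟨a, b⟩, rfl⟩ := hx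
        exact ⟨T.f a u * T.f e b, by rw [T.blk_E_left he, hbase, smul_smul]⟩
      | zero => exact ⟨0, by rw [zero_mul, T.blk_zero, zero_smul]⟩
      | add a b _ _ ha hb =>
        obtain ⟨x, hx⟩ := ha
        obtain ⟨y, hy⟩ := hb
        exact ⟨x + y, by rw [add_mul, T.blk_add, hx, hy, add_smul]⟩
      | smul c a _ ha =>
        obtain ⟨x, hx⟩ := ha
        exact ⟨c * x, by rw [smul_mul_assoc, T.blk_smul, hx, smul_smul]⟩
    obtain ⟨a, ha⟩ := key _ (hcar _ (T.E_mem_phi i p f₀))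
    rw [mul_assoc _ (↑g⁻¹ : R), Units.inv_mul, mul_one, T.blk_mul_E he, h.ef, one_smul] at ha
    exact ⟨a, ha⟩
  obtain ⟨u, hue, huf, huu⟩ := T.exists_aniso_perp hw h
  have hu0 : u ≠ 0 := fun e0 => huu (by simp [e0])
  have hgu : T.blk i u u (g : R) = T.f u u • (1 : R) := by
    have hm : T.rI i e f₀ * (g : R) * T.rI i e f₀ = T.rI i e f₀ := by
      rw [hgf, mul_sub, mul_one, mul_add, sub_mul, add_mul, hmid, add_zero, sub_zero, h.rI_mul_self]
    have e1 : T.E i u u * (g : R) * T.E i u u = T.E i u u * T.E i u u := by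
      conv_lhs => rw [show T.E i u u * (g : R) * T.E i u u =
        (T.E i u u * T.rI i e f₀) * (g : R) * (T.rI i e f₀ * T.E i u u) by
          rw [T.E_rI, T.rI_E, Sys.proj_of_perp hue huf]]
      rw [show T.E i u u * T.rI i e f₀ * (g : R) * (T.rI i e f₀ * T.E i u u) =
        T.E i u u * (T.rI i e f₀ * (g : R) * T.rI i e f₀) * T.E i u u by simp only [mul_assoc], hm, T.E_rI,
        Sys.proj_of_perp hue huf]
    rw [← T.E_blk, T.mul] at e1
    refine sub_eq_zero.1 (T.E_mul_cancel (i := i) hu0 hu0 ((T.cen_blk _ _ _ _).sub ((T.cen_one i).smul _)) ?_)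
    rw [mul_sub, e1, mul_smul_comm, mul_one, sub_self]
  obtain ⟨a₀, ha₀⟩ := hline u u
  rw [hgu] at ha₀
  have ha₀0 : a₀ ≠ 0 := by
    rintro rfl
    rw [zero_smul, smul_eq_zero, or_iff_left one_ne_zero] at ha₀
    exact huu ha₀
  have hgphi : (g : R) ∈ T.phi i := T.mem_phi_of_blk fun p q => by
    obtain ⟨a, ha⟩ := hline p q
    refine ⟨a * (a₀⁻¹ * T.f u u), ?_⟩
    rw [ha, ← smul_smul, ← smul_smul a₀⁻¹, ha₀, inv_smul_smul₀ ha₀0]
  have hf : f ∈ T.phi i := by
    rw [← half f]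
    refine (T.phi i).smul_mem _ ?_
    rw [show f + f = 1 - (g : R) by rw [hgf, sub_sub_cancel]]
    exact sub_mem (T.one_mem_phi i) hgphi
  choose s hs using T.blk_phi hf (i := i)
  -- the diagonal
  have hqf : T.qI i e f₀ * f * T.qI i e f₀ = T.qI i e f₀ * f := by
    have e1 : T.qI i e f₀ * f = T.E i f₀ f₀ * f * T.E i e e := by
      rw [mul_assoc, ← hfn, ← mul_assoc, T.mul, h.ef, one_smul]; rfl
    rw [e1, mul_assoc _ (T.E i e e), h.n_mul_qI]
  have hα : T.qI i e f₀ * f = s e f₀ • T.qI i e f₀ := by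
    rw [← hqf, Sys.qI, ← T.E_blk, hs, mul_smul_comm, mul_one]
  have hq0 : T.qI i e f₀ ≠ 0 := T.E_ne_zero i h.right_ne he
  have hαα : s e f₀ * s e f₀ = s e f₀ := smul_left_injective F hq0 (by
    show (s e f₀ * s e f₀) • T.qI i e f₀ = s e f₀ • T.qI i e f₀
    conv_rhs => rw [← hα, ← hff, ← mul_assoc, hα, smul_mul_assoc, hα, smul_smul])
  rcases mul_eq_zero.1 (show s e f₀ * (s e f₀ - 1) = 0 by rw [mul_sub, mul_one, hαα, sub_self]) with h0 | h1
  · exfalso
    rw [h0, zero_smul] at hα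
    have hnf : T.E i e e * f = 0 := by rw [← h.n_mul_qI i, mul_assoc, hα, mul_zero]
    have hup : UpN (T.E i e e) f := h.upN (hfn.symm.trans hnf) hnf hmid
    have := h.mul_three hup hup hup
    rw [hff, hff] at this
    exact hf0 this
  rw [sub_eq_zero] at h1
  rw [h1, one_smul] at hα
  have hnf : T.E i e e * f = T.E i e e := by rw [← h.n_mul_qI i, mul_assoc, hα]
  have hfp : f * T.pI i e f₀ = T.pI i e f₀ := by
    have := congrArg T.ad hα
    rwa [T.ad_mul, T.ad_qI, hadf] at this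
  refine ⟨hf, hadf, hfn.symm.trans hnf, ∑ l, T.σ (s f₀ (T.b l)) • T.b' l,
    ∑ l, s (T.proj e f₀ (T.b' l)) f₀ • T.proj e f₀ (T.b l), by simp [h.proj_e], by simp [h.proj_f], ?_⟩
  have e1 : T.pI i e f₀ * f = T.E i e (∑ l, T.σ (s f₀ (T.b l)) • T.b' l) := by
    calc T.pI i e f₀ * f = T.E i e f₀ * f * ∑ l, T.E i (T.b l) (T.b' l) := by rw [T.one, mul_one]; rfl
      _ = _ := by
        rw [Finset.mul_sum, map_sum]
        refine Finset.sum_congr rfl fun l _ => ?_
        rw [← T.E_blk, hs, mul_smul_comm, mul_one, map_smulₛₗ, T.σσ]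
  have e2 : T.rI i e f₀ * f * T.qI i e f₀ =
      T.E i (∑ l, s (T.proj e f₀ (T.b' l)) f₀ • T.proj e f₀ (T.b l)) e := by
    rw [T.rI_eq_sum h, Finset.sum_mul, Finset.sum_mul, map_sum, LinearMap.sum_apply]
    refine Finset.sum_congr rfl fun l _ => ?_
    rw [Sys.qI, ← T.E_blk, hs, mul_smul_comm, mul_one, map_smul, LinearMap.smul_apply]
  rw [← e1, map_add, LinearMap.add_apply, ← e2]
  have e3 : T.rI i e f₀ * f = T.rI i e f₀ * f * T.qI i e f₀ := by
    conv_lhs => rw [← mul_one (T.rI i e f₀ * f), ← T.sum_pqr (e := e) (f₀ := f₀) i, mul_add, mul_add, hmid,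
      mul_assoc _ f (T.pI i e f₀), hfp, h.rI_mul_pI, zero_add, add_zero]
  rw [← e3]
  conv_lhs => rw [← one_mul f, ← T.sum_pqr (e := e) (f₀ := f₀) i, add_mul, add_mul, hα]
  rw [add_assoc]
  rfl

variable [Fintype ι] {S : Finset ι}

/-- **all roots in the set are pure**, odd characteristic -/
theorem Grp.pure_odd (G : Grp T H) (Z : Ctr T H) (hw : T.Wide) (hk : T.Big ∨ 4 < Nat.card F) (p : ℕ)
    [Fact p.Prime] [CharP F p] (hp : p ≠ 2) (L : Low T H S) {i : ι} (hi : i ∈ S) {d : R} (hd : IsRoot T H d)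
    (hdS : T.Off S d) : IsPure T d := by
  classical
  haveI : Finite Rˣ := Finite.of_injective _ Units.val_injective
  haveI : CharP R p := charP_of_injective_algebraMap (algebraMap F R).injective p
  letI : Algebra (ZMod p) R := ZMod.algebra R p
  have h2 : (2 : F) ≠ 0 := Ring.two_ne_zero (by rwa [ringChar.eq F p])
  by_contra hnp
  obtain ⟨a, ha, hσ⟩ := T.exists_skew
  obtain ⟨ud, hud, hudv⟩ := hd.mem G
  have hudS : T.Off S (ud : R) := hudv ▸ (T.off_one S).add hdS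
  -- the planes
  have hplane : ∀ e f₀, T.Hyp e f₀ → ∃ f q v, T.f v e = 0 ∧ T.f v f₀ = 0 ∧ T.ad f = f ∧ f * d = d ∧ d * f = d ∧
      f = T.E i e q + T.E i (f₀ + v) e ∧ ¬ IsNilpotent (a • T.E i e e * d + d * (a • T.E i e e)) := by
    intro e f₀ h
    obtain ⟨n, hn⟩ : ∃ n, n = a • T.E i e e := ⟨_, rfl⟩
    have hpn : IsPure T n := ⟨i, e, h.left_ne, h.ee, a, ha, hσ, hn⟩
    have hnm : n ∈ T.phi i := hn ▸ (T.phi i).smul_mem a (T.E_mem_phi i e e)
    let Q : Quad (ZMod p) R := ⟨n, d, hpn.sq, hd.sq⟩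
    obtain ⟨un, hun, hunv⟩ := hpn.mem G
    have hunS : T.Off S (un : R) := hunv ▸ (T.off_one S).add (T.off_of_phi hi hnm)
    have hgrp : ∀ z ∈ Q.grp, z ∈ H ∧ T.Off S (z : R) := by
      intro z hz
      let K : Subgroup Rˣ :=
        { carrier := {z | z ∈ H ∧ T.Off S (z : R)}
          one_mem' := ⟨one_mem H, by simpa using T.off_one S⟩
          mul_mem' := fun {x y} hx hy => ⟨mul_mem hx.1 hy.1, by rw [Units.val_mul]; exact hx.2.mul hy.2⟩
          inv_mem' := fun {x} hx => ⟨inv_mem hx.1, hx.2.inv⟩ }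
      refine (Subgroup.closure_le K).2 ?_ hz
      rintro w ⟨c, hc⟩
      obtain ⟨m, rfl⟩ := ZMod.natCast_zmod_surjective c
      have pw : ∀ y : R, y * y = 0 → ∀ m : ℕ, (1 + y) ^ m = 1 + ((m : ℕ) : ZMod p) • y := by
        intro y hy m
        induction m with
        | zero => simp
        | succ m ih =>
          rw [pow_succ, ih, Nat.cast_succ, add_smul, one_smul]
          simp only [add_mul, mul_add, one_mul, mul_one, smul_mul_assoc, hy, smul_zero, add_zero]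
          abel
      rcases hc with hc | hc
      · have : w = un ^ m := Units.ext (by rw [hc, Units.val_pow_eq_pow_val, hunv, pw n hpn.sq])
        rw [this]; exact pow_mem (show un ∈ K from ⟨hun, hunS⟩) m
      · have : w = ud ^ m := Units.ext (by rw [hc, Units.val_pow_eq_pow_val, hudv, pw d hd.sq])
        rw [this]; exact pow_mem (show ud ∈ K from ⟨hud, hudS⟩) m
    have hC : ¬ IsNilpotent Q.C := by
      intro hC
      let Gd : Subgroup Rˣ :=
        { carrier := {z | Good T H S z}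
          one_mem' := ⟨one_mem H, by simpa using T.off_one S, fun k hk => ⟨k, hk, Carries.refl T k⟩⟩
          mul_mem' := fun hx hy => hx.mul hy
          inv_mem' := fun hx => hx.inv }
      obtain ⟨gd, hgd, hgdc⟩ := Q.mem_gens_d 1
      rw [one_smul] at hgdc
      have hne : ¬ Q.grp ≤ Gd := fun hle =>
        hnp (G.pure_of_good Z hw hk L hi hd hdS (hle (Subgroup.subset_closure hgd) : Good T H S gd) hgdc)
      haveI : Group.IsNilpotent Q.grp := (Quad.isPGroup_of_nilpotent (Q := Q) p hC).isNilpotent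
      have hlt : Gd.subgroupOf Q.grp < Subgroup.normalizer (Gd.subgroupOf Q.grp : Set Q.grp) :=
        Group.normalizerCondition_of_isNilpotent _ (lt_top_iff_ne_top.2 fun e0 =>
          hne (Subgroup.subgroupOf_eq_top.1 e0))
      obtain ⟨⟨g, hgQ⟩, hgN, hgG⟩ := SetLike.exists_of_lt hlt
      rw [Subgroup.mem_subgroupOf] at hgG
      obtain ⟨gn, hgn, hgnc⟩ := Q.mem_gens_n 1
      rw [one_smul] at hgnc
      have hgnG : gn ∈ Gd := by
        refine G.good_of_image Z hw hk L (hgrp gn (Subgroup.subset_closure hgn)).1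
          (hgrp gn (Subgroup.subset_closure hgn)).2 hpn (T.off_of_phi hi hnm) ?_
        rwa [inv_one_add hpn.sq hgnc, hgnc, add_mul, one_mul, show Q.n = n from rfl, hpn.sq, add_zero, mul_sub,
          mul_one, hpn.sq, sub_zero]
      have hc : g * gn * g⁻¹ ∈ Gd :=
        ((Subgroup.mem_normalizer_iff.1 hgN ⟨gn, Subgroup.subset_closure hgn⟩).1 hgnG :)
      obtain ⟨hgH, hgS⟩ := hgrp g hgQ
      have himg := G.pure_of_good Z hw hk L hi (hpn.isRoot.conj hgH) (hgS.conj (T.off_of_phi hi hnm))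
        (hc : Good T H S _) (by
          rw [Units.val_mul, Units.val_mul, hgnc, mul_add, mul_one, add_mul, Units.mul_inv])
      exact hgG (G.good_of_image Z hw hk L hgH hgS hpn (T.off_of_phi hi hnm) himg)
    -- the involution
    obtain ⟨z, hz, f, s, hs, hfs, hfK, hff, hf0, hzf⟩ := Q.exists_involution p hp hC
    have hCdef : Q.C = a • T.E i e e * d + d * (a • T.E i e e) := by rw [← hn]; rfl
    have hfn : T.E i e e * f = f * T.E i e e := by
      have := Quad.K_n (Q := Q) hfK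
      simp only [show Q.n = n from rfl, hn, smul_mul_assoc, mul_smul_comm] at this
      exact smul_right_injective R ha this
    have hkill : T.rI i e f₀ * f * T.rI i e f₀ = 0 := by
      rw [hfs, hCdef]
      exact h.rI_kill (by rw [← hn]; exact Quad.K_n (Q := Q) hs)
    obtain ⟨-, hadf, -, q, v, hve, hvf, hfe⟩ := G.plane Z hw hk h2 h (hgrp z hz).1 hzf hff hf0 hfn hkill
    -- the frame of `d`
    obtain ⟨k, hk', y₀, ⟨j, e₁, he₁, hee₁, a₁, ha₁, -, rfl⟩, hdk⟩ := id hd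
    obtain ⟨f₁, h₁⟩ := T.exists_hyp he₁ hee₁
    obtain ⟨f', hf'⟩ : ∃ f', f' = (↑k⁻¹ : R) * f * (k : R) := ⟨_, rfl⟩
    have hcomm : ∀ t : R, t ∈ Q.K → (a₁ • T.E j e₁ e₁) * ((↑k⁻¹ : R) * t * (k : R)) =
        ((↑k⁻¹ : R) * t * (k : R)) * (a₁ • T.E j e₁ e₁) := fun t ht => by
      have h1 := congrArg (fun s => (↑k⁻¹ : R) * s * (k : R)) (show d * t = t * d from Quad.K_d ht)
      simp only [hdk, mul_assoc, Units.inv_mul_cancel_left, Units.inv_mul, mul_one] at h1
      simpa [mul_assoc] using h1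
    have hzf' : ((k⁻¹ * z * k : Rˣ) : R) = 1 - (f' + f') := by
      rw [Units.val_mul, Units.val_mul, hzf, hf', mul_sub, mul_one, sub_mul, Units.inv_mul, mul_add, add_mul]
    have hff' : f' * f' = f' := by
      rw [hf', show (↑k⁻¹ : R) * f * (k : R) * ((↑k⁻¹ : R) * f * (k : R)) = (↑k⁻¹ : R) * (f * f) * (k : R) by
        simp [mul_assoc], hff]
    have hf'0 : f' ≠ 0 := by rw [hf']; simpa using hf0
    have hfn' : T.E j e₁ e₁ * f' = f' * T.E j e₁ e₁ := by
      have := hcomm f hfK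
      rw [← hf', smul_mul_assoc, mul_smul_comm] at this
      exact smul_right_injective R ha₁ this
    have hkill' : T.rI j e₁ f₁ * f' * T.rI j e₁ f₁ = 0 := by
      have h0 := h₁.rI_kill (i := j) (a := a₁) (d := (↑k⁻¹ : R) * n * (k : R))
        (s := (↑k⁻¹ : R) * s * (k : R)) (hcomm s hs)
      convert h0 using 3
      rw [hf', hfs, show Q.C = n * d + d * n from rfl, hdk]
      simp [mul_assoc, mul_add, add_mul]
      abel
    have hfn₁ := (G.plane Z hw hk h2 h₁ (mul_mem (mul_mem (inv_mem hk') (hgrp z hz).1) hk') hzf' hff' hf'0 hfn'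
      hkill').2.2.1
    have hfd : f * d = d := by
      have h1 := congrArg (fun s => a₁ • ((k : R) * s * (↑k⁻¹ : R))) hfn₁
      simp only [hf', mul_assoc, Units.mul_inv_cancel_left] at h1
      rw [hdk]
      simpa [mul_assoc] using h1
    refine ⟨f, q, v, hve, hvf, hadf, hfd, ?_, hfe, hCdef ▸ hC⟩
    rw [show d * f = f * d from Quad.K_d (Q := Q) hfK, hfd]
  obtain ⟨-, -, y₀, ⟨-, e, he, hee, -, -, -, -⟩, -⟩ := id hd
  obtain ⟨f₀, h⟩ := T.exists_hyp he hee
  obtain ⟨f, q, v, hve, hvf, hadf, hfd, hdf, hfe, hC⟩ := hplane e f₀ h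
  obtain ⟨p₂, hp₂⟩ : ∃ p₂, p₂ = f₀ + v := ⟨_, rfl⟩
  rw [← hp₂] at hfe
  have hep : T.f e p₂ = 1 := by rw [hp₂, map_add, h.ef, T.perp_symm hve, add_zero]
  have hfp : T.f f₀ p₂ = 0 := by rw [hp₂, map_add, h.ff, T.perp_symm hvf, add_zero]
  -- vectors killed by the plane
  have hkillw : ∀ {e' p' q' : A} {φ : R}, φ = T.E i e' q' + T.E i p' e' → φ * d = d → ∀ u,
      T.f e' u = 0 → T.f p' u = 0 → ∀ x, T.E i x u * d = 0 := by
    intro e' p' q' φ hφ hφd u h1 h1' x
    have e1 : T.E i x u * φ = 0 := by rw [hφ, mul_add, T.mul, T.mul, h1, h1', zero_smul, zero_smul, add_zero]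
    rw [← hφd, ← mul_assoc, e1, zero_mul]
  have hflip : ∀ u, (∀ x, T.E i x u * d = 0) → ∀ x, d * T.E i u x = 0 := by
    intro u hu x
    have := congrArg T.ad (hu x)
    rwa [T.ad_mul, T.ad_E, hd.ad G, map_zero, neg_mul, neg_eq_zero] at this
  obtain ⟨c, hc⟩ := T.exists_trace (r := -T.f p₂ p₂) (by rw [map_neg, T.σ_self])
  have hpe : T.f p₂ e = 1 := by rw [← T.herm, hep, map_one]
  have hyp : T.Hyp e (p₂ + c • e) := ⟨hee, by
    simp only [map_add, map_smulₛₗ, LinearMap.add_apply, LinearMap.smul_apply, RingHom.id_apply, smul_eq_mul,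
      hep, hpe, hee]
    linear_combination hc, by simp [hep, hee]⟩
  by_cases hiso : ∃ w, w ≠ 0 ∧ T.f w w = 0 ∧ T.f w e = 0 ∧ T.f w (p₂ + c • e) = 0
  · obtain ⟨w, hw0, hww, hwe, hwp⟩ := hiso
    have hwp' : T.f w p₂ = 0 := by simpa [hwe] using hwp
    have h1 := hkillw hfe hfd w (T.perp_symm hwe) (T.perp_symm hwp') w
    have h1' := hflip w (hkillw hfe hfd w (T.perp_symm hwe) (T.perp_symm hwp')) w
    refine hnp (G.pure_of_commute Z hw hk L (y := a • T.E i w w) ⟨i, w, hw0, hww, a, ha, hσ, rfl⟩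
      (T.off_of_phi hi ((T.phi i).smul_mem a (T.E_mem_phi i w w))) hd hdS ?_)
    rw [smul_mul_assoc, mul_smul_comm, h1, h1']
  have hno : ∀ w, T.f w w = 0 → T.f w e = 0 → T.f w (p₂ + c • e) = 0 → w = 0 := fun w h1 h2' h3 =>
    Classical.byContradiction fun h0 => hiso ⟨w, h0, h1, h2', h3⟩
  obtain ⟨u₀, hu₀e, hu₀p, hu₀u⟩ := T.exists_aniso_perp hw hyp
  obtain ⟨c', hc'⟩ := T.exists_trace (r := -T.f u₀ u₀) (by rw [map_neg, T.σ_self])
  obtain ⟨e', he'⟩ : ∃ e', e' = u₀ + e + c' • (p₂ + c • e) := ⟨_, rfl⟩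
  have he'e' : T.f e' e' = 0 := by
    have a1 := hyp.fe
    have a2 := hyp.ef
    have a3 := hyp.ff
    rw [he']
    simp only [map_add, map_smulₛₗ, LinearMap.add_apply, LinearMap.smul_apply, RingHom.id_apply, smul_eq_mul] at a1 a2 a3 hu₀p ⊢
    have b1 := T.perp_symm hu₀e
    have b2 : T.f (p₂ + c • e) u₀ = 0 := T.perp_symm (by
      simp only [map_add, map_smulₛₗ, smul_eq_mul]; exact hu₀p)
    simp only [map_add, map_smulₛₗ, LinearMap.add_apply, LinearMap.smul_apply, RingHom.id_apply, smul_eq_mul] at b2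
    linear_combination hc' + hee + hu₀e + b1 + T.σ c' * hu₀p + c' * b2 + T.σ c' * a2 + c' * a1 + c' * T.σ c' * a3
  have he'0 : e' ≠ 0 := by
    intro h0
    have h1 := congrArg (fun x => T.f x u₀) h0
    have hu₀p₂ : T.f u₀ p₂ = 0 := by simpa [hu₀e] using hu₀p
    simp [he', T.perp_symm hu₀e, T.perp_symm hu₀p₂] at h1
    exact hu₀u h1
  obtain ⟨f₀', h'⟩ := T.exists_hyp he'0 he'e'
  obtain ⟨φ, q', v', hv'e, hv'f, -, hφd, -, hφ, -⟩ := hplane e' f₀' h'
  obtain ⟨p', hp'⟩ : ∃ p', p' = f₀' + v' := ⟨_, rfl⟩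
  rw [← hp'] at hφ
  have he'p' : T.f e' p' = 1 := by rw [hp', map_add, h'.ef, T.perp_symm hv'e, add_zero]
  have hp'e' : T.f p' e' = 1 := by rw [← T.herm, he'p', map_one]
  obtain ⟨c'', hc''⟩ := T.exists_trace (r := -T.f p' p') (by rw [map_neg, T.σ_self])
  have hyp' : T.Hyp e' (p' + c'' • e') := ⟨he'e', by
    simp only [map_add, map_smulₛₗ, LinearMap.add_apply, LinearMap.smul_apply, RingHom.id_apply, smul_eq_mul,
      he'p', hp'e', he'e']
    linear_combination hc'', by simp [he'p', he'e']⟩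
  obtain ⟨u', hu'0, hu'e, hu'p⟩ := hw e' _ hyp'
  have hu'p' : T.f u' p' = 0 := by simpa [hu'e] using hu'p
  have hud' := hkillw hφ hφd u' (T.perp_symm hu'e) (T.perp_symm hu'p')
  have hdu' := hflip u' hud'
  obtain ⟨s₁, hs₁⟩ : ∃ s₁, s₁ = T.f e u' := ⟨_, rfl⟩
  obtain ⟨s₂, hs₂⟩ : ∃ s₂, s₂ = T.f p₂ u' := ⟨_, rfl⟩
  have hsne : s₁ ≠ 0 ∨ s₂ ≠ 0 := by
    by_contra hcon
    simp only [not_or, not_not] at hcon
    have h1 : T.f u' e = 0 := T.perp_symm (hs₁ ▸ hcon.1)
    have h1' : T.f u' (p₂ + c • e) = 0 := by simp [h1, T.perp_symm (show T.f p₂ u' = 0 from hs₂ ▸ hcon.2)]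
    have hu0 : u₀ ≠ 0 := fun e0 => hu₀u (by simp [e0])
    have hr := hyp.rI_eq_line hno hu₀e hu₀p hu₀u i
    have e1 : u' = ((T.f u₀ u₀)⁻¹ * T.f u' u₀) • u₀ := sub_eq_zero.1 (by
      by_contra hne
      refine T.E_ne_zero i hne he ?_
      rw [map_sub, LinearMap.sub_apply, map_smul, LinearMap.smul_apply, ← smul_smul, ← T.mul i u₀ u₀ u' e,
        ← smul_mul_assoc, ← hr, T.rI_E, Sys.proj_of_perp h1 h1', sub_self])
    have h3 := hu'e
    rw [e1, he'] at h3
    have hu₀p₂ : T.f u₀ p₂ = 0 := by simpa [hu₀e] using hu₀p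
    simp [hu₀e, hu₀p₂, hu₀u] at h3
    exact hu'0 (by rw [e1, h3, mul_zero, zero_smul])
  -- the blocks
  obtain ⟨b11, hb11⟩ : ∃ b, b = T.blk i q q d := ⟨_, rfl⟩
  obtain ⟨b12, hb12⟩ : ∃ b, b = T.blk i q e d := ⟨_, rfl⟩
  obtain ⟨b21, hb21⟩ : ∃ b, b = T.blk i e q d := ⟨_, rfl⟩
  obtain ⟨b22, hb22⟩ : ∃ b, b = T.blk i e e d := ⟨_, rfl⟩
  have c11 : T.Cen i b11 := hb11 ▸ T.cen_blk _ _ _ _
  have c12 : T.Cen i b12 := hb12 ▸ T.cen_blk _ _ _ _
  have c21 : T.Cen i b21 := hb21 ▸ T.cen_blk _ _ _ _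
  have c22 : T.Cen i b22 := hb22 ▸ T.cen_blk _ _ _ _
  have hfe' : f = T.E i q e + T.E i e p₂ := by
    rw [← hadf, hfe, map_add, T.ad_E, T.ad_E]
  have hdec : d = T.E i e e * b11 + T.E i e p₂ * b12 + T.E i p₂ e * b21 + T.E i p₂ p₂ * b22 := by
    calc d = f * d * f := by rw [hfd, hdf]
      _ = (T.E i e q + T.E i p₂ e) * d * (T.E i q e + T.E i e p₂) := by
          conv_lhs => arg 1; arg 1; rw [hfe]
          rw [hfe']
      _ = _ := by
          simp only [add_mul, mul_add, hb11, hb12, hb21, hb22, T.E_blk]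
          abel
  have hmul : ∀ {x y p q : A} {b : R}, T.E i x y * (T.E i p q * b) = T.f p y • (T.E i x q * b) := fun {x y p q b} => by
    rw [← mul_assoc, T.mul, smul_mul_assoc]
  have hmul' : ∀ {x y p q : A} {b : R}, T.Cen i b → T.E i p q * b * T.E i x y = T.f x q • (T.E i p y * b) :=
    fun {x y p q b} hb => by rw [mul_assoc, hb, ← mul_assoc, T.mul, smul_mul_assoc]
  have hu'e' : T.f u' e = T.σ s₁ := by rw [hs₁, T.herm]
  have hu'p2 : T.f u' p₂ = T.σ s₂ := by rw [hs₂, T.herm]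
  have hL : ∀ b, T.E i b u' * d = T.E i b e * (s₁ • b11 + s₂ • b21) + T.E i b p₂ * (s₁ • b12 + s₂ • b22) := fun b => by
    rw [hdec]
    simp only [mul_add, hmul, mul_smul_comm, hs₁, hs₂]
    abel
  have hR : ∀ b, d * T.E i u' b = T.E i e b * (T.σ s₁ • b11 + T.σ s₂ • b12) +
      T.E i p₂ b * (T.σ s₁ • b21 + T.σ s₂ • b22) := fun b => by
    rw [hdec]
    simp only [add_mul, hmul' c11, hmul' c12, hmul' c21, hmul' c22, mul_add, mul_smul_comm, hu'e', hu'p2]
    abel
  have hfe1 : T.f f₀ e = 1 := h.fe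
  have hL0 : ∀ w, T.f w e • (s₁ • b11 + s₂ • b21) + T.f w p₂ • (s₁ • b12 + s₂ • b22) = 0 := fun w => by
    have h1 := congrArg (T.blk i f₀ w) (hud' e)
    rw [hL, T.blk_add, T.blk_E_mul ((c11.smul _).add (c21.smul _)), T.blk_E_mul ((c12.smul _).add (c22.smul _)),
      T.blk_zero, h.ef, one_mul, one_mul] at h1
    exact h1
  have hR0 : ∀ w, T.f e w • (T.σ s₁ • b11 + T.σ s₂ • b12) + T.f p₂ w • (T.σ s₁ • b21 + T.σ s₂ • b22) = 0 := fun w => by
    have h1 := congrArg (T.blk i w f₀) (hdu' e)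
    rw [hR, T.blk_add, T.blk_E_mul ((c11.smul _).add (c12.smul _)), T.blk_E_mul ((c21.smul _).add (c22.smul _)),
      T.blk_zero, hfe1, mul_one, mul_one] at h1
    exact h1
  have l1 : s₁ • b11 + s₂ • b21 = 0 := by simpa [hfe1, hfp] using hL0 f₀
  have l2 : s₁ • b12 + s₂ • b22 = 0 := by simpa [hee, hep] using hL0 e
  have r2 : T.σ s₁ • b21 + T.σ s₂ • b22 = 0 := by simpa [hee, hpe] using hR0 e
  by_cases hs10 : s₁ = 0
  · have hs20 : s₂ ≠ 0 := hsne.resolve_left fun h0 => h0 hs10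
    rw [hs10, zero_smul, zero_add, smul_eq_zero, or_iff_right hs20] at l1 l2
    rw [hs10, map_zero, zero_smul, zero_add, smul_eq_zero, or_iff_right (T.σ_ne_zero.2 hs20)] at r2
    have r1 : T.σ s₁ • b11 + T.σ s₂ • b12 = 0 := by
      have := hR0 f₀
      rwa [h.ef, show T.f p₂ f₀ = 0 from T.perp_symm hfp, one_smul, zero_smul, add_zero] at this
    rw [hs10, map_zero, zero_smul, zero_add, smul_eq_zero, or_iff_right (T.σ_ne_zero.2 hs20)] at r1
    rw [l1, r1, l2, mul_zero, mul_zero, mul_zero, add_zero, add_zero, add_zero] at hdec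
    refine hnp (G.pure_of_commute Z hw hk L (y := a • T.E i e e) ⟨i, e, he, hee, a, ha, hσ, rfl⟩
      (T.off_of_phi hi ((T.phi i).smul_mem a (T.E_mem_phi i e e))) hd hdS ?_)
    rw [hdec, smul_mul_assoc, mul_smul_comm, hmul, hmul' c11, hee, zero_smul]
  obtain ⟨k, hk0⟩ : ∃ k, k = -(s₂ / s₁) := ⟨_, rfl⟩
  have e11 : b11 = k • b21 := by
    rw [hk0, neg_smul, ← smul_right_inj (M := R) hs10, smul_neg, smul_smul, mul_div_cancel₀ _ hs10]
    exact eq_neg_of_add_eq_zero_left l1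
  have e12 : b12 = k • b22 := by
    rw [hk0, neg_smul, ← smul_right_inj (M := R) hs10, smul_neg, smul_smul, mul_div_cancel₀ _ hs10]
    exact eq_neg_of_add_eq_zero_left l2
  have e21 : b21 = T.σ k • b22 := by
    rw [hk0, map_neg, map_div₀, neg_smul, ← smul_right_inj (M := R) (T.σ_ne_zero.2 hs10), smul_neg, smul_smul,
      mul_div_cancel₀ _ (T.σ_ne_zero.2 hs10)]
    exact eq_neg_of_add_eq_zero_left r2
  obtain ⟨w, hw'⟩ : ∃ w, w = k • e + p₂ := ⟨_, rfl⟩
  have hdw : d = T.E i w w * b22 := by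
    rw [hdec, e11, e12, e21, hw']
    simp only [map_add, map_smulₛₗ, map_smul, LinearMap.add_apply, LinearMap.smul_apply, RingHom.id_apply, add_mul,
      mul_smul_comm, smul_mul_assoc, smul_smul, smul_add]
    module
  by_cases hww : T.f w w = 0
  · have hw0 : w ≠ 0 := fun e0 => hd.ne_zero (by rw [hdw, e0]; simp)
    refine hnp (G.pure_of_commute Z hw hk L (y := a • T.E i w w) ⟨i, w, hw0, hww, a, ha, hσ, rfl⟩
      (T.off_of_phi hi ((T.phi i).smul_mem a (T.E_mem_phi i w w))) hd hdS ?_)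
    rw [hdw, smul_mul_assoc, mul_smul_comm, hmul, hmul' c22, hww, zero_smul]
  -- otherwise the pair is nilpotent
  have hsq := hd.sq
  rw [hdw, ← mul_assoc, hmul' c22, smul_mul_assoc, smul_eq_zero, or_iff_right hww, mul_assoc] at hsq
  have hw0 : w ≠ 0 := fun e0 => hd.ne_zero (by rw [hdw, e0]; simp)
  have hbb := T.E_mul_cancel hw0 hw0 (c22.mul c22) hsq
  refine hC ⟨2, ?_⟩
  obtain ⟨Φ, hΦ⟩ : ∃ Φ, Φ = a • T.E i e e * T.E i w w + T.E i w w * (a • T.E i e e) := ⟨_, rfl⟩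
  have hΦm : Φ ∈ T.phi i := hΦ ▸ add_mem (T.mul_mem_phi ((T.phi i).smul_mem a (T.E_mem_phi i e e)) (T.E_mem_phi i w w))
    (T.mul_mem_phi (T.E_mem_phi i w w) ((T.phi i).smul_mem a (T.E_mem_phi i e e)))
  have e1 : a • T.E i e e * d + d * (a • T.E i e e) = Φ * b22 := by
    rw [hdw, hΦ, add_mul, mul_assoc (T.E i w w) b22,
      T.phi_comm_cen ((T.phi i).smul_mem a (T.E_mem_phi i e e)) c22, ← mul_assoc, ← mul_assoc]
  rw [e1, pow_two, mul_assoc, ← mul_assoc b22, T.phi_comm_cen hΦm c22, mul_assoc Φ b22, hbb, mul_zero, mul_zero]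

end CfsgLib.MaxSub.SuPow
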