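import Cfsg.Agent.Lib.MaxSub.SuPow.Alg

/-!
Tensor powers of a Hermitian space: the radical of the parabolic of a root element of a factor, described by the
root element alone, meets a group with small centres in the short root elements of that factor.
-/

set_option autoImplicit false
set_option linter.unusedSectionVars false

namespace CfsgLib.MaxSub.SuPow

open CfsgLib.MaxSub.SpPow (InH inv_one_add)

variable {F A R ι κ : Type*} [Field F] [AddCommGroup A] [Module F A] [Ring R] [Algebra F R] [Fintype κ]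
variable {T : Sys F A R ι κ} {H : Subgroup Rˣ}

/-- the strictly triangular operators for the flag of a square-zero operator -/
structure UpN (n z : R) : Prop where
  right : z * n = 0
  left : n * z = 0
  mid : ∀ y, n * y = 0 → ∃ w, z * y = n * w

theorem UpN.smul_base {n z : R} (h : UpN n z) {c : F} (hc : c ≠ 0) : UpN (c • n) z := by
  refine ⟨by rw [mul_smul_comm, h.right, smul_zero], by rw [smul_mul_assoc, h.left, smul_zero], fun y hy => ?_⟩
  rw [smul_mul_assoc, smul_eq_zero, or_iff_right hc] at hy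
  obtain ⟨w, hw⟩ := h.mid y hy
  exact ⟨c⁻¹ • w, by rw [smul_mul_smul, mul_inv_cancel₀ hc, one_smul, hw]⟩

theorem UpN.conj {n z : R} (h : UpN n z) (g : Rˣ) :
    UpN ((g : R) * n * (↑g⁻¹ : R)) ((g : R) * z * (↑g⁻¹ : R)) := by
  refine ⟨?_, ?_, fun y hy => ?_⟩
  · rw [show (g : R) * z * (↑g⁻¹ : R) * ((g : R) * n * (↑g⁻¹ : R)) = (g : R) * (z * n) * (↑g⁻¹ : R) by
      simp [mul_assoc], h.right, mul_zero, zero_mul]
  · rw [show (g : R) * n * (↑g⁻¹ : R) * ((g : R) * z * (↑g⁻¹ : R)) = (g : R) * (n * z) * (↑g⁻¹ : R) by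
      simp [mul_assoc], h.left, mul_zero, zero_mul]
  · obtain ⟨w, hw⟩ := h.mid ((↑g⁻¹ : R) * y) (by
      have := congrArg (fun t => (↑g⁻¹ : R) * t) hy
      simpa [mul_assoc] using this)
    refine ⟨(g : R) * w, ?_⟩
    have := congrArg (fun t => (g : R) * t) hw
    simpa [mul_assoc] using this

namespace Sys

variable (T) {i : ι} {e f₀ : A}

theorem rI_eq_sum (h : T.Hyp e f₀) (i : ι) :
    T.rI i e f₀ = ∑ l, T.E i (T.proj e f₀ (T.b l)) (T.proj e f₀ (T.b' l)) := by
  calc T.rI i e f₀ = T.rI i e f₀ * (∑ l, T.E i (T.b l) (T.b' l)) * T.rI i e f₀ := by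
        rw [T.one, mul_one, h.rI_mul_self]
    _ = _ := by
        rw [Finset.mul_sum, Finset.sum_mul]
        exact Finset.sum_congr rfl fun l _ => by rw [T.rI_E, T.E_rI]

variable {T}

theorem Hyp.kill_right (h : T.Hyp e f₀) {z : R} (hz : z * T.E i e e = 0) : z * T.pI i e f₀ = 0 := by
  have e1 : T.pI i e f₀ = T.E i e e * T.E i f₀ f₀ := by rw [T.mul, h.fe, one_smul]; rfl
  rw [e1, ← mul_assoc, hz, zero_mul]

theorem Hyp.kill_left (h : T.Hyp e f₀) {z : R} (hz : T.E i e e * z = 0) : T.qI i e f₀ * z = 0 := by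
  have e1 : T.qI i e f₀ = T.E i f₀ f₀ * T.E i e e := by rw [T.mul, h.ef, one_smul]; rfl
  rw [e1, mul_assoc, hz, mul_zero]

theorem Hyp.mid_zero (h : T.Hyp e f₀) {z : R} (hz : UpN (T.E i e e) z) :
    T.rI i e f₀ * z * T.rI i e f₀ = 0 := by
  obtain ⟨w, hw⟩ := hz.mid _ (h.n_mul_rI i)
  rw [mul_assoc, hw, ← mul_assoc, h.rI_mul_n, zero_mul]

theorem Hyp.upN (h : T.Hyp e f₀) {z : R} (h1 : z * T.E i e e = 0) (h2 : T.E i e e * z = 0)
    (h3 : T.rI i e f₀ * z * T.rI i e f₀ = 0) : UpN (T.E i e e) z := by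
  refine ⟨h1, h2, fun y hy => ⟨T.E i f₀ f₀ * z * y, ?_⟩⟩
  have ep : T.E i e e * T.E i f₀ f₀ = T.pI i e f₀ := by rw [T.mul, h.fe, one_smul]; rfl
  rw [← mul_assoc, ← mul_assoc, ep]
  have hy' : y = T.pI i e f₀ * y + T.rI i e f₀ * y := by
    conv_lhs => rw [← one_mul y, ← T.sum_pqr (e := e) (f₀ := f₀) i, add_mul, add_mul, h.kill_left hy, add_zero]
  have hz' : T.qI i e f₀ * z = 0 := h.kill_left h2
  calc z * y = z * (T.rI i e f₀ * y) := by
        conv_lhs => rw [hy', mul_add, ← mul_assoc z (T.pI i e f₀), h.kill_right h1, zero_mul, zero_add]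
    _ = (T.pI i e f₀ + T.qI i e f₀ + T.rI i e f₀) * z * (T.rI i e f₀ * y) := by rw [T.sum_pqr, one_mul]
    _ = T.pI i e f₀ * z * (T.rI i e f₀ * y) := by
        simp only [add_mul, hz', zero_mul, add_zero, ← mul_assoc (T.rI i e f₀ * z), h3]
    _ = T.pI i e f₀ * z * y := by
        conv_rhs => rw [hy', mul_add, mul_assoc (T.pI i e f₀) z (T.pI i e f₀ * y), ← mul_assoc z (T.pI i e f₀),
          h.kill_right h1, zero_mul, mul_zero, zero_add]

/-- a member of the radical lies between the ends -/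
theorem Hyp.mul_upN (h : T.Hyp e f₀) {a b : R} (ha : UpN (T.E i e e) a) (hb : UpN (T.E i e e) b) :
    a * b = T.pI i e f₀ * a * T.rI i e f₀ * (b * T.qI i e f₀) := by
  have e1 : a * b = a * (T.rI i e f₀ * b) := by
    conv_lhs => rw [← mul_one a, ← T.sum_pqr (e := e) (f₀ := f₀) i, mul_add, mul_add, h.kill_right ha.right,
      add_mul, add_mul, mul_assoc a (T.qI i e f₀), h.kill_left hb.left, zero_mul, mul_zero, zero_add, zero_add,
      mul_assoc]
  have e2 : T.rI i e f₀ * b = T.rI i e f₀ * b * T.qI i e f₀ := by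
    conv_lhs => rw [← mul_one (T.rI i e f₀ * b), ← T.sum_pqr (e := e) (f₀ := f₀) i, mul_add, mul_add, mul_assoc,
      h.kill_right hb.right, mul_zero, zero_add, h.mid_zero hb, add_zero]
  have e3 : a * T.rI i e f₀ = T.pI i e f₀ * a * T.rI i e f₀ := by
    conv_lhs => rw [← one_mul a, ← T.sum_pqr (e := e) (f₀ := f₀) i]
    simp only [add_mul, h.kill_left ha.left, zero_mul, add_zero, h.mid_zero ha]
  rw [e1, e2, ← mul_assoc, ← mul_assoc, e3]
  simp only [mul_assoc]

theorem Hyp.mul_three (h : T.Hyp e f₀) {a b c : R} (ha : UpN (T.E i e e) a) (hb : UpN (T.E i e e) b)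
    (hc : UpN (T.E i e e) c) : a * b * c = 0 := by
  rw [h.mul_upN ha hb, mul_assoc, mul_assoc b, h.kill_left hc.left, mul_zero, mul_zero]

theorem upN_sh (hee : T.f e e = 0) {v : A} (hve : T.f v e = 0) (c : F) : UpN (T.E i e e) (T.sh i e v c) := by
  rcases eq_or_ne e 0 with rfl | he
  · refine ⟨by simp, by simp, fun y _ => ⟨0, by simp [Sys.sh]⟩⟩
  obtain ⟨g, hg⟩ := T.exists_hyp he hee
  refine hg.upN (T.sh_mul_n hee hve c) (T.n_mul_sh hee hve c) ?_
  simp only [sh, mul_add, mul_sub, mul_smul_comm, T.rI_E, hg.proj_self_e, map_zero, LinearMap.zero_apply, add_mul,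
    sub_mul, smul_mul_assoc, T.E_rI, smul_zero, sub_zero, add_zero]

end Sys

variable {i : ι} {e f₀ : A}

/-- the radical meets `H` in the short root elements -/
theorem Grp.radical [Nontrivial R] (G : Grp T H) (Z : Ctr T H) (h : T.Hyp e f₀) {z : R}
    (hz : UpN (T.E i e e) z) (hH : InH H (1 + z)) :
    ∃ v c, T.f v e = 0 ∧ T.f v f₀ = 0 ∧ c + T.σ c = -T.f v v ∧ z = T.sh i e v c := by
  obtain ⟨g, hg, hgz⟩ := id hH
  have hzq := h.kill_left hz.left
  have hzp := h.kill_right hz.right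
  have hmid := h.mid_zero hz
  have hzad : T.ad z * T.pI i e f₀ = 0 := by rw [← T.ad_qI, ← T.ad_mul, hzq, map_zero]
  have hiso : T.ad z + z + T.ad z * z = 0 := by
    have := G.iso g hg
    rw [hgz, map_add, T.ad_one] at this
    calc T.ad z + z + T.ad z * z = (1 + T.ad z) * (1 + z) - 1 := by
          simp only [add_mul, mul_add, one_mul, mul_one]; abel
      _ = 0 := by rw [this, sub_self]
  -- the two sides
  have hside : ∀ w, T.f w e = 0 → T.f w f₀ = 0 → T.blk i f₀ w z = -T.ad (T.blk i w f₀ z) := by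
    intro w hwe hwf
    have e0 : T.E i w e = T.rI i e f₀ * T.E i w e := by rw [T.rI_E, Sys.proj_of_perp hwe hwf]
    have e1 : T.E i e f₀ * (T.ad z * z) * T.E i w e = 0 := by
      have e2 : z * T.E i w e = T.pI i e f₀ * (z * T.E i w e) := by
        conv_lhs => rw [← one_mul z, ← T.sum_pqr (e := e) (f₀ := f₀) i, e0]
        simp only [add_mul, hzq, zero_mul, add_zero, ← mul_assoc (T.rI i e f₀ * z), hmid]
        rw [← e0, mul_assoc]
      rw [mul_assoc (T.E i e f₀), mul_assoc (T.ad z), e2, ← mul_assoc (T.ad z), hzad, zero_mul, mul_zero]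
    rw [T.ad_blk]
    refine eq_neg_of_add_eq_zero_left (T.E_mul_cancel h.left_ne h.left_ne
      ((T.cen_blk _ _ _ _).add (T.cen_blk _ _ _ _)) ?_)
    rw [← T.blk_add, T.E_blk, show z + T.ad z = -(T.ad z * z) by rw [add_comm]; exact eq_neg_of_add_eq_zero_left hiso,
      mul_neg, neg_mul, e1, neg_zero]
  -- commutators with short root elements make the sides scalar
  have hkey : ∀ w, T.f w e = 0 → T.f w f₀ = 0 → ∀ c : F, ∃ a : F,
      T.σ c • T.blk i w f₀ z - c • T.ad (T.blk i w f₀ z) = a • 1 := by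
    intro w hwe hwf c
    obtain ⟨d, hd⟩ := T.exists_trace (r := -T.f (c • w) (c • w)) (by rw [map_neg, T.σ_self])
    have hve : T.f (c • w) e = 0 := by simp [hwe]
    obtain ⟨s, hsd⟩ : ∃ s, s = T.sh i e (c • w) d := ⟨_, rfl⟩
    obtain ⟨u, hu, hus⟩ := G.short i e (c • w) d h.ee hve hd
    rw [← hsd] at hus
    have hs : UpN (T.E i e e) s := hsd ▸ Sys.upN_sh h.ee hve d
    have hzs : z * s = -(c • (T.E i e e * T.ad (T.blk i w f₀ z))) := by
      rw [← smul_neg, ← mul_neg, ← hside w hwe hwf, T.E_blk]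
      have e0 : z * T.E i e (c • w) = 0 := by
        rw [show T.E i e (c • w) = T.pI i e f₀ * T.E i e (c • w) by rw [T.pI_E, h.ef, one_smul], ← mul_assoc, hzp,
          zero_mul]
      rw [hsd, Sys.sh, mul_add, mul_sub, mul_smul_comm, hz.right, smul_zero, add_zero, e0, sub_zero, map_smul,
        LinearMap.smul_apply, mul_smul_comm]
      congr 1
      have er : T.E i w e = T.rI i e f₀ * T.E i w e := by rw [T.rI_E, Sys.proj_of_perp hwe hwf]
      conv_lhs => rw [← one_mul z, ← T.sum_pqr (e := e) (f₀ := f₀) i, er]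
      simp only [add_mul, hzq, zero_mul, add_zero, ← mul_assoc (T.rI i e f₀ * z), hmid]
      rw [← er]; rfl
    have hsz : s * z = -(T.σ c • (T.E i e e * T.blk i w f₀ z)) := by
      rw [T.E_blk]
      have e0 : T.E i (c • w) e * z = 0 := by
        rw [show T.E i (c • w) e = T.E i (c • w) e * T.qI i e f₀ by rw [T.E_qI, h.fe, one_smul], mul_assoc, hzq,
          mul_zero]
      rw [hsd, Sys.sh, add_mul, sub_mul, smul_mul_assoc, hz.left, smul_zero, add_zero, e0, zero_sub, map_smulₛₗ,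
        smul_mul_assoc]
      congr 2
      have er : T.E i e w = T.E i e w * T.rI i e f₀ := by rw [T.E_rI, Sys.proj_of_perp hwe hwf]
      conv_lhs => rw [← mul_one z, ← T.sum_pqr (e := e) (f₀ := f₀) i, er]
      simp only [mul_add, hzp, mul_zero, zero_add, mul_assoc _ _ (z * T.rI i e f₀),
        ← mul_assoc (T.rI i e f₀) z, hmid, add_zero]
      rw [← er, ← mul_assoc]; rfl
    have hcom : (1 + z) * (1 + s) = (1 + (z * s - s * z)) * ((1 + s) * (1 + z)) := by
      simp only [add_mul, mul_add, sub_mul, one_mul, mul_one, ← mul_assoc, h.mul_three hz hs hs, h.mul_three hz hs hz,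
        h.mul_three hs hz hs, h.mul_three hs hz hz, zero_mul, sub_zero, add_zero]
      abel
    have hin : InH H (1 + T.E i e e * (T.σ c • T.blk i w f₀ z - c • T.ad (T.blk i w f₀ z))) := by
      refine ⟨g * u * (u * g)⁻¹, mul_mem (mul_mem hg hu) (inv_mem (mul_mem hu hg)), ?_⟩
      rw [Units.val_mul, Units.val_mul, hgz, hus, hcom, show (1 + s) * (1 + z) = ((u * g : Rˣ) : R) by
        rw [Units.val_mul, hgz, hus], mul_assoc, Units.mul_inv, mul_one, hzs, hsz]
      simp only [mul_sub, mul_smul_comm]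
      abel
    have hK := T.cen_blk i w f₀ z
    obtain ⟨a, ha⟩ := Z i e h.left_ne h.ee _ ((hK.smul _).sub (hK.ad.smul _)) hin
    refine ⟨a, sub_eq_zero.1 (T.E_mul_cancel h.left_ne h.left_ne
      (((hK.smul _).sub (hK.ad.smul _)).sub ((T.cen_one i).smul a)) ?_)⟩
    rw [mul_sub, ha, mul_smul_comm, mul_one, sub_self]
  have hK : ∀ w, T.f w e = 0 → T.f w f₀ = 0 → ∃ k : F, T.blk i w f₀ z = k • 1 := by
    intro w hwe hwf
    obtain ⟨θ, hθ⟩ := T.σ_ne
    obtain ⟨a, ha⟩ := hkey w hwe hwf 1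
    obtain ⟨b, hb⟩ := hkey w hwe hwf θ
    rw [map_one, one_smul, one_smul] at ha
    refine ⟨(T.σ θ - θ)⁻¹ * (b - θ * a), ?_⟩
    rw [← smul_smul, eq_inv_smul_iff₀ (sub_ne_zero.2 hθ)]
    linear_combination (norm := module) hb - θ • ha
  -- the vector
  choose k hk using fun l => hK _ (h.proj_e (T.b' l)) (h.proj_f (T.b' l))
  obtain ⟨v, hv⟩ : ∃ v, v = ∑ l, k l • T.proj e f₀ (T.b l) := ⟨_, rfl⟩
  have hve : T.f v e = 0 := by simp [hv, h.proj_e]
  have hvf : T.f v f₀ = 0 := by simp [hv, h.proj_f]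
  have h1 : T.rI i e f₀ * z * T.qI i e f₀ = T.E i v e := by
    rw [T.rI_eq_sum h, Finset.sum_mul, Finset.sum_mul, hv, map_sum, LinearMap.sum_apply]
    refine Finset.sum_congr rfl fun l _ => ?_
    rw [Sys.qI, ← T.E_blk, hk, mul_smul_comm, mul_one, map_smul, LinearMap.smul_apply]
  have h2 : T.pI i e f₀ * z * T.rI i e f₀ = -T.E i e v := by
    have e1 : T.pI i e f₀ * (T.ad z * z) * T.rI i e f₀ = 0 := by
      have e0 : z * T.rI i e f₀ = T.pI i e f₀ * (z * T.rI i e f₀) := by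
        conv_lhs => rw [← one_mul z, ← T.sum_pqr (e := e) (f₀ := f₀) i]
        simp only [add_mul, hzq, hmid, zero_mul, add_zero, mul_assoc]
      rw [mul_assoc (T.pI i e f₀), mul_assoc (T.ad z), e0, ← mul_assoc (T.ad z), hzad, zero_mul, mul_zero]
    have e2 := congrArg (fun x => T.pI i e f₀ * x * T.rI i e f₀) hiso
    simp only [mul_add, add_mul, e1, mul_zero, zero_mul, add_zero] at e2
    have e3 : T.pI i e f₀ * T.ad z * T.rI i e f₀ = T.E i e v := by
      rw [← T.ad_qI, ← T.ad_rI, ← T.ad_mul, ← T.ad_mul, ← mul_assoc, h1, T.ad_E]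
    rw [e3] at e2
    exact eq_neg_of_add_eq_zero_right e2
  obtain ⟨M, hM⟩ : ∃ M, M = T.blk i f₀ f₀ z := ⟨_, rfl⟩
  have hzM : z = T.E i v e - T.E i e v + T.E i e e * M := by
    calc z = (T.pI i e f₀ + T.qI i e f₀ + T.rI i e f₀) * z * (T.pI i e f₀ + T.qI i e f₀ + T.rI i e f₀) := by
          rw [T.sum_pqr, one_mul, mul_one]
      _ = T.rI i e f₀ * z * T.qI i e f₀ + T.pI i e f₀ * z * T.rI i e f₀ + T.pI i e f₀ * z * T.qI i e f₀ := by
          simp only [add_mul, mul_add, hzq, hmid, zero_mul, mul_assoc _ z (T.pI i e f₀), hzp, mul_zero, add_zero,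
            zero_add]
          abel
      _ = _ := by rw [h1, h2, hM, T.E_blk]; simp only [Sys.pI, Sys.qI]; abel
  -- the centre is scalar
  obtain ⟨c₀, hc₀⟩ := T.exists_trace (r := -T.f v v) (by rw [map_neg, T.σ_self])
  have hne : T.f (-v) e = 0 := by simp [hve]
  have hc₀' : T.σ c₀ + T.σ (T.σ c₀) = -T.f (-v) (-v) := by
    rw [T.σσ, map_neg, map_neg, LinearMap.neg_apply, neg_neg, ← hc₀, add_comm]
  have hin : InH H (1 + T.E i e e * (M - c₀ • 1)) := by
    convert (G.short i e (-v) (T.σ c₀) h.ee hne hc₀').mul hH using 1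
    have e1 : T.sh i e (-v) (T.σ c₀) * z = T.f v v • T.E i e e := by
      rw [hzM, mul_add, ← mul_assoc, T.sh_mul_n h.ee hne, zero_mul, add_zero,
        show T.E i v e - T.E i e v = T.sh i e v 0 by simp [Sys.sh], T.sh_mul_sh h.ee hne hve]
      simp
    have e2 : T.σ c₀ = -T.f v v - c₀ := eq_sub_of_add_eq' hc₀
    rw [add_mul, one_mul, mul_add, mul_one, e1]
    conv_rhs => rw [hzM]
    simp only [Sys.sh, map_neg, LinearMap.neg_apply, mul_sub, mul_smul_comm, mul_one, e2]
    module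
  obtain ⟨a, ha⟩ := Z i e h.left_ne h.ee _ ((hM ▸ T.cen_blk _ _ _ _).sub ((T.cen_one i).smul c₀)) hin
  rw [mul_sub, mul_smul_comm, mul_one, sub_eq_iff_eq_add, ← add_smul] at ha
  have hzc : z = T.sh i e v (a + c₀) := by rw [hzM, ha]; rfl
  refine ⟨v, a + c₀, hve, hvf, ?_, hzc⟩
  have e1 := hiso
  rw [hzc, T.ad_sh, T.sh_mul_sh h.ee hne hve] at e1
  have e2 : (T.σ (a + c₀) + (a + c₀) + T.f v v) • T.E i e e = 0 := by
    rw [← e1]
    simp only [Sys.sh, map_neg, LinearMap.neg_apply]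
    module
  rcases smul_eq_zero.1 e2 with h0 | h0
  · linear_combination h0
  · exact absurd h0 (T.E_ne_zero i h.left_ne h.left_ne)

end CfsgLib.MaxSub.SuPow
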