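import Cfsg.Agent.Lib.MaxSub.SuPow.Radical

/-!
Tensor powers of a Hermitian space: norms are onto, the size of the centraliser of a factor, roots in one factor are
root elements of it.
-/

set_option autoImplicit false
set_option linter.unusedSectionVars false

namespace CfsgLib.MaxSub.SuPow

open CfsgLib.MaxSub.SpPow (InH inv_one_add)

variable {F A R ι κ : Type*} [Field F] [AddCommGroup A] [Module F A] [Ring R] [Algebra F R] [Fintype κ]
variable {T : Sys F A R ι κ} {H : Subgroup Rˣ}

namespace Sys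

variable (T)

/-- norms are onto the fixed field -/
theorem exists_norm [Finite F] {r : F} (hr : T.σ r = r) : ∃ x, x * T.σ x = r := by
  rcases eq_or_ne r 0 with rfl | hr0
  · exact ⟨0, by simp⟩
  let s : Fˣ →* Fˣ := Units.map T.σ.toMonoidHom
  let N : Fˣ →* Fˣ := MonoidHom.id Fˣ * s
  let M : Fˣ →* Fˣ := MonoidHom.id Fˣ / s
  have hs : ∀ u : Fˣ, ((s u : Fˣ) : F) = T.σ u := fun u => rfl
  have hle : N.range ≤ M.ker := by
    rintro _ ⟨u, rfl⟩
    rw [MonoidHom.mem_ker]
    refine Units.ext ?_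
    simp [N, M, hs, T.σσ, Units.val_div_eq_div_val]
    field_simp
  have hker : N.ker ≤ M.range := by
    intro l hl
    rw [MonoidHom.mem_ker] at hl
    have hl' : (l : F) * T.σ l = 1 := by simpa [N, hs] using congrArg Units.val hl
    obtain ⟨c, hc⟩ : ∃ c : F, c + (l : F) * T.σ c ≠ 0 := by
      obtain ⟨c, hc⟩ := T.σ_ne
      by_cases h1 : (1 : F) + l * T.σ 1 = 0
      · refine ⟨c, fun h => hc ?_⟩
        rw [map_one] at h1
        linear_combination -h + T.σ c * h1
      · exact ⟨1, h1⟩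
    refine ⟨Units.mk0 _ hc, Units.ext ?_⟩
    have : T.σ (c + l * T.σ c) = T.σ l * (c + l * T.σ c) := by
      rw [map_add, map_mul, T.σσ]; linear_combination -(T.σ c) * hl'
    simp [M, hs, Units.val_div_eq_div_val, this]
    rw [eq_comm, eq_div_iff (mul_ne_zero (T.σ_ne_zero.2 l.ne_zero) hc)]
    linear_combination (c + l * T.σ c) * hl'
  have hcard : Nat.card M.ker ≤ Nat.card N.range := by
    have h1 := N.ker.card_mul_index
    have h2 := M.ker.card_mul_index
    rw [Subgroup.index_ker] at h1 h2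
    have h3 : Nat.card N.ker ≤ Nat.card M.range := Subgroup.card_le_of_le hker
    have h4 : Nat.card M.range ≠ 0 := Nat.card_pos.ne'
    refine Nat.le_of_mul_le_mul_left ?_ (Nat.pos_of_ne_zero h4)
    calc Nat.card M.range * Nat.card M.ker = Nat.card Fˣ := by rw [mul_comm, h2]
      _ = Nat.card N.ker * Nat.card N.range := h1.symm
      _ ≤ Nat.card M.range * Nat.card N.range := Nat.mul_le_mul_right _ h3
  obtain ⟨x, hx⟩ : Units.mk0 r hr0 ∈ N.range := by
    rw [Subgroup.eq_of_le_of_card_ge hle hcard, MonoidHom.mem_ker]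
    refine Units.ext ?_
    simp [M, hs, Units.val_div_eq_div_val, hr, hr0]
  exact ⟨x, by simpa [N, hs] using congrArg Units.val hx⟩

theorem blk_mul_cen {i : ι} {y : R} (hy : T.Cen i y) (u v : A) (x : R) :
    T.blk i u v (x * y) = T.blk i u v x * y := by
  rw [blk, blk, Finset.sum_mul]
  exact Finset.sum_congr rfl fun l _ => by simp only [mul_assoc]; rw [hy]

theorem blk_mul_E {i : ι} {e : A} (he : e ≠ 0) (u v p q : A) (x : R) :
    T.blk i u v (x * T.E i p q) = T.f v q • T.blk i u p x := by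
  refine sub_eq_zero.1 (T.E_mul_cancel he he ((T.cen_blk _ _ _ _).sub ((T.cen_blk i u p x).smul _)) ?_)
  rw [mul_sub, sub_eq_zero, mul_smul_comm, T.E_blk, T.E_blk, mul_assoc, mul_assoc x, T.mul, mul_smul_comm,
    mul_smul_comm, mul_assoc]

theorem blk_E_left {i : ι} {e : A} (he : e ≠ 0) (u v p q : A) (x : R) :
    T.blk i u v (T.E i p q * x) = T.f p u • T.blk i q v x := by
  refine sub_eq_zero.1 (T.E_mul_cancel he he ((T.cen_blk _ _ _ _).sub ((T.cen_blk i q v x).smul _)) ?_)
  rw [mul_sub, sub_eq_zero, mul_smul_comm, T.E_blk, T.E_blk, ← mul_assoc, T.mul, smul_mul_assoc, smul_mul_assoc]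

theorem eq_zero_of_phi_mul [Nontrivial R] {i : ι} {x y : R} (hx : x ∈ T.phi i) (hx0 : x ≠ 0) (hy : T.Cen i y)
    (h : x * y = 0) : y = 0 := by
  obtain ⟨u, v, huv⟩ : ∃ u v, T.blk i u v x ≠ 0 := by
    by_contra hc
    simp only [not_exists, not_not] at hc
    exact hx0 (T.eq_zero_of_blk i hc)
  obtain ⟨s, hs⟩ := T.blk_phi hx u v
  have h1 := T.blk_mul_cen hy u v x
  rw [h, T.blk_zero, hs, smul_mul_assoc, one_mul, eq_comm] at h1
  exact (smul_eq_zero.1 h1).resolve_left fun h0 => huv (by rw [hs, h0, zero_smul])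

theorem blk_sum_left {α : Type*} (S : Finset α) (i : ι) (c : α → F) (w : α → A) (v : A) (x : R) :
    T.blk i (∑ a ∈ S, c a • w a) v x = ∑ a ∈ S, T.σ (c a) • T.blk i (w a) v x := by
  simp only [blk, map_sum, map_smulₛₗ, Finset.sum_mul, smul_mul_assoc, Finset.smul_sum]
  exact Finset.sum_comm

theorem blk_sum_right {α : Type*} (S : Finset α) (i : ι) (c : α → F) (u : A) (w : α → A) (x : R) :
    T.blk i u (∑ a ∈ S, c a • w a) x = ∑ a ∈ S, c a • T.blk i u (w a) x := by
  simp only [blk, map_sum, map_smul, LinearMap.sum_apply, LinearMap.smul_apply, Finset.mul_sum, mul_smul_comm,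
    Finset.smul_sum]
  exact Finset.sum_comm

/-- the operators are the sesquilinear maps into the centraliser of a factor -/
theorem card_eq_pow [Finite R] (i : ι) :
    Nat.card R = Nat.card {y : R // T.Cen i y} ^ (Module.finrank F A * Module.finrank F A) := by
  classical
  haveI : Module.Finite F A := ⟨⟨Finset.univ.image T.b, eq_top_iff.2 fun y _ => by
    rw [← T.dual y]
    exact Submodule.sum_mem _ fun l _ => Submodule.smul_mem _ _ (Submodule.subset_span (by simp))⟩⟩
  let β := Module.finBasis F A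
  obtain ⟨w, hw⟩ : ∃ w : Fin (Module.finrank F A) → A, ∀ a y, T.f y (w a) = β.coord a y := by
    refine ⟨fun a => ∑ l, T.σ (β.coord a (T.b l)) • T.b' l, fun a y => ?_⟩
    conv_rhs => rw [← T.dual y]
    rw [map_sum, map_sum]
    refine Finset.sum_congr rfl fun l _ => ?_
    rw [map_smulₛₗ, T.σσ, map_smul, smul_eq_mul, smul_eq_mul, mul_comm]
  have hβw : ∀ a c, T.f (β a) (w c) = if a = c then 1 else 0 := fun a c => by
    rw [hw, Module.Basis.coord_apply, β.repr_self, Finsupp.single_apply]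
  have hexp : ∀ v : A, ∑ a, T.f v (w a) • β a = v := fun v => by
    simpa [hw] using β.sum_repr v
  have hexp' : ∀ u : A, ∑ a, T.f u (β a) • w a = u := fun u => by
    refine sub_eq_zero.1 (T.eq_zero_of_perp fun y => T.perp_symm ?_)
    rw [map_sub, sub_eq_zero, map_sum]
    conv_rhs => rw [← hexp y]
    rw [map_sum, LinearMap.coe_sum, Finset.sum_apply]
    refine Finset.sum_congr rfl fun a _ => ?_
    rw [map_smulₛₗ, T.herm, map_smul, LinearMap.smul_apply, smul_eq_mul, smul_eq_mul, mul_comm]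
  have hlin : ∀ (g : Fin (Module.finrank F A) → R) (u v : A), T.blk i u v (∑ a, g a) = ∑ a, T.blk i u v (g a) :=
    fun g u v => by
      simp only [blk, Finset.mul_sum, Finset.sum_mul]
      rw [Finset.sum_comm]
  have hbij : Function.Bijective fun x : R => fun a c => (⟨T.blk i (w a) (β c) x, T.cen_blk _ _ _ _⟩ :
      {y : R // T.Cen i y}) := by
    refine ⟨fun x y hxy => ?_, fun M => ⟨∑ a, ∑ c, T.E i (β a) (w c) * (M a c).1, ?_⟩⟩
    · refine sub_eq_zero.1 (T.eq_zero_of_blk i fun u v => ?_)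
      rw [← hexp' u, T.blk_sum_left]
      refine Finset.sum_eq_zero fun a _ => ?_
      rw [← hexp v, T.blk_sum_right, Finset.sum_eq_zero fun c _ => ?_, smul_zero]
      have := congrArg Subtype.val (congrFun (congrFun hxy a) c)
      dsimp only at this
      rw [T.blk_sub, this, sub_self, smul_zero]
    · funext a' c'
      refine Subtype.ext ?_
      show T.blk i (w a') (β c') _ = _
      rw [hlin, Finset.sum_eq_single a' (fun a _ ha => ?_) (by simp)]
      · rw [hlin, Finset.sum_eq_single c' (fun c _ hc => ?_) (by simp)]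
        · rw [T.blk_E_mul (M a' c').2, hβw, hβw, if_pos rfl, if_pos rfl, one_mul, one_smul]
        · rw [T.blk_E_mul (M a' c).2, hβw c', if_neg (Ne.symm hc), mul_zero, zero_smul]
      · rw [hlin]
        exact Finset.sum_eq_zero fun c _ => by rw [T.blk_E_mul (M a c).2, hβw, if_neg ha, zero_mul, zero_smul]
  rw [Nat.card_congr (Equiv.ofBijective _ hbij), Nat.card_fun, Nat.card_fun, Nat.card_fin, ← pow_mul]

theorem card_cen_eq [Finite R] [Nontrivial R] (i j : ι) {e : A} (he : e ≠ 0) :
    Nat.card {y : R // T.Cen i y} = Nat.card {y : R // T.Cen j y} := by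
  classical
  haveI : Module.Finite F A := ⟨⟨Finset.univ.image T.b, eq_top_iff.2 fun y _ => by
    rw [← T.dual y]
    exact Submodule.sum_mem _ fun l _ => Submodule.smul_mem _ _ (Submodule.subset_span (by simp))⟩⟩
  haveI : Nontrivial A := ⟨e, 0, he⟩
  have h0 : Module.finrank F A ≠ 0 := (Module.finrank_pos).ne'
  exact Nat.pow_left_injective (mul_ne_zero h0 h0) ((T.card_eq_pow i).symm.trans (T.card_eq_pow j))

/-- a skew operator of the factor with square zero and rank one -/
theorem pure_of_minors [Nontrivial R] {i : ι} {x : R} (s : A → A → F) (hs : ∀ u v, T.blk i u v x = s u v • 1)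
    (hx0 : x ≠ 0) (hsq : x * x = 0) (had : T.ad x = -x)
    (hmin : ∀ p q p' q', s p q * s p' q' - s p q' * s p' q = 0) : IsPure T x := by
  have inj : ∀ a b : F, a • (1 : R) = b • 1 → a = b := fun a b h => smul_left_injective F one_ne_zero h
  obtain ⟨u₀, v₀, h0⟩ : ∃ u₀ v₀, s u₀ v₀ ≠ 0 := by
    by_contra h
    simp only [not_exists, not_not] at h
    exact hx0 (T.eq_zero_of_blk i fun u v => by rw [hs, h, zero_smul])
  obtain ⟨p, hp⟩ : ∃ p, p = ∑ l, s (T.b' l) v₀ • T.b l := ⟨_, rfl⟩
  obtain ⟨q, hq⟩ : ∃ q, q = ∑ l, T.σ (s u₀ (T.b l)) • T.b' l := ⟨_, rfl⟩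
  have hpu : ∀ u, T.f p u = s u v₀ := fun u => inj _ _ (by
    rw [← hs, hp, map_sum, LinearMap.sum_apply, Finset.sum_smul]
    conv_rhs => rw [← T.dual' u, T.blk_sum_left]
    refine Finset.sum_congr rfl fun l _ => ?_
    rw [hs, T.herm, smul_smul, map_smul, LinearMap.smul_apply, smul_eq_mul, mul_comm])
  have hqv : ∀ v, T.f v q = s u₀ v := fun v => inj _ _ (by
    rw [← hs, hq, map_sum, Finset.sum_smul]
    conv_rhs => rw [← T.dual v, T.blk_sum_right]
    refine Finset.sum_congr rfl fun l _ => ?_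
    rw [hs, smul_smul, map_smulₛₗ, T.σσ, smul_eq_mul, mul_comm])
  obtain ⟨μ, hμ⟩ : ∃ μ, μ = (s u₀ v₀)⁻¹ := ⟨_, rfl⟩
  have hμ0 : μ ≠ 0 := hμ ▸ inv_ne_zero h0
  have hx : x = μ • T.E i p q := by
    refine sub_eq_zero.1 (T.eq_zero_of_blk i fun u v => ?_)
    rw [T.blk_sub, T.blk_smul, ← mul_one (T.E i p q), T.blk_E_mul (T.cen_one i), hs, hpu, hqv, smul_smul, ← sub_smul]
    refine (congrArg (· • (1 : R)) ?_).trans (zero_smul F 1)
    rw [hμ]
    field_simp
    linear_combination hmin u₀ v₀ u v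
  have hp0 : p ≠ 0 := fun h => h0 (by rw [← hpu, h]; simp)
  obtain ⟨u, hu⟩ := T.exists_f_eq_one hp0
  obtain ⟨d, hd⟩ : ∃ d, d = -(T.σ μ * μ⁻¹ * T.f q u) := ⟨_, rfl⟩
  have hqp : q = T.σ d • p := by
    refine sub_eq_zero.1 (T.eq_zero_of_perp fun v => T.perp_symm ?_)
    rw [map_sub, map_smulₛₗ, T.σσ, sub_eq_zero, smul_eq_mul]
    refine inj _ _ ?_
    have h := congrArg (T.blk i u v) had
    rw [hx, T.ad_smul, T.ad_E, ← neg_smul, T.blk_smul, T.blk_smul, ← mul_one (T.E i q p), ← mul_one (T.E i p q),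
      T.blk_E_mul (T.cen_one i), T.blk_E_mul (T.cen_one i), hu, one_mul, smul_smul, smul_smul] at h
    have h' := inj _ _ h
    refine congrArg (· • (1 : R)) ?_
    rw [hd]
    field_simp
    linear_combination h'
  have hxa : x = (μ * d) • T.E i p p := by rw [hx, hqp, map_smulₛₗ, T.σσ, smul_smul]
  have hd0 : μ * d ≠ 0 := fun h => hx0 (by rw [hxa, h, zero_smul])
  refine ⟨i, p, hp0, ?_, μ * d, hd0, ?_, hxa⟩
  · rw [hxa, smul_mul_smul, T.mul, smul_smul] at hsq
    exact (mul_eq_zero.1 ((smul_eq_zero.1 hsq).resolve_right (T.E_ne_zero i hp0 hp0))).resolve_left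
      (mul_ne_zero hd0 hd0)
  · rw [hxa, T.ad_smul, T.ad_E, ← neg_smul] at had
    exact smul_left_injective F (T.E_ne_zero i hp0 hp0) had

end Sys

/-- a root in one factor is a root element of it -/
theorem Grp.pure_of_phi [Finite R] [Nontrivial R] (G : Grp T H) {i : ι} {x : R}
    (hx : IsRoot T H x) (hphi : x ∈ T.phi i) : IsPure T x := by
  classical
  choose s hs' using T.blk_phi hphi (i := i)
  obtain ⟨g, hg, y, ⟨j, e, he, -, a, ha, -, rfl⟩, hxg⟩ := id hx
  refine T.pure_of_minors s hs' hx.ne_zero hx.sq (hx.ad G) fun p q p' q' => ?_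
  by_contra hΔ
  -- two dimensions over the centraliser
  let f2 : {y : R // T.Cen i y} × {y : R // T.Cen i y} → Set.range (fun y : R => x * y * x) := fun c =>
    ⟨_, T.E i q p * c.1.1 + T.E i q' p' * c.2.1, rfl⟩
  have hsand : ∀ (u v b c : A) (z : R), T.Cen i z →
      T.E i e u * (x * (T.E i b c * z) * x) * T.E i v e = (s u b * s c v) • (T.E i e e * z) := by
    intro u v b c z hz
    calc T.E i e u * (x * (T.E i b c * z) * x) * T.E i v e
        = (T.E i e u * x * T.E i b c) * z * (x * T.E i v e) := by simp only [mul_assoc]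
      _ = s u b • (z * (T.E i e c * x * T.E i v e)) := by
          rw [← T.E_blk, hs', mul_smul_comm, mul_one, smul_mul_assoc, smul_mul_assoc, ← hz]
          simp only [mul_assoc]
      _ = (s u b * s c v) • (T.E i e e * z) := by
          rw [← T.E_blk, hs', mul_smul_comm, mul_one, mul_smul_comm, hz, smul_smul]
  have hf2 : Function.Injective f2 := by
    rintro ⟨c, c'⟩ ⟨d, d'⟩ h
    have hc := c.2.sub d.2
    have hc' := c'.2.sub d'.2
    have h0 : x * (T.E i q p * (c.1 - d.1)) * x + x * (T.E i q' p' * (c'.1 - d'.1)) * x = 0 := by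
      have := congrArg Subtype.val h
      simp only [f2] at this
      simp only [mul_sub, sub_mul, mul_add, add_mul] at this ⊢
      rw [sub_add_sub_comm, this, sub_self]
    have eq : ∀ u v, (s u q * s p v) • (c.1 - d.1) + (s u q' * s p' v) • (c'.1 - d'.1) = 0 := by
      intro u v
      refine T.E_mul_cancel he he ((hc.smul _).add (hc'.smul _)) ?_
      rw [mul_add, mul_smul_comm, mul_smul_comm, ← hsand u v q p _ hc, ← hsand u v q' p' _ hc', ← add_mul,
        ← mul_add, h0, mul_zero, zero_mul]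
    have zero : ∀ (z : R) (r r' : F), r ≠ 0 ∨ r' ≠ 0 →
        ((s p q * s p' q' - s p q' * s p' q) * r) • z = 0 →
        ((s p q * s p' q' - s p q' * s p' q) * r') • z = 0 → z = 0 := by
      intro z r r' hr h1 h1'
      rcases hr with hr | hr
      · exact (smul_eq_zero.1 h1).resolve_left (mul_ne_zero hΔ hr)
      · exact (smul_eq_zero.1 h1').resolve_left (mul_ne_zero hΔ hr)
    have k1 : ∀ v, ((s p q * s p' q' - s p q' * s p' q) * s p v) • (c.1 - d.1) = 0 := fun v => by
      linear_combination (norm := module) s p' q' • eq p v - s p q' • eq p' v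
    have k2 : ∀ v, ((s p q * s p' q' - s p q' * s p' q) * s p' v) • (c'.1 - d'.1) = 0 := fun v => by
      linear_combination (norm := module) s p q • eq p' v - s p' q • eq p v
    have e1 := zero _ (s p q) (s p q') (by
      by_contra hc0
      simp only [not_or, not_not] at hc0
      exact hΔ (by rw [hc0.1, hc0.2]; ring)) (k1 q) (k1 q')
    have e2 := zero _ (s p' q) (s p' q') (by
      by_contra hc0
      simp only [not_or, not_not] at hc0
      exact hΔ (by rw [hc0.1, hc0.2]; ring)) (k2 q) (k2 q')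
    exact Prod.ext (Subtype.ext (sub_eq_zero.1 e1)) (Subtype.ext (sub_eq_zero.1 e2))
  -- one dimension
  let f1 : {y : R // T.Cen j y} → R := fun c => (g : R) * (T.E j e e * c.1) * (↑g⁻¹ : R)
  have hf1 : Set.range (fun y : R => x * y * x) ⊆ Set.range f1 := by
    rintro _ ⟨y, rfl⟩
    refine ⟨⟨(a * a) • T.blk j e e ((↑g⁻¹ : R) * y * (g : R)), (T.cen_blk _ _ _ _).smul _⟩, ?_⟩
    show (g : R) * (T.E j e e * _) * (↑g⁻¹ : R) = x * y * x
    rw [mul_smul_comm, T.E_blk, hxg]
    simp only [mul_assoc, mul_smul_comm, smul_mul_assoc, smul_smul]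
  have hle : Nat.card {y : R // T.Cen i y} * Nat.card {y : R // T.Cen i y} ≤ Nat.card {y : R // T.Cen i y} := by
    rw [← Nat.card_prod]
    refine (Nat.card_le_card_of_injective f2 hf2).trans ?_
    rw [T.card_cen_eq i j he]
    exact (Nat.card_mono (Set.toFinite _) hf1).trans (Finite.card_range_le f1)
  haveI : Nontrivial {y : R // T.Cen i y} := ⟨⟨0, T.cen_zero i⟩, ⟨1, T.cen_one i⟩, fun h =>
    zero_ne_one (congrArg Subtype.val h)⟩
  have h1 := Finite.one_lt_card (α := {y : R // T.Cen i y})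
  nlinarith

end CfsgLib.MaxSub.SuPow
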