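import Cfsg.Agent.Lib.MaxSub.SuPow.Rank

/-!
Tensor powers of a Hermitian space: a member carrying a root element of one factor to a root element of another
carries the whole factor into the other; a group all roots of which are root elements of factors permutes them.
-/

set_option autoImplicit false
set_option linter.unusedSectionVars false

namespace CfsgLib.MaxSub.SuPow

open CfsgLib.MaxSub.SpPow (InH inv_one_add)

variable {F A R ι κ : Type*} [Field F] [AddCommGroup A] [Module F A] [Ring R] [Algebra F R] [Fintype κ]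
variable {T : Sys F A R ι κ} {H : Subgroup Rˣ}

namespace Sys

variable (T)

/-- the double centraliser -/
theorem phi_of_comm_cen {i : ι} {x : R} (h : ∀ y, T.Cen i y → x * y = y * x) : x ∈ T.phi i := by
  refine T.mem_phi_of_blk fun u v => T.scal _ fun l a b => ?_
  rcases eq_or_ne l i with rfl | hl
  · exact T.cen_blk l u v x a b
  · exact T.cen_blk_other hl u v (fun a b => h _ (T.cen_E hl.symm a b)) a b

variable {T}

/-- the centraliser of the root group and the short root elements -/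
theorem Hyp.cen_of_comm {i : ι} {e f₀ : A} (h : T.Hyp e f₀) {x : R}
    (hn : x * T.E i e e = T.E i e e * x)
    (hve : ∀ v, T.f v e = 0 → T.f v f₀ = 0 → x * T.E i v e = T.E i v e * x)
    (hev : ∀ v, T.f v e = 0 → T.f v f₀ = 0 → x * T.E i e v = T.E i e v * x) :
    ∃ α β, T.Cen i α ∧ T.Cen i β ∧ x = α + T.E i e e * β := by
  obtain ⟨α, hα⟩ : ∃ α, α = T.blk i f₀ e x := ⟨_, rfl⟩
  obtain ⟨β, hβ⟩ : ∃ β, β = T.blk i f₀ f₀ x := ⟨_, rfl⟩
  have hαc : T.Cen i α := hα ▸ T.cen_blk _ _ _ _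
  have hβc : T.Cen i β := hβ ▸ T.cen_blk _ _ _ _
  obtain ⟨D, hD⟩ : ∃ D, D = x - α - T.E i e e * β := ⟨_, rfl⟩
  have hcomm : ∀ {y : R}, y ∈ T.phi i → x * y = y * x → y * T.E i e e = T.E i e e * y → D * y = y * D := by
    intro y hy h1 h2
    rw [hD, sub_mul, sub_mul, mul_sub, mul_sub, h1, T.phi_comm_cen hy hαc, mul_assoc, T.phi_comm_cen hy hβc,
      ← mul_assoc, ← h2, mul_assoc]
  have b1 : T.blk i f₀ e D = 0 := by
    rw [hD, T.blk_sub, T.blk_sub, T.blk_cen hαc, T.blk_E_mul hβc, h.ef, h.ee, one_smul, ← hα]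
    simp
  have b2 : T.blk i f₀ f₀ D = 0 := by
    rw [hD, T.blk_sub, T.blk_sub, T.blk_cen hαc, T.blk_E_mul hβc, h.ff, h.ef, h.fe, ← hβ]
    simp
  have dn : D * T.E i e e = T.E i e e * D := hcomm (T.E_mem_phi i e e) hn rfl
  have e1 : T.E i e f₀ * D * T.E i e e = 0 := by rw [← T.E_blk, b1, mul_zero]
  have nD : T.E i e e * D = 0 := by
    rw [← e1, mul_assoc, dn, ← mul_assoc, T.mul, h.ef, one_smul]
  have Dn : D * T.E i e e = 0 := dn.trans nD
  have Dp := h.kill_right Dn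
  have qD := h.kill_left nD
  have Dr : D * T.rI i e f₀ = 0 := by
    rw [T.rI_eq_sum h, Finset.mul_sum]
    refine Finset.sum_eq_zero fun l _ => ?_
    obtain ⟨v, hv⟩ : ∃ v, v = T.proj e f₀ (T.b l) := ⟨_, rfl⟩
    have h1 : T.f v e = 0 := hv ▸ h.proj_e _
    have h2 : T.f v f₀ = 0 := hv ▸ h.proj_f _
    have hc := hcomm (T.E_mem_phi i v e) (hve v h1 h2) (by rw [T.mul, T.mul, h1, h.ee, zero_smul, zero_smul])
    have hq : T.E i v e = T.E i v e * T.qI i e f₀ := by rw [T.E_qI, h.fe, one_smul]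
    have hsplit : T.E i (T.proj e f₀ (T.b l)) (T.proj e f₀ (T.b' l)) =
        T.E i v e * T.E i f₀ (T.proj e f₀ (T.b' l)) := by rw [T.mul, h.fe, one_smul, hv]
    rw [hsplit, ← mul_assoc, hc, hq, mul_assoc (T.E i v e), qD, mul_zero, zero_mul]
  have rD : T.rI i e f₀ * D = 0 := by
    rw [T.rI_eq_sum h, Finset.sum_mul]
    refine Finset.sum_eq_zero fun l _ => ?_
    obtain ⟨v, hv⟩ : ∃ v, v = T.proj e f₀ (T.b' l) := ⟨_, rfl⟩
    have h1 : T.f v e = 0 := hv ▸ h.proj_e _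
    have h2 : T.f v f₀ = 0 := hv ▸ h.proj_f _
    have hc := hcomm (T.E_mem_phi i e v) (hev v h1 h2)
      (by rw [T.mul, T.mul, T.perp_symm h1, h.ee, zero_smul, zero_smul])
    have hp : T.E i e v = T.pI i e f₀ * T.E i e v := by rw [T.pI_E, h.ef, one_smul]
    have hsplit : T.E i (T.proj e f₀ (T.b l)) (T.proj e f₀ (T.b' l)) =
        T.E i (T.proj e f₀ (T.b l)) f₀ * T.E i e v := by rw [T.mul, h.ef, one_smul, hv]
    rw [hsplit, mul_assoc, ← hc, hp, ← mul_assoc D, Dp, zero_mul, mul_zero]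
  have hD0 : D = 0 := by
    calc D = (T.pI i e f₀ + T.qI i e f₀ + T.rI i e f₀) * D * (T.pI i e f₀ + T.qI i e f₀ + T.rI i e f₀) := by
          rw [T.sum_pqr, one_mul, mul_one]
      _ = T.pI i e f₀ * D * T.qI i e f₀ := by
          simp only [add_mul, mul_add, qD, rD, zero_mul, mul_assoc _ D (T.pI i e f₀), Dp,
            mul_assoc _ D (T.rI i e f₀), Dr, mul_zero, add_zero, zero_add]
      _ = 0 := by rw [Sys.pI, Sys.qI, ← T.E_blk, b2, mul_zero]
  exact ⟨α, β, hαc, hβc, by rw [← sub_eq_zero, ← sub_sub, ← hD, hD0]⟩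

theorem IsPure.of_mem_phi [Nontrivial R] {i : ι} {x : R} (h : IsPure T x) (hx : x ∈ T.phi i) :
    ∃ e, e ≠ 0 ∧ T.f e e = 0 ∧ ∃ a : F, a ≠ 0 ∧ T.σ a = -a ∧ x = a • T.E i e e := by
  obtain ⟨j, e, he, hee, a, ha, hσ, rfl⟩ := h
  rcases eq_or_ne j i with rfl | hji
  · exact ⟨e, he, hee, a, ha, hσ, rfl⟩
  · obtain ⟨f₀, hf⟩ := T.exists_hyp he hee
    have := (T.cen_of_phi_ne hji hx).smul a⁻¹
    rw [inv_smul_smul₀ ha] at this
    exact absurd this (T.not_cen_E hf)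

theorem exists_norm_ne_one [Finite F] (h4 : 4 < Nat.card F) : ∃ l : F, l ≠ 0 ∧ T.σ l * l ≠ 1 := by
  classical
  haveI := Fintype.ofFinite F
  by_contra h
  simp only [not_exists, not_and, not_not] at h
  let P : Polynomial F := Polynomial.X ^ 2 + Polynomial.X + 1
  have hroot : ∀ x : F, x ≠ 0 → x ≠ -1 → x ∈ P.roots.toFinset := by
    intro x h0 h1
    have h1' : x + 1 ≠ 0 := fun e => h1 (eq_neg_of_add_eq_zero_left e)
    have a := h x h0
    have b := h (x + 1) h1'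
    rw [map_add, map_one] at b
    have hP : P ≠ 0 := fun e => by simpa [P] using congrArg (fun p : Polynomial F => p.eval 0) e
    rw [Multiset.mem_toFinset, Polynomial.mem_roots hP]
    simp only [P, Polynomial.IsRoot.def, Polynomial.eval_add, Polynomial.eval_pow, Polynomial.eval_X,
      Polynomial.eval_one]
    linear_combination x * b - (x + 1) * a
  have hsub : (Finset.univ : Finset F) ⊆ {0, -1} ∪ P.roots.toFinset := fun x _ => by
    by_cases h0 : x = 0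
    · simp [h0]
    by_cases h1 : x = -1
    · simp [h1]
    exact Finset.mem_union_right _ (hroot x h0 h1)
  have hd : P.natDegree ≤ 2 := by simp only [P]; compute_degree
  have := (Finset.card_le_card hsub).trans (Finset.card_union_le _ _)
  have h2 := (Multiset.toFinset_card_le P.roots).trans (P.card_roots'.trans hd)
  have h3 : ({0, -1} : Finset F).card ≤ 2 := Finset.card_le_two
  rw [Finset.card_univ, ← Nat.card_eq_fintype_card] at this
  omega

/-- without isotropic vectors the complement of a pair is a line -/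
theorem Hyp.rI_eq_line [Finite F] [Nontrivial R] {e f₀ : A} (h : T.Hyp e f₀)
    (hno : ∀ w, T.f w w = 0 → T.f w e = 0 → T.f w f₀ = 0 → w = 0) {u : A} (hue : T.f u e = 0)
    (huf : T.f u f₀ = 0) (huu : T.f u u ≠ 0) (i : ι) : T.rI i e f₀ = (T.f u u)⁻¹ • T.E i u u := by
  have hline : ∀ w, T.f w e = 0 → T.f w f₀ = 0 → ∃ c : F, w = c • u := by
    intro w hwe hwf
    obtain ⟨w', hw'⟩ : ∃ w', w' = w - (T.f w u / T.f u u) • u := ⟨_, rfl⟩
    have h1 : T.f w' u = 0 := by simp [hw', huu]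
    have he' : T.f w' e = 0 := by simp [hw', hwe, hue]
    have hf' : T.f w' f₀ = 0 := by simp [hw', hwf, huf]
    by_cases h0 : T.f w' w' = 0
    · refine ⟨T.f w u / T.f u u, sub_eq_zero.1 ?_⟩
      rw [← hw']; exact hno _ h0 he' hf'
    exfalso
    obtain ⟨t, ht⟩ := T.exists_norm (r := -(T.f w' w' / T.f u u)) (by rw [map_neg, map_div₀, T.σ_self, T.σ_self])
    have e0 : w' + t • u = 0 := hno _ (by
      simp only [map_add, map_smulₛₗ, LinearMap.add_apply, LinearMap.smul_apply, RingHom.id_apply, smul_eq_mul,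
        h1, T.perp_symm h1, mul_zero, add_zero, zero_add]
      field_simp at ht
      linear_combination ht) (by simp [he', hue]) (by simp [hf', huf])
    have e1 := congrArg (fun x => T.f x w') e0
    simp [T.perp_symm h1] at e1
    exact h0 e1
  choose c hc using fun l => hline _ (h.proj_e (T.b l)) (h.proj_f (T.b l))
  choose d hd using fun l => hline _ (h.proj_e (T.b' l)) (h.proj_f (T.b' l))
  obtain ⟨S, hS⟩ : ∃ S : F, T.rI i e f₀ = S • T.E i u u := by
    refine ⟨∑ l, c l * T.σ (d l), ?_⟩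
    rw [T.rI_eq_sum h, Finset.sum_smul]
    exact Finset.sum_congr rfl fun l _ => by
      rw [hc, hd, map_smul (T.E i), LinearMap.smul_apply, map_smulₛₗ, smul_smul]
  have hu0 : u ≠ 0 := fun e0 => huu (by simp [e0])
  have h1 : T.rI i e f₀ * T.E i u u = T.E i u u := by rw [T.rI_E, Sys.proj_of_perp hue huf]
  rw [hS, smul_mul_assoc, T.mul, smul_smul] at h1
  have h2 : (S * T.f u u) • T.E i u u = (1 : F) • T.E i u u := by rw [h1, one_smul]
  rw [hS, eq_inv_of_mul_eq_one_left (smul_left_injective F (T.E_ne_zero i hu0 hu0) h2)]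

end Sys

/-- conjugation by `g` carries the factor `i` into the factor `j` -/
def Carries (T : Sys F A R ι κ) (g : Rˣ) (i j : ι) : Prop :=
  ∀ y ∈ T.phi i, (g : R) * y * (↑g⁻¹ : R) ∈ T.phi j

/-- some permutation of the factors is induced by conjugation -/
def Permutes (T : Sys F A R ι κ) (g : Rˣ) : Prop :=
  ∃ s : Equiv.Perm ι, ∀ l u v, (g : R) * T.E l u v * (↑g⁻¹ : R) ∈ T.phi (s l)

variable [Nontrivial R] {g : Rˣ} {i j : ι} {e e' : A}

/-- the pullback of an operator commuting with the target factor -/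
theorem Sys.comm_of_phi {w z : R} (hw : (g : R) * w * (↑g⁻¹ : R) ∈ T.phi j) (hz : T.Cen j z) :
    (↑g⁻¹ : R) * z * (g : R) * w = w * ((↑g⁻¹ : R) * z * (g : R)) := by
  have h := congrArg (fun t => (↑g⁻¹ : R) * t * (g : R)) (T.phi_comm_cen hw hz)
  simpa [mul_assoc] using h

/-- the operators of the factor commuting with the root element go to the target factor -/
theorem Grp.psi (G : Grp T H) (Z : Ctr T H) (hg : g ∈ H) (he : e ≠ 0) (hee : T.f e e = 0) (he' : e' ≠ 0)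
    (hee' : T.f e' e' = 0) {c : F} (hc : c ≠ 0) (hgn : (g : R) * T.E i e e * (↑g⁻¹ : R) = c • T.E j e' e') :
    (∀ y ∈ T.phi i, y * T.E i e e = T.E i e e * y → (g : R) * y * (↑g⁻¹ : R) ∈ T.phi j) ∧
      ∀ f₀, T.Hyp e f₀ → ((g : R) * T.pI i e f₀ * (↑g⁻¹ : R) ∈ T.phi j) → Carries T g i j := by
  obtain ⟨f', hf'⟩ := T.exists_hyp he' hee'
  let P : Submodule F R :=
    { carrier := {w | (g : R) * w * (↑g⁻¹ : R) ∈ T.phi j}
      add_mem' := fun {a b} ha hb => by
        show (g : R) * (a + b) * (↑g⁻¹ : R) ∈ T.phi j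
        rw [mul_add, add_mul]; exact add_mem ha hb
      zero_mem' := by simp
      smul_mem' := fun a b hb => by
        show (g : R) * (a • b) * (↑g⁻¹ : R) ∈ T.phi j
        rw [mul_smul_comm, smul_mul_assoc]; exact (T.phi j).smul_mem a hb }
  have hn : T.E i e e ∈ P := by
    show _ ∈ T.phi j
    rw [hgn]; exact (T.phi j).smul_mem c (T.E_mem_phi j e' e')
  have hD : ∀ v, T.f v e = 0 → T.E i v e - T.E i e v ∈ P := by
    intro v hve
    obtain ⟨d, hd⟩ := T.exists_trace (r := -T.f v v) (by rw [map_neg, T.σ_self])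
    have hz : InH H (1 + (g : R) * T.sh i e v d * (↑g⁻¹ : R)) := by
      convert (G.short i e v d hee hve hd).conj hg using 1
      rw [mul_add, mul_one, add_mul, Units.mul_inv]
    have hu := (Sys.upN_sh (i := i) hee hve d).conj g
    rw [hgn] at hu
    have hu' := hu.smul_base (inv_ne_zero hc)
    rw [inv_smul_smul₀ hc] at hu'
    obtain ⟨v', d', -, -, -, hvd⟩ := G.radical Z hf' hu' hz
    have hs : T.sh i e v d ∈ P := by
      show _ ∈ T.phi j
      rw [hvd]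
      exact add_mem (sub_mem (T.E_mem_phi j _ _) (T.E_mem_phi j _ _)) ((T.phi j).smul_mem _ (T.E_mem_phi j _ _))
    rw [show T.E i v e - T.E i e v = T.sh i e v d - d • T.E i e e by rw [Sys.sh, add_sub_cancel_right]]
    exact sub_mem hs (P.smul_mem d hn)
  have hve : ∀ v, T.f v e = 0 → T.E i v e ∈ P ∧ T.E i e v ∈ P := by
    intro v hve
    obtain ⟨θ, hθ⟩ := T.σ_ne
    have h1 : T.E i v e ∈ P := by
      have e1 : T.E i (θ • v) e - T.E i e (θ • v) - T.σ θ • (T.E i v e - T.E i e v) = (θ - T.σ θ) • T.E i v e := by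
        rw [map_smul, LinearMap.smul_apply, map_smulₛₗ]
        module
      have := sub_mem (hD (θ • v) (by simp [hve])) (P.smul_mem (T.σ θ) (hD v hve))
      rw [e1] at this
      simpa [smul_smul, inv_mul_cancel₀ (sub_ne_zero.2 (Ne.symm hθ))] using
        P.smul_mem (θ - T.σ θ)⁻¹ this
    exact ⟨h1, by simpa using sub_mem h1 (hD v hve)⟩
  obtain ⟨f₁, hf₁⟩ := T.exists_hyp he hee
  have hcen : ∀ f₀, T.Hyp e f₀ → ∀ z, T.Cen j z →
      ∃ α β, T.Cen i α ∧ T.Cen i β ∧ (↑g⁻¹ : R) * z * (g : R) = α + T.E i e e * β := fun f₀ h z hz =>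
    h.cen_of_comm (Sys.comm_of_phi hn hz) (fun v h1 _ => Sys.comm_of_phi (hve v h1).1 hz)
      fun v h1 _ => Sys.comm_of_phi (hve v h1).2 hz
  have back : ∀ y z : R, (↑g⁻¹ : R) * z * (g : R) * y = y * ((↑g⁻¹ : R) * z * (g : R)) →
      (g : R) * y * (↑g⁻¹ : R) * z = z * ((g : R) * y * (↑g⁻¹ : R)) := fun y z h => by
    have := congrArg (fun t => (g : R) * t * (↑g⁻¹ : R)) h
    simpa [mul_assoc] using this.symm
  refine ⟨fun y hy hyn => T.phi_of_comm_cen fun z hz => back y z ?_, fun f₀ h hp y hy =>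
    T.phi_of_comm_cen fun z hz => back y z ?_⟩
  · obtain ⟨α, β, hα, hβ, e1⟩ := hcen f₁ hf₁ z hz
    rw [e1, add_mul, mul_add, T.phi_comm_cen hy hα, mul_assoc, T.phi_comm_cen hy hβ, ← mul_assoc, ← hyn, mul_assoc]
  · obtain ⟨α, β, hα, hβ, e1⟩ := hcen f₀ h z hz
    have h1 := Sys.comm_of_phi hp hz
    have np : T.E i e e * T.pI i e f₀ = 0 := by rw [T.E_pI, h.ee, zero_smul]
    rw [e1, add_mul, mul_add, T.phi_comm_cen (T.pI_mem_phi i) hα, mul_assoc,
      T.phi_comm_cen (T.pI_mem_phi i) hβ, ← mul_assoc, np, zero_mul, add_zero, ← mul_assoc, h.pI_mul_n,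
      left_eq_add] at h1
    rw [e1, h1, add_zero, T.phi_comm_cen hy hα]

/-- a pair with an isotropic vector orthogonal to it -/
theorem Grp.carries_of_iso [Finite R] (G : Grp T H) (Z : Ctr T H) (hg : g ∈ H) {f₀ : A} (h : T.Hyp e f₀)
    (he' : e' ≠ 0) (hee' : T.f e' e' = 0) {c : F} (hc : c ≠ 0)
    (hgn : (g : R) * T.E i e e * (↑g⁻¹ : R) = c • T.E j e' e') {w : A} (hw : w ≠ 0) (hww : T.f w w = 0)
    (hwe : T.f w e = 0) (hwf : T.f w f₀ = 0) : Carries T g i j := by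
  obtain ⟨hpsi, hup⟩ := G.psi Z hg h.left_ne h.ee he' hee' hc hgn
  obtain ⟨a, ha, hσ⟩ := T.exists_skew
  have hm := hpsi _ ((T.phi i).smul_mem a (T.E_mem_phi i w w)) (by
    simp [T.mul, hwe, T.perp_symm hwe])
  have hr : IsRoot T H ((g : R) * (a • T.E i w w) * (↑g⁻¹ : R)) :=
    (IsPure.isRoot ⟨i, w, hw, hww, a, ha, hσ, rfl⟩).conj hg
  obtain ⟨w', hw', hww', b, hb, -, hgw⟩ := Sys.IsPure.of_mem_phi (G.pure_of_phi hr hm) hm
  rw [mul_smul_comm, smul_mul_assoc, ← eq_inv_smul_iff₀ ha, smul_smul] at hgw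
  refine hup f₀ h ((G.psi Z hg hw hww hw' hww' (mul_ne_zero (inv_ne_zero ha) hb) hgw).1 _
    (T.pI_mem_phi i) ?_)
  rw [T.pI_E, T.E_pI, hwf, T.perp_symm hwe, zero_smul, zero_smul]

/-- two pairs with anisotropic lines orthogonal to them -/
theorem Grp.carries_of_line [Finite F] (G : Grp T H) (Z : Ctr T H) (h4 : 4 < Nat.card F) (hg : g ∈ H)
    {f₀ f' u u' : A} (h : T.Hyp e f₀) (h' : T.Hyp e' f') {c : F} (hc : c ≠ 0)
    (hgn : (g : R) * T.E i e e * (↑g⁻¹ : R) = c • T.E j e' e') (hue : T.f u e = 0) (huf : T.f u f₀ = 0)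
    (huu : T.f u u ≠ 0) (hu'e : T.f u' e' = 0) (hu'f : T.f u' f' = 0) (hu'u : T.f u' u' ≠ 0)
    (hr : T.rI i e f₀ = (T.f u u)⁻¹ • T.E i u u) (hr' : T.rI j e' f' = (T.f u' u')⁻¹ • T.E j u' u') :
    Carries T g i j := by
  obtain ⟨hpsi, hup⟩ := G.psi Z hg h.left_ne h.ee h'.left_ne h'.ee hc hgn
  obtain ⟨l, hl, hl1⟩ := T.exists_norm_ne_one h4
  obtain ⟨n', hn'⟩ : ∃ n', n' = T.E j e' e' := ⟨_, rfl⟩
  rw [← hn'] at hgn
  obtain ⟨K, hK⟩ : ∃ K : R → R, K = fun y => (g : R) * y * (↑g⁻¹ : R) := ⟨_, rfl⟩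
  have hKm : ∀ a b, K (a * b) = K a * K b := fun a b => by simp [hK, mul_assoc]
  have hKn : K (T.E i e e) = c • n' := by rw [hK]; exact hgn
  have hK0 : K 0 = 0 := by simp [hK]
  have ep : T.pI i e f₀ = T.E i e e * T.E i f₀ f₀ := by rw [T.mul, h.fe, one_smul]; rfl
  have eq' : T.qI i e f₀ = T.E i f₀ f₀ * T.E i e e := by rw [T.mul, h.ef, one_smul]; rfl
  obtain ⟨dp, hdp⟩ : ∃ dp, dp = K (T.pI i e f₀) - T.pI j e' f' := ⟨_, rfl⟩
  obtain ⟨dq, hdq⟩ : ∃ dq, dq = K (T.qI i e f₀) - T.qI j e' f' := ⟨_, rfl⟩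
  have hcancel : ∀ a b : R, c • a = c • b → a = b := fun a b hab => smul_right_injective R hc hab
  have k1 : K (T.pI i e f₀) * n' = n' := hcancel _ _ (by
    rw [← mul_smul_comm, ← hKn, ← hKm, h.pI_mul_n])
  have k2 : n' * K (T.pI i e f₀) = 0 := hcancel _ _ (by
    rw [← smul_mul_assoc, ← hKn, ← hKm, T.E_pI, h.ee, zero_smul, hK0, smul_zero])
  have k3 : K (T.qI i e f₀) * n' = 0 := hcancel _ _ (by
    rw [← mul_smul_comm, ← hKn, ← hKm, T.qI_E, h.ee, zero_smul, hK0, smul_zero])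
  have k4 : n' * K (T.qI i e f₀) = n' := hcancel _ _ (by
    rw [← smul_mul_assoc, ← hKn, ← hKm, h.n_mul_qI])
  have udp : UpN n' dp := by
    refine ⟨?_, ?_, fun y _ => ⟨c • K (T.E i f₀ f₀) * y - T.E j f' f' * y, ?_⟩⟩
    · rw [hdp, sub_mul, k1, hn', h'.pI_mul_n, sub_self]
    · rw [hdp, mul_sub, k2, hn', T.E_pI, h'.ee, zero_smul, sub_zero]
    · rw [hdp, sub_mul, ep, hKm, hKn, mul_sub, ← mul_assoc n', ← mul_assoc n', mul_smul_comm, smul_mul_assoc, hn',
        T.mul, h'.fe, one_smul]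
      rfl
  have udq : UpN n' dq := by
    refine ⟨?_, ?_, fun y hy => ⟨0, ?_⟩⟩
    · rw [hdq, sub_mul, k3, hn', T.qI_E, h'.ee, zero_smul, sub_zero]
    · rw [hdq, mul_sub, k4, hn', h'.n_mul_qI, sub_self]
    · rw [hdq, sub_mul, eq', hKm, hKn, mul_smul_comm, smul_mul_assoc, mul_assoc, hy, hn',
        h'.kill_left (hn' ▸ hy), mul_zero, smul_zero, sub_zero, mul_zero]
  obtain ⟨m, hm⟩ : ∃ m, m = (T.σ l)⁻¹ := ⟨_, rfl⟩
  obtain ⟨r, hr0⟩ : ∃ r, r = T.σ l * l⁻¹ := ⟨_, rfl⟩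
  have etau : ∀ (k : ι) (a b w : A), T.rI k a b = (T.f w w)⁻¹ • T.E k w w →
      T.tau k a b w l = r • 1 + (l - r) • T.pI k a b + (m - r) • T.qI k a b := by
    intro k a b w hk
    rw [Sys.tau, ← hr0, ← hm, ← smul_smul, ← hk, Sys.rI]
    module
  obtain ⟨t, ht, htv⟩ := G.tor i e f₀ u h hue huf huu l hl
  obtain ⟨t', ht', ht'v⟩ := G.tor j e' f' u' h' hu'e hu'f hu'u l hl
  obtain ⟨Z₀, hZ0⟩ : ∃ Z₀, Z₀ = (l - r) • dp + (m - r) • dq := ⟨_, rfl⟩
  have hX : ((g * t * g⁻¹ : Rˣ) : R) = (t' : R) + Z₀ := by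
    rw [Units.val_mul, Units.val_mul, htv, ht'v, etau i e f₀ u hr, etau j e' f' u' hr', hZ0, hdp, hdq, hK]
    simp only [mul_add, add_mul, mul_smul_comm, smul_mul_assoc, mul_one, Units.mul_inv]
    module
  have hti : (↑t'⁻¹ : R) = T.ad (t' : R) := G.inv_eq ht'
  have tn : (t' : R) * n' = l • n' := by
    rw [ht'v, Sys.tau, hn']
    simp [add_mul, sub_mul, smul_mul_assoc, h'.pI_mul_n, T.qI_E, h'.ee, T.mul, T.perp_symm hu'e, sub_smul]
  have nt : n' * (t' : R) = m • n' := by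
    rw [ht'v, Sys.tau, hn']
    simp [mul_add, mul_sub, mul_smul_comm, h'.n_mul_qI, T.E_pI, h'.ee, T.mul, hu'e, sub_smul, hm]
  have adn : T.ad n' = n' := by rw [hn', T.ad_E]
  have tn' : (↑t'⁻¹ : R) * n' = T.σ m • n' := by
    rw [hti, ← adn, ← T.ad_mul, nt, T.ad_smul]
  have nt' : n' * (↑t'⁻¹ : R) = T.σ l • n' := by
    rw [hti, ← adn, ← T.ad_mul, tn, T.ad_smul]
  have uW : UpN n' ((↑t'⁻¹ : R) * Z₀) := by
    refine ⟨?_, ?_, fun y hy => ?_⟩
    · rw [mul_assoc, hZ0, add_mul, smul_mul_assoc, smul_mul_assoc, udp.right, udq.right]; simp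
    · rw [← mul_assoc, nt', smul_mul_assoc, hZ0, mul_add, mul_smul_comm, mul_smul_comm, udp.left, udq.left]; simp
    · obtain ⟨w1, h1⟩ := udp.mid y hy
      obtain ⟨w2, h2⟩ := udq.mid y hy
      refine ⟨T.σ m • ((l - r) • w1 + (m - r) • w2), ?_⟩
      rw [hZ0, mul_assoc, add_mul, smul_mul_assoc, smul_mul_assoc, h1, h2, ← mul_smul_comm, ← mul_smul_comm, ← mul_add,
        ← mul_assoc, tn', smul_mul_assoc, mul_smul_comm]
  have hin : InH H (1 + (↑t'⁻¹ : R) * Z₀) := ⟨t'⁻¹ * (g * t * g⁻¹),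
    mul_mem (inv_mem ht') (mul_mem (mul_mem hg ht) (inv_mem hg)), by
      rw [Units.val_mul, hX, mul_add, Units.inv_mul]⟩
  obtain ⟨v', d', -, -, -, hvd⟩ := G.radical Z h' (hn' ▸ uW) hin
  have hZm : Z₀ ∈ T.phi j := by
    have e1 : Z₀ = (t' : R) * ((↑t'⁻¹ : R) * Z₀) := by rw [Units.mul_inv_cancel_left]
    rw [e1, hvd, ht'v]
    exact T.mul_mem_phi (T.tau_mem_phi j e' f' u' l)
      (add_mem (sub_mem (T.E_mem_phi j _ _) (T.E_mem_phi j _ _)) ((T.phi j).smul_mem _ (T.E_mem_phi j _ _)))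
  have hR0 : K (T.rI i e f₀) ∈ T.phi j := by
    rw [hK]
    exact hpsi _ (T.rI_mem_phi i) (by rw [h.rI_mul_n, h.n_mul_rI])
  have hsum : dp + dq ∈ T.phi j := by
    have : dp + dq = T.rI j e' f' - K (T.rI i e f₀) := by
      rw [hdp, hdq, hK, Sys.rI, Sys.rI]
      simp only [mul_sub, sub_mul, mul_one, Units.mul_inv]
      abel
    rw [this]
    exact sub_mem (T.rI_mem_phi j) hR0
  have hlm : l - m ≠ 0 := sub_ne_zero.2 fun e1 => hl1 (by
    conv_lhs => arg 2; rw [e1, hm]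
    exact mul_inv_cancel₀ (T.σ_ne_zero.2 hl))
  refine hup f₀ h ?_
  have hP : (l - m) • dp ∈ T.phi j := by
    have : (l - m) • dp = Z₀ - (m - r) • (dp + dq) := by rw [hZ0]; module
    rw [this]
    exact sub_mem hZm ((T.phi j).smul_mem _ hsum)
  have := (T.phi j).smul_mem (l - m)⁻¹ hP
  rw [inv_smul_smul₀ hlm, hdp] at this
  have := add_mem this (T.pI_mem_phi (e := e') (f₀ := f') j)
  rw [sub_add_cancel, hK] at this
  exact this

/-- **a member carrying one root element to another carries the factor** -/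
theorem Grp.stab [Finite F] [Finite R] (G : Grp T H) (Z : Ctr T H) (hw : T.Wide) (hk : T.Big ∨ 4 < Nat.card F)
    (hg : g ∈ H) (he : e ≠ 0) (hee : T.f e e = 0) (he' : e' ≠ 0) (hee' : T.f e' e' = 0) {c : F} (hc : c ≠ 0)
    (hgn : (g : R) * T.E i e e * (↑g⁻¹ : R) = c • T.E j e' e') : Carries T g i j := by
  classical
  obtain ⟨f₀, h⟩ := T.exists_hyp he hee
  obtain ⟨f', h'⟩ := T.exists_hyp he' hee'
  rcases hk with hB | h4
  · obtain ⟨w, h0, hww, hwe, hwf⟩ := hB e f₀ h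
    exact G.carries_of_iso Z hg h he' hee' hc hgn h0 hww hwe hwf
  by_cases hA : ∃ w, w ≠ 0 ∧ T.f w w = 0 ∧ T.f w e = 0 ∧ T.f w f₀ = 0
  · obtain ⟨w, h0, hww, hwe, hwf⟩ := hA
    exact G.carries_of_iso Z hg h he' hee' hc hgn h0 hww hwe hwf
  by_cases hA' : ∃ w, w ≠ 0 ∧ T.f w w = 0 ∧ T.f w e' = 0 ∧ T.f w f' = 0
  · obtain ⟨w, h0, hww, hwe, hwf⟩ := hA'
    have hgn' : (↑g⁻¹ : R) * T.E j e' e' * (↑g⁻¹⁻¹ : R) = c⁻¹ • T.E i e e := by
      rw [eq_inv_smul_iff₀ hc, inv_inv, ← smul_mul_assoc, ← mul_smul_comm, ← hgn]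
      simp [mul_assoc]
    have hback := G.carries_of_iso Z (inv_mem hg) h' he hee (inv_ne_zero hc) hgn' h0 hww hwe hwf
    -- the centralisers have equal size
    let f : {y : R // T.Cen i y} → {y : R // T.Cen j y} := fun y => ⟨(g : R) * y.1 * (↑g⁻¹ : R), fun a b => by
      have h1 := hback _ (T.E_mem_phi j a b)
      rw [inv_inv] at h1
      have h2 := congrArg (fun t => (g : R) * t * (↑g⁻¹ : R)) (T.phi_comm_cen h1 y.2)
      simpa [mul_assoc] using h2⟩
    haveI : Finite {y : R // T.Cen i y} := Subtype.finite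
    have hinj : Function.Injective f := fun a b hab => Subtype.ext (by
      simpa [f] using congrArg Subtype.val hab)
    have hsurj : Function.Surjective f :=
      (hinj.bijective_of_nat_card_le (T.card_cen_eq j i he).le).2
    intro y hy
    refine T.phi_of_comm_cen fun z hz => ?_
    obtain ⟨⟨z', hz'⟩, hzz⟩ := hsurj ⟨z, hz⟩
    have hzz' : (g : R) * z' * (↑g⁻¹ : R) = z := congrArg Subtype.val hzz
    rw [← hzz']
    have := congrArg (fun t => (g : R) * t * (↑g⁻¹ : R)) (T.phi_comm_cen hy hz')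
    simpa [mul_assoc] using this.symm
  obtain ⟨u, hue, huf, huu⟩ := T.exists_aniso_perp hw h
  obtain ⟨u', hu'e, hu'f, hu'u⟩ := T.exists_aniso_perp hw h'
  refine G.carries_of_line Z h4 hg h h' hc hgn hue huf huu hu'e hu'f hu'u
    (h.rI_eq_line (fun w h1 h2 h3 => ?_) hue huf huu i) (h'.rI_eq_line (fun w h1 h2 h3 => ?_) hu'e hu'f hu'u j)
  · exact Classical.byContradiction fun h0 => hA ⟨w, h0, h1, h2, h3⟩
  · exact Classical.byContradiction fun h0 => hA' ⟨w, h0, h1, h2, h3⟩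

/-- a group all roots of which are root elements of factors permutes the factors -/
theorem Grp.permutes [Finite F] [Finite R] [Fintype ι] (G : Grp T H) (Z : Ctr T H) (hw : T.Wide)
    (hk : T.Big ∨ 4 < Nat.card F) (hall : ∀ d, IsRoot T H d → IsPure T d) {e₀ : A} (he₀ : e₀ ≠ 0)
    (hee₀ : T.f e₀ e₀ = 0) (hg : g ∈ H) : Permutes T g := by
  obtain ⟨a, ha, hσ⟩ := T.exists_skew
  have step : ∀ l, ∃ m, Carries T g l m ∧ Carries T g⁻¹ m l := by
    intro l
    obtain ⟨m, e', he', hee', b, hb, -, hgn⟩ := hall _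
      ((IsPure.isRoot (H := H) ⟨l, e₀, he₀, hee₀, a, ha, hσ, rfl⟩).conj hg)
    rw [mul_smul_comm, smul_mul_assoc, ← eq_inv_smul_iff₀ ha, smul_smul] at hgn
    have hc := mul_ne_zero (inv_ne_zero ha) hb
    refine ⟨m, G.stab Z hw hk hg he₀ hee₀ he' hee' hc hgn,
      G.stab Z hw hk (inv_mem hg) he' hee' he₀ hee₀ (inv_ne_zero hc) ?_⟩
    rw [eq_inv_smul_iff₀ hc, inv_inv, ← smul_mul_assoc, ← mul_smul_comm, ← hgn]
    simp [mul_assoc]
  choose s hs hs' using step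
  have hinj : Function.Injective s := by
    intro l l' hll
    by_contra hne
    obtain ⟨f₀, hf⟩ := T.exists_hyp he₀ hee₀
    have h1 := hs' l _ (hll ▸ hs l' _ (T.E_mem_phi l' e₀ e₀))
    rw [inv_inv] at h1
    simp only [mul_assoc, Units.inv_mul, mul_one, Units.inv_mul_cancel_left] at h1
    exact T.not_cen_E hf (T.cen_of_phi_ne (Ne.symm hne) h1)
  exact ⟨Equiv.ofBijective s (Finite.injective_iff_bijective.1 hinj), fun l u v => hs l _ (T.E_mem_phi l u v)⟩

end CfsgLib.MaxSub.SuPow
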