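import Cfsg.Agent.Lib.MaxSub.SuPow.Commute

/-!
Tensor powers of a Hermitian space: the operators have no non-zero nilpotent ideal; an involution moving a factor
into another one, one more than a root, fixes the diagonal pieces, and the factors are then three-dimensional.
-/

set_option autoImplicit false
set_option linter.unusedSectionVars false

namespace CfsgLib.MaxSub.SuPow

open CfsgLib.MaxSub.SpPow (InH inv_one_add)

variable {F A R ι κ : Type*} [Field F] [AddCommGroup A] [Module F A] [Ring R] [Algebra F R] [Fintype κ]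
variable {T : Sys F A R ι κ} {H : Subgroup Rˣ}

/-- the operators are semiprime -/
theorem Sys.exists_sandwich_ne [Fintype ι] [Nontrivial R] (T : Sys F A R ι κ) {a : R} (ha : a ≠ 0) :
    ∃ y, a * y * a ≠ 0 := by
  classical
  suffices key : ∀ (S : Finset ι) (a : R), a ≠ 0 → (∀ l ∉ S, T.Cen l a) →
      ∃ y, (∀ l ∉ S, T.Cen l y) ∧ a * y * a ≠ 0 by
    obtain ⟨y, -, hy⟩ := key Finset.univ a ha fun l hl => absurd (Finset.mem_univ l) hl
    exact ⟨y, hy⟩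
  intro S
  induction S using Finset.induction_on with
  | empty =>
    intro a ha hcen
    obtain ⟨c, hc⟩ := T.scal a fun l u v => hcen l (Finset.notMem_empty l) u v
    refine ⟨1, fun l _ => T.cen_one l, fun h => ha ?_⟩
    rw [hc, mul_one, smul_mul_smul, one_mul, smul_eq_zero, or_iff_left one_ne_zero, mul_self_eq_zero] at h
    rw [hc, h, zero_smul]
  | insert l S hl ih =>
    intro a ha hcen
    obtain ⟨u, v, hb⟩ : ∃ u v, T.blk l u v a ≠ 0 := by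
      by_contra h
      simp only [not_exists, not_not] at h
      exact ha (T.eq_zero_of_blk l h)
    obtain ⟨y₀, hy₀, hne⟩ := ih _ hb fun m hm => by
      rcases eq_or_ne m l with rfl | hml
      · exact T.cen_blk _ _ _ _
      · exact T.cen_blk_other hml u v (hcen m fun h => (Finset.mem_insert.1 h).elim hml hm)
    have hv : v ≠ 0 := by
      rintro rfl
      simp [Sys.blk] at hb
    obtain ⟨w, hw⟩ := T.exists_f_eq_one hv
    refine ⟨T.E l v w * y₀ * T.E l v u, fun m hm => ?_, fun h => ?_⟩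
    · rw [Finset.mem_insert, not_or] at hm
      exact ((T.cen_E hm.1 _ _).mul (hy₀ m hm.2)).mul (T.cen_E hm.1 _ _)
    · have hy0 := hy₀ l hl
      have hB := T.cen_blk l u v a
      have e1 : T.E l v u * (a * (T.E l v w * y₀ * T.E l v u) * a) * T.E l v v =
          T.E l v v * (T.blk l u v a * y₀ * T.blk l u v a) := by
        calc T.E l v u * (a * (T.E l v w * y₀ * T.E l v u) * a) * T.E l v v
            = (T.E l v u * a * T.E l v w) * y₀ * (T.E l v u * a * T.E l v v) := by simp only [mul_assoc]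
          _ = T.E l v w * (T.blk l u v a * y₀) * (T.E l v v * T.blk l u v a) := by
              rw [← T.E_blk, ← T.E_blk]; simp only [mul_assoc]
          _ = _ := by
              rw [mul_assoc (T.E l v w), ← mul_assoc _ (T.E l v v), hB.mul hy0, mul_assoc (T.E l v v), ← mul_assoc,
                T.mul, hw, one_smul]
      rw [h, mul_zero, zero_mul] at e1
      exact hne (T.E_mul_cancel hv hv ((hB.mul hy0).mul hB) e1.symm)

variable [Fintype ι] [Finite R] [Nontrivial R] {g : Rˣ} {x : R} {i j : ι}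

/-- an involution `1 + x`, `x` a root, moving the factor `i` into `j` -/
theorem Grp.swap_pieces (G : Grp T H) (hw : T.Wide) (hx : IsRoot T H x) (hgx : (g : R) = 1 + x)
    (hgg : (g : R) * g = 1) (hij : i ≠ j) (hcar : Carries T g i j) {e f₀ : A} (h : T.Hyp e f₀) :
    ((g : R) * (T.pI i e f₀ * ((g : R) * T.pI i e f₀ * g)) = T.pI i e f₀ * ((g : R) * T.pI i e f₀ * g)) ∧
      ∀ w, w ≠ 0 → T.f w w = 0 → T.f w e = 0 → T.f w f₀ = 0 → False := by
  classical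
  obtain ⟨u, hue, huf, huu⟩ := T.exists_aniso_perp hw h
  have hgi : (↑g⁻¹ : R) = g := Units.inv_eq_of_mul_eq_one_right hgg
  obtain ⟨K, hK⟩ : ∃ K : R → R, K = fun y => (g : R) * y * g := ⟨_, rfl⟩
  have hKm : ∀ a b, K a * K b = K (a * b) := fun a b => by
    simp only [hK, mul_assoc]
    rw [← mul_assoc (g : R) g, hgg, one_mul]
  have hKK : ∀ a, K (K a) = a := fun a => by
    simp only [hK, mul_assoc, hgg, mul_one]
    rw [← mul_assoc, hgg, one_mul]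
  have hKj : ∀ y ∈ T.phi i, K y ∈ T.phi j := fun y hy => by
    have := hcar y hy
    rw [hgi] at this
    rw [hK]; exact this
  have hK0 : K 0 = 0 := by simp [hK]
  have hK1 : ∀ y, K (1 - y) = 1 - K y := fun y => by simp [hK, mul_sub, sub_mul, hgg]
  have hswap : ∀ y ∈ T.phi i, ∀ z ∈ T.phi i, K z * y = y * K z := fun y hy z hz =>
    T.phi_comm_cen hy (T.cen_of_phi_ne hij (hKj z hz))
  have hmul : ∀ y ∈ T.phi i, ∀ z ∈ T.phi i, ∀ y' ∈ T.phi i, ∀ z', (y * K z) * (y' * K z') = y * y' * K (z * z') := by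
    intro y _ z hz y' hy' z'
    rw [mul_assoc y, ← mul_assoc (K z), hswap y' hy' z hz, mul_assoc y', hKm, mul_assoc]
  have hKp : ∀ y ∈ T.phi i, ∀ z ∈ T.phi i, K (y * K z) = z * K y := fun y hy z hz => by
    rw [← hKm, hKK, hswap z hz y hy]
  have hgz : ∀ z, (g : R) * z = K z * g := fun z => by simp only [hK, mul_assoc, hgg, mul_one]
  -- the operators of the factor
  obtain ⟨P, hP⟩ : ∃ P, P = T.pI i e f₀ := ⟨_, rfl⟩
  obtain ⟨P₁, hP₁⟩ : ∃ P, P = T.qI i e f₀ := ⟨_, rfl⟩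
  obtain ⟨P₂, hP₂⟩ : ∃ P, P = (T.f u u)⁻¹ • T.E i u u := ⟨_, rfl⟩
  obtain ⟨P', hP'⟩ : ∃ P', P' = 1 - P := ⟨_, rfl⟩
  obtain ⟨a, ha⟩ : ∃ a, a = T.E i e e := ⟨_, rfl⟩
  obtain ⟨b, hb⟩ : ∃ b, b = T.E i f₀ f₀ := ⟨_, rfl⟩
  obtain ⟨c, hc⟩ : ∃ c, c = T.E i e u := ⟨_, rfl⟩
  obtain ⟨d, hd⟩ : ∃ d, d = (T.f u u)⁻¹ • T.E i u f₀ := ⟨_, rfl⟩
  have mP : P ∈ T.phi i := hP ▸ T.pI_mem_phi i
  have mP₁ : P₁ ∈ T.phi i := hP₁ ▸ T.qI_mem_phi i
  have mP₂ : P₂ ∈ T.phi i := hP₂ ▸ (T.phi i).smul_mem _ (T.E_mem_phi i u u)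
  have mP' : P' ∈ T.phi i := hP' ▸ sub_mem (T.one_mem_phi i) mP
  have ma : a ∈ T.phi i := ha ▸ T.E_mem_phi i e e
  have mb : b ∈ T.phi i := hb ▸ T.E_mem_phi i f₀ f₀
  have mc : c ∈ T.phi i := hc ▸ T.E_mem_phi i e u
  have md : d ∈ T.phi i := hd ▸ (T.phi i).smul_mem _ (T.E_mem_phi i u f₀)
  have PP : P * P = P := hP ▸ h.pI_mul_self i
  have PP₁ : P * P₁ = 0 := by rw [hP, hP₁]; exact h.pI_mul_qI i
  have P₁P : P₁ * P = 0 := by rw [hP, hP₁]; exact h.qI_mul_pI i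
  have PP₂ : P * P₂ = 0 := by rw [hP, hP₂, mul_smul_comm, T.pI_E, huf]; simp
  have P₂P : P₂ * P = 0 := by rw [hP, hP₂, smul_mul_assoc, T.E_pI, T.perp_symm hue]; simp
  have P₁P₂ : P₁ * P₂ = 0 := by rw [hP₁, hP₂, mul_smul_comm, T.qI_E, hue]; simp
  have PP' : P * P' = 0 := by rw [hP', mul_sub, mul_one, PP, sub_self]
  have P'P : P' * P = 0 := by rw [hP', sub_mul, one_mul, PP, sub_self]
  have P'P' : P' * P' = P' := by
    conv_lhs => arg 2; rw [hP']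
    rw [mul_sub, mul_one, P'P, sub_zero]
  have P₁P' : P₁ * P' = P₁ := by rw [hP', mul_sub, mul_one, P₁P, sub_zero]
  have ab : a * b = P := by rw [ha, hb, hP, T.mul, h.fe, one_smul]; rfl
  have ba : b * a = P₁ := by rw [ha, hb, hP₁, T.mul, h.ef, one_smul]; rfl
  have Pa : P * a = a := by rw [hP, ha, h.pI_mul_n]
  have aP : a * P = 0 := by rw [hP, ha, T.E_pI, h.ee, zero_smul]
  have Pb : P * b = 0 := by rw [hP, hb, T.pI_E, h.ff, zero_smul]
  have bP : b * P = b := by rw [hP, hb, T.E_pI, h.ef, one_smul]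
  have P₁b : P₁ * b = b := by rw [hP₁, hb, T.qI_E, h.fe, one_smul]
  have cd : c * d = P := by
    rw [hc, hd, hP, mul_smul_comm, T.mul, smul_smul, inv_mul_cancel₀ huu, one_smul]; rfl
  have dc : d * c = P₂ := by rw [hc, hd, hP₂, smul_mul_assoc, T.mul, h.ef, one_smul]
  have Pc : P * c = c := by rw [hP, hc, T.pI_E, h.ef, one_smul]
  have dP : d * P = d := by rw [hP, hd, smul_mul_assoc, T.E_pI, h.ef, one_smul]
  have P'c : P' * c = 0 := by rw [hP', sub_mul, one_mul, Pc, sub_self]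
  have dP' : d * P' = 0 := by rw [hP', mul_sub, mul_one, dP, sub_self]
  -- the pieces
  obtain ⟨ε, hε⟩ : ∃ ε, ε = P * K P' + P₁ * K P₂ := ⟨_, rfl⟩
  obtain ⟨U, hU⟩ : ∃ U, U = P * K P' + a * K c := ⟨_, rfl⟩
  obtain ⟨V, hV⟩ : ∃ V, V = P * K P' + b * K d := ⟨_, rfl⟩
  have hUV : U * V = P := by
    rw [hU, hV, add_mul, mul_add, mul_add, hmul P mP P' mP' P mP P', hmul P mP P' mP' b mb d,
      hmul a ma c mc P mP P', hmul a ma c mc b mb d, PP, P'P', Pb, aP, ab, cd, zero_mul, zero_mul, add_zero, zero_add,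
      ← mul_add, hP', hK1, sub_add_cancel, mul_one]
  have hVU : V * U = ε := by
    rw [hU, hV, hε, add_mul, mul_add, mul_add, hmul P mP P' mP' P mP P', hmul P mP P' mP' a ma c,
      hmul b mb d md P mP P', hmul b mb d md a ma c, PP, P'P', Pa, P'c, bP, dP', ba, dc, hK0, mul_zero, mul_zero,
      add_zero, zero_add]
  have hPin : ∀ y, P * (P * y) = P * y := fun y => by rw [← mul_assoc, PP]
  have hVP : V * P = V := by
    rw [hV, add_mul, mul_assoc P, hswap P mP P' mP', hPin, mul_assoc b, hswap P mP d md, ← mul_assoc b, bP]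
  have hPU : P * U = U := by rw [hU, mul_add, hPin, ← mul_assoc P a, Pa]
  have hεε : ε * ε = ε := by
    rw [← hVU, show V * U * (V * U) = V * (U * V) * U by simp only [mul_assoc], hUV, hVP]
  have hεg : ε * (g : R) * ε = 0 := by
    rw [mul_assoc, hgz, ← mul_assoc, hε]
    have e1 : (P * K P' + P₁ * K P₂) * K (P * K P' + P₁ * K P₂) = 0 := by
      have e2 : K (P * K P' + P₁ * K P₂) = P' * K P + P₂ * K P₁ := by
        rw [← hKp P mP P' mP', ← hKp P₁ mP₁ P₂ mP₂]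
        simp [hK, mul_add, add_mul]
      rw [e2, add_mul, mul_add, mul_add, hmul P mP P' mP' P' mP' P, hmul P mP P' mP' P₂ mP₂ P₁,
        hmul P₁ mP₁ P₂ mP₂ P' mP' P, hmul P₁ mP₁ P₂ mP₂ P₂ mP₂ P₁, PP', PP₂, P₂P, P₁P₂, hK0]
      simp
    rw [e1, zero_mul]
  have hx' : x = (g : R) - 1 := by rw [hgx, add_sub_cancel_left]
  have hεx : ε * x * ε = -ε := by rw [hx', mul_sub, mul_one, sub_mul, hεg, hεε, zero_sub]
  -- the sandwiches
  let f : {y : R // T.Cen i y} → Set.range (fun y : R => x * y * x) := fun y =>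
    ⟨_, V * (P * y.1) * U, rfl⟩
  have hback : ∀ y : {y : R // T.Cen i y}, ε * (x * (V * (P * y.1) * U) * x) * ε = V * (P * y.1) * U := by
    intro y
    have e1 : ε * V = V := by rw [← hVU, mul_assoc, hUV, hVP]
    have e2 : U * ε = U := by rw [← hVU, ← mul_assoc, hUV, hPU]
    have e3 : V * (P * y.1) * U = ε * (V * (P * y.1) * U) * ε := by
      rw [← mul_assoc ε, ← mul_assoc ε, e1, mul_assoc (V * _), e2]
    calc ε * (x * (V * (P * y.1) * U) * x) * ε = (ε * x * ε) * (V * (P * y.1) * U) * (ε * x * ε) := by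
          conv_lhs => rw [e3]
          simp only [mul_assoc]
      _ = V * (P * y.1) * U := by
          rw [hεx, neg_mul, mul_neg, neg_mul, neg_neg, ← e3]
  have hinj : Function.Injective f := fun y y' hyy => by
    have h1 := congrArg (fun t : Set.range _ => U * (ε * t.1 * ε) * V) hyy
    simp only [f, hback] at h1
    have e1 : ∀ z, T.Cen i z → U * (V * (P * z) * U) * V = P * z := fun z hz => by
      calc U * (V * (P * z) * U) * V = (U * V) * (P * z) * (U * V) := by simp only [mul_assoc]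
        _ = P * z := by rw [hUV, hPin, mul_assoc, T.phi_comm_cen mP hz, hPin]
    rw [e1 _ y.2, e1 _ y'.2, ← sub_eq_zero, ← mul_sub] at h1
    exact Subtype.ext (sub_eq_zero.1
      (T.E_mul_cancel h.left_ne h.right_ne (y.2.sub y'.2) (by rwa [hP] at h1)))
  have hbij := hinj.bijective_of_nat_card_le (hx.card_sandwich i h.left_ne)
  have hkey : ∀ Y, ε * (x * Y * x) * ε = 0 → x * Y * x = 0 := by
    intro Y hY
    obtain ⟨y, hy⟩ := hbij.2 ⟨x * Y * x, Y, rfl⟩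
    have hy' : x * (V * (P * y.1) * U) * x = x * Y * x := congrArg Subtype.val hy
    have h0 := hback y
    rw [hy', hY] at h0
    rw [← hy', ← h0, mul_zero, zero_mul]
  -- the diagonal piece
  obtain ⟨π, hπ⟩ : ∃ π, π = P * K P := ⟨_, rfl⟩
  have επ : ε * π = 0 := by
    rw [hε, hπ, add_mul, hmul P mP P' mP' P mP P, hmul P₁ mP₁ P₂ mP₂ P mP P, P'P, P₁P, hK0]; simp
  have πε : π * ε = 0 := by
    rw [hε, hπ, mul_add, hmul P mP P mP P mP P', hmul P mP P mP P₁ mP₁ P₂, PP', PP₁, hK0]; simp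
  have gπ : (g : R) * π = π * g := by rw [hgz, hπ, hKp P mP P mP]
  have xπ : x * π = π * x := by rw [hx', sub_mul, mul_sub, gπ, one_mul, mul_one]
  have hπx : π * x = 0 := by
    by_contra hne
    obtain ⟨y, hy⟩ := T.exists_sandwich_ne hne
    refine hy ?_
    have e1 : x * (π * y * π) * x = 0 := hkey _ (by
      calc ε * (x * (π * y * π) * x) * ε = ε * (x * π) * y * (π * x * ε) := by simp only [mul_assoc]
        _ = 0 := by rw [xπ, ← mul_assoc ε, επ, zero_mul, zero_mul, zero_mul])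
    calc π * x * y * (π * x) = x * (π * y * π) * x := by
          conv_lhs => arg 1; arg 1; rw [← xπ]
          simp only [mul_assoc]
      _ = 0 := e1
  refine ⟨?_, fun w hw0 hww hwe hwf => ?_⟩
  · have e1 : (g : R) * π = π := by rw [gπ, hgx, mul_add, mul_one, hπx, add_zero]
    simpa [hπ, hP, hK] using e1
  -- a further piece
  obtain ⟨w₁, hw₁⟩ := T.exists_f_eq_one hw0
  obtain ⟨v, hv⟩ : ∃ v, v = T.proj e f₀ w₁ := ⟨_, rfl⟩
  have hve : T.f v e = 0 := hv ▸ h.proj_e w₁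
  have hvf : T.f v f₀ = 0 := hv ▸ h.proj_f w₁
  have hwv : T.f w v = 1 := by rw [hv, T.proj_apply]; simp [hwe, hwf, hw₁]
  obtain ⟨l, hl⟩ := T.exists_trace (r := -T.f v v) (by rw [map_neg, T.σ_self])
  obtain ⟨w', hw'⟩ : ∃ w', w' = v + l • w := ⟨_, rfl⟩
  have hvw : T.f v w = 1 := by rw [← T.herm, hwv, map_one]
  have hyp' : T.Hyp w w' := ⟨hww, by
    simp only [hw', map_add, map_smulₛₗ, LinearMap.add_apply, LinearMap.smul_apply, RingHom.id_apply, smul_eq_mul,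
      hwv, hvw, hww]
    linear_combination hl, by simp [hw', hwv, hww]⟩
  have hw'e : T.f w' e = 0 := by simp [hw', hve, hwe]
  have hw'f : T.f w' f₀ = 0 := by simp [hw', hvf, hwf]
  obtain ⟨Q₂, hQ₂⟩ : ∃ Q, Q = T.pI i w w' := ⟨_, rfl⟩
  obtain ⟨Q₃, hQ₃⟩ : ∃ Q, Q = T.qI i w w' := ⟨_, rfl⟩
  have mQ₂ : Q₂ ∈ T.phi i := hQ₂ ▸ T.pI_mem_phi i
  have mQ₃ : Q₃ ∈ T.phi i := hQ₃ ▸ T.qI_mem_phi i
  have q1 : P * Q₂ = 0 := by rw [hP, hQ₂, Sys.pI, Sys.pI, T.mul, hwf, zero_smul]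
  have q2 : P₁ * Q₂ = 0 := by rw [hP₁, hQ₂, Sys.qI, Sys.pI, T.mul, hwe, zero_smul]
  have q3 : P * Q₃ = 0 := by rw [hP, hQ₃, Sys.pI, Sys.qI, T.mul, hw'f, zero_smul]
  have q4 : P₁ * Q₃ = 0 := by rw [hP₁, hQ₃, Sys.qI, Sys.qI, T.mul, hw'e, zero_smul]
  have q5 : Q₃ * P = 0 := by rw [hP, hQ₃, Sys.pI, Sys.qI, T.mul, T.perp_symm hwe, zero_smul]
  have q6 : Q₃ * P₁ = 0 := by rw [hP₁, hQ₃, Sys.qI, Sys.qI, T.mul, T.perp_symm hwf, zero_smul]
  have q7 : Q₂ * Q₃ = 0 := by rw [hQ₂, hQ₃]; exact hyp'.pI_mul_qI i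
  have q8 : Q₂ * P = 0 := by rw [hP, hQ₂, Sys.pI, Sys.pI, T.mul, T.perp_symm hw'e, zero_smul]
  have q9 : Q₂ * P₁ = 0 := by rw [hP₁, hQ₂, Sys.pI, Sys.qI, T.mul, T.perp_symm hw'f, zero_smul]
  have q10 : Q₂ * Q₂ = Q₂ := by rw [hQ₂]; exact hyp'.pI_mul_self i
  have q11 : Q₃ * Q₃ = Q₃ := by rw [hQ₃]; exact hyp'.qI_mul_self i
  obtain ⟨ρ, hρ⟩ : ∃ ρ, ρ = Q₂ * K Q₃ := ⟨_, rfl⟩
  have ερ : ε * ρ = 0 := by
    rw [hε, hρ, add_mul, hmul P mP P' mP' Q₂ mQ₂ Q₃, hmul P₁ mP₁ P₂ mP₂ Q₂ mQ₂ Q₃, q1, q2]; simp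
  have εxρ : ε * x * ρ = 0 := by
    rw [hx', mul_sub, mul_one, sub_mul, ερ, sub_zero, mul_assoc, hgz, ← mul_assoc, hρ, hKp Q₂ mQ₂ Q₃ mQ₃, hε, add_mul,
      hmul P mP P' mP' Q₃ mQ₃ Q₂, hmul P₁ mP₁ P₂ mP₂ Q₃ mQ₃ Q₂, q3, q4]
    simp
  have ρρ : ρ * ρ = ρ := by rw [hρ, hmul Q₂ mQ₂ Q₃ mQ₃ Q₂ mQ₂ Q₃, q10, q11]
  have ρxρ : ρ * x * ρ = -ρ := by
    rw [hx', mul_sub, mul_one, sub_mul, ρρ, mul_assoc, hgz, ← mul_assoc, hρ, hKp Q₂ mQ₂ Q₃ mQ₃,
      hmul Q₂ mQ₂ Q₃ mQ₃ Q₃ mQ₃ Q₂, q7]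
    simp
  have e1 : x * ρ * x = 0 := hkey _ (by
    rw [show ε * (x * ρ * x) * ε = ε * x * ρ * (x * ε) by simp only [mul_assoc], εxρ, zero_mul])
  have e2 : ρ = 0 := by
    calc ρ = ρ * x * ρ * (x * ρ) := by
          rw [ρxρ, neg_mul, ← mul_assoc ρ x ρ, ρxρ, neg_neg]
      _ = ρ * (x * ρ * x) * ρ := by simp only [mul_assoc]
      _ = 0 := by rw [e1, mul_zero, zero_mul]
  have hQ3ne : Q₃ ≠ 0 := hQ₃ ▸ T.E_ne_zero i hyp'.right_ne hw0
  have hQ2ne : Q₂ ≠ 0 := hQ₂ ▸ T.E_ne_zero i hw0 hyp'.right_ne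
  have h0 := T.eq_zero_of_phi_mul mQ₂ hQ2ne (T.cen_of_phi_ne hij (hKj _ mQ₃)) (hρ ▸ e2)
  exact hQ3ne (by rw [← hKK Q₃, h0, hK0])

end CfsgLib.MaxSub.SuPow
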