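import Cfsg.Agent.Lib.MaxSub.SuPow.Grow
import Cfsg.Agent.Lib.MaxSub.SuPow.Stab
import Cfsg.Agent.Lib.MaxSub.SuPow.CloseAll

/-!
Tensor powers of a Hermitian space: the elementary isometries of one factor, all transvections at a product of
isotropic vectors from one product of root elements of all factors, and their action on products of vectors.
-/

set_option autoImplicit false
set_option linter.unusedSectionVars false

namespace CfsgLib.MaxSub.SuPow

open CfsgLib.MaxSub.SpPow (InH inv_one_add)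

variable {F A R ι κ : Type*} [Field F] [AddCommGroup A] [Module F A] [Ring R] [Algebra F R] [Fintype κ]
  [DecidableEq ι]
variable {T : Sys F A R ι κ} {H : Subgroup Rˣ}

namespace Sys

variable (T)

theorem iso_root (i : ι) {e : A} (he : T.f e e = 0) {a : F} (ha : T.σ a = -a) :
    T.ad (1 + a • T.E i e e) * (1 + a • T.E i e e) = 1 := by
  rw [map_add, T.ad_one, T.ad_smul, T.ad_E, ha]
  simp only [mul_add, add_mul, one_mul, mul_one, smul_mul_assoc, mul_smul_comm, T.n_mul_self i he, smul_zero,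
    add_zero, neg_smul, neg_mul]
  abel

theorem iso_short (i : ι) {e v : A} (he : T.f e e = 0) (hv : T.f v e = 0) {c : F}
    (hc : c + T.σ c = -T.f v v) : T.ad (1 + T.sh i e v c) * (1 + T.sh i e v c) = 1 := by
  rw [map_add, T.ad_one, T.ad_sh]
  have h : T.sh i e (-v) (T.σ c) * T.sh i e v c = T.f v v • T.E i e e := by
    rw [T.sh_mul_sh he (by simp [hv]) hv, map_neg, neg_smul, neg_neg]
  simp only [mul_add, add_mul, one_mul, mul_one, h]
  simp only [Sys.sh, map_neg, LinearMap.neg_apply]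
  have e1 : T.f v v = -(c + T.σ c) := by rw [hc, neg_neg]
  rw [e1]
  module

theorem sh_cube (i : ι) {e v : A} (he : T.f e e = 0) (hv : T.f v e = 0) (c : F) :
    T.sh i e v c * T.sh i e v c * T.sh i e v c = 0 := by
  rw [T.sh_mul_sh he hv hv, neg_mul, smul_mul_assoc, T.n_mul_sh he hv, smul_zero, neg_zero]

theorem iso_tau (i : ι) {e f₀ u : A} (h : T.Hyp e f₀) (hue : T.f u e = 0) (huf : T.f u f₀ = 0)
    (hu : T.f u u ≠ 0) {l : F} (hl : l ≠ 0) : T.ad (T.tau i e f₀ u l) * T.tau i e f₀ u l = 1 := by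
  have hl' : T.σ l ≠ 0 := (map_ne_zero T.σ).2 hl
  have heu := T.perp_symm hue
  have hfu := T.perp_symm huf
  simp only [Sys.tau, map_add, T.ad_one, T.ad_smul, T.ad_pI, T.ad_qI, T.ad_E, map_sub, map_mul, map_inv₀, map_one,
    T.σσ, T.σ_self]
  simp only [Sys.pI, Sys.qI, mul_add, add_mul, one_mul, mul_one, smul_mul_assoc, mul_smul_comm, T.mul, h.ee, h.ff,
    h.ef, h.fe, hue, huf, heu, hfu, zero_smul, smul_zero, add_zero, zero_add, smul_smul, one_smul]
  match_scalars <;> field_simp <;> ring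

theorem tau_mul_n (i : ι) {e f₀ u : A} (h : T.Hyp e f₀) (hue : T.f u e = 0) (l : F) :
    T.tau i e f₀ u l * T.E i e e = l • T.E i e e := by
  simp only [Sys.tau, Sys.pI, Sys.qI, add_mul, one_mul, smul_mul_assoc, T.mul, h.ee, h.ef, T.perp_symm hue,
    zero_smul, smul_zero, add_zero, one_smul, sub_smul, sub_mul]
  abel

end Sys

theorem Mono.ad_eq {J : Finset ι} {x : R} (h : Mono T J x) : T.ad x = x := by
  induction h with
  | empty => exact T.ad_one
  | insert l a hl ha haa hx ih => rw [T.ad_mul, T.ad_E, ih, hx.cen hl]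

theorem Mono.ne_zero [Nontrivial R] {J : Finset ι} {x : R} (h : Mono T J x) : x ≠ 0 := by
  induction h with
  | empty => exact one_ne_zero
  | insert l a hl ha haa hx ih => exact fun h0 => ih (T.E_mul_cancel ha ha (hx.cen hl) h0)

/-- all transvections at a product of root elements of all factors -/
theorem Full.all [Fintype ι] [Nontrivial R] [Nonempty ι] (G : Grp T H) (hw : T.Wide)
    (hnorm : ∀ r : F, T.σ r = r → ∃ x, x * T.σ x = r) (h : Full T H Finset.univ) {y : R}
    (hy : Mono T Finset.univ y) {s : F} (hs : T.σ s = -s) : InH H (1 + s • y) := by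
  obtain ⟨x, hx, c₀, hc₀, hin₀⟩ := h
  obtain ⟨c, hc, hin⟩ := Mono.change G hx hy 1 (fun l _ => T.cen_one l) ⟨c₀, hc₀, by rwa [mul_one]⟩
  rw [mul_one] at hin
  rcases eq_or_ne s 0 with rfl | hs0
  · rw [zero_smul, add_zero]; exact InH.one
  have hyy : y * y = 0 := hy.sq Finset.univ_nonempty
  have hcσ : T.σ c = -c := by
    obtain ⟨g, hg, hgv⟩ := hin
    have h1 := G.iso g hg
    rw [hgv, map_add, T.ad_one, T.ad_smul, hy.ad_eq] at h1
    simp only [mul_add, add_mul, one_mul, mul_one, smul_mul_smul, hyy, smul_zero, add_zero] at h1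
    rw [add_assoc, ← add_smul] at h1
    have h2 : (T.σ c + c) • y = 0 := by
      have := congrArg (fun z => z - 1) h1
      simpa using this
    exact eq_neg_of_add_eq_zero_left ((smul_eq_zero.1 h2).resolve_right hy.ne_zero)
  obtain ⟨l, hl⟩ := hnorm (s / c) (by rw [map_div₀, hs, hcσ, neg_div_neg_eq])
  have hl0 : l ≠ 0 := by
    rintro rfl
    rw [zero_mul, eq_comm, div_eq_zero_iff] at hl
    exact hl.elim hs0 hc
  obtain ⟨i⟩ := (inferInstance : Nonempty ι)
  obtain ⟨a, y', ha, haa, hy', rfl⟩ := hy.split (Finset.mem_univ i)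
  obtain ⟨f₀, hh⟩ := T.exists_hyp ha haa
  obtain ⟨u, hue, huf, huu⟩ := T.exists_aniso_perp hw hh
  obtain ⟨g, hg, hgv⟩ := G.tor i a f₀ u hh hue huf huu l hl0
  have hcomm : y' * T.ad (T.tau i a f₀ u l) = T.ad (T.tau i a f₀ u l) * y' := by
    exact T.phi_comm_cen (T.ad_mem_phi (T.tau_mem_phi i a f₀ u l)) (hy'.cen (Finset.notMem_erase i _))
  have h2 := hin.conj hg
  convert h2 using 1
  rw [mul_add, mul_one, add_mul, Units.mul_inv, G.inv_eq hg, hgv]
  congr 1
  have e1 : T.E i a a * T.ad (T.tau i a f₀ u l) = T.σ l • T.E i a a := by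
    have := congrArg T.ad (T.tau_mul_n i hh hue l)
    rwa [T.ad_mul, T.ad_E, T.ad_smul, T.ad_E] at this
  rw [mul_smul_comm, smul_mul_assoc, show T.tau i a f₀ u l * (T.E i a a * y') * T.ad (T.tau i a f₀ u l) =
      T.tau i a f₀ u l * (T.E i a a * T.ad (T.tau i a f₀ u l)) * y' by simp [mul_assoc, hcomm], e1, mul_smul_comm,
    T.tau_mul_n i hh hue, smul_smul, smul_mul_assoc, smul_smul]
  congr 1
  rw [eq_div_iff hc] at hl
  linear_combination -hl

/-- a transvection at a product of isotropic vectors does not permute the factors -/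
theorem not_permutes [Fintype ι] [Nontrivial R] {i : ι} {e f₀ : A} (hh : T.Hyp e f₀) {y : R} {J : Finset ι}
    (hy : Mono T J y) (hJ : J.Nonempty) (hi : i ∉ J) {s : F} (hs : s ≠ 0) {g : Rˣ}
    (hgv : (g : R) = 1 + s • (T.E i e e * y)) : ¬ Permutes T g := by
  rintro ⟨σ', hσ⟩
  have hyc : T.Cen i y := hy.cen hi
  have hyy : y * y = 0 := hy.sq hJ
  have hzz : T.E i e e * y * (T.E i e e * y) = 0 := by
    rw [mul_assoc, ← mul_assoc y, hyc, mul_assoc, hyy, mul_zero, mul_zero]
  have hgi := inv_one_add (by rw [smul_mul_smul, hzz, smul_zero]) hgv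
  have hX : (g : R) * T.E i f₀ f₀ * (↑g⁻¹ : R) =
      T.E i f₀ f₀ + s • ((T.pI i e f₀ - T.qI i e f₀) * y) := by
    rw [hgv, hgi]
    have e1 : T.E i e e * y * T.E i f₀ f₀ = T.pI i e f₀ * y := by
      rw [mul_assoc, hyc, ← mul_assoc, T.mul, hh.fe, one_smul]; rfl
    have e2 : T.E i f₀ f₀ * (T.E i e e * y) = T.qI i e f₀ * y := by
      rw [← mul_assoc, T.mul, hh.ef, one_smul]; rfl
    have e3 : T.pI i e f₀ * y * (T.E i e e * y) = 0 := by
      rw [mul_assoc, ← mul_assoc y, hyc, mul_assoc, hyy, mul_zero, mul_zero]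
    simp only [add_mul, mul_sub, one_mul, mul_one, smul_mul_assoc, mul_smul_comm, e1, e2, e3, smul_zero, sub_zero,
      sub_mul, smul_sub]
    abel
  have hmem := hσ i f₀ f₀
  rw [hX] at hmem
  have hy0 : y ≠ 0 := hy.ne_zero
  by_cases hj : σ' i = i
  · rw [hj] at hmem
    obtain ⟨b, hb⟩ := T.blk_phi hmem f₀ e
    rw [T.blk_add, T.blk_smul, show T.E i f₀ f₀ = T.E i f₀ f₀ * 1 from (mul_one _).symm,
      T.blk_E_mul (T.cen_one i), sub_mul, T.blk_sub, Sys.pI, Sys.qI, T.blk_E_mul hyc, T.blk_E_mul hyc, hh.ff,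
      zero_mul, zero_smul, zero_add, hh.ef, one_mul, one_smul, zero_mul, zero_smul, sub_zero] at hb
    have h1 : y = (s⁻¹ * b) • (1 : R) := by rw [mul_smul, ← hb, inv_smul_smul₀ hs]
    have h2 := hyy
    rw [h1, smul_mul_smul, mul_one, smul_eq_zero, mul_self_eq_zero] at h2
    exact hy0 (by rw [h1, h2.resolve_right one_ne_zero, zero_smul])
  · have h := (T.cen_of_phi_ne (Ne.symm hj) hmem) e e
    have ny : ∀ p q : A, T.E i p q * y * T.E i e e = T.E i p q * T.E i e e * y := fun p q => by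
      rw [mul_assoc, hyc, ← mul_assoc]
    have h2 : T.qI i e f₀ - T.pI i e f₀ + (s + s) • (T.E i e e * y) = 0 := by
      simp only [Sys.pI, Sys.qI, mul_add, add_mul, mul_sub, sub_mul, smul_mul_assoc, mul_smul_comm, ny,
        ← mul_assoc (T.E i e e), T.mul, hh.ee, hh.ef, hh.fe, zero_smul, one_smul, zero_mul, sub_zero, zero_sub,
        smul_neg] at h
      simp only [Sys.pI, Sys.qI]
      rw [← sub_eq_zero] at h
      rw [← h]
      module
    have h3 := congrArg (fun z => T.qI i e f₀ * z) h2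
    simp only [mul_add, mul_sub, mul_smul_comm, hh.qI_mul_self, hh.qI_mul_pI, sub_zero, ← mul_assoc,
      T.qI_E, hh.ee, zero_smul, zero_mul, smul_zero, add_zero, mul_zero] at h3
    exact T.E_ne_zero i hh.right_ne hh.left_ne h3

namespace Act

variable {V : Type*} [Fintype ι] [AddCommGroup V] [Module F V] (L : Act T V)

/-- the product of root elements at isotropic vectors acts as the transvection generator -/
theorem exists_mono (a : ι → A) (ha : ∀ l, a l ≠ 0) (hi : AllIso T a) :
    ∃ x, Mono T Finset.univ x ∧ ∀ v, L.ρ x v = (L.c⁻¹ * L.h v (L.vec a)) • L.vec a := by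
  classical
  have key : ∀ J : Finset ι, ∃ x, Mono T J x ∧ ∀ b, L.ρ x (L.vec b) =
      (∏ l ∈ J, T.f (b l) (a l)) • L.vec (fun l => if l ∈ J then a l else b l) := by
    intro J
    induction J using Finset.induction_on with
    | empty => exact ⟨1, Mono.empty, fun b => by simp⟩
    | insert l J hl ih =>
      obtain ⟨x, hx, hxv⟩ := ih
      refine ⟨T.E l (a l) (a l) * x, Mono.insert l (a l) hl (ha l) (hi l) hx, fun b => ?_⟩
      rw [ρ_mul, hxv, map_smul, L.vec_E, smul_smul, if_neg hl, Finset.prod_insert hl, mul_comm]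
      congr 2
      funext m
      rcases eq_or_ne m l with rfl | hm
      · simp
      · simp [hm]
  obtain ⟨x, hx, hxv⟩ := key Finset.univ
  refine ⟨x, hx, fun v => ?_⟩
  have hv : v ∈ Submodule.span F (Set.range L.vec) := by rw [L.span]; trivial
  induction hv using Submodule.span_induction with
  | mem v hv =>
    obtain ⟨b, rfl⟩ := hv
    rw [hxv b, L.h_vec, inv_mul_cancel_left₀ L.hc]
    simp only [Finset.mem_univ, if_true]
  | zero => simp
  | add u w _ _ hu hw => rw [map_add, hu, hw, map_add, LinearMap.add_apply, mul_add, add_smul]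
  | smul c u _ hu =>
    rw [map_smul, hu, map_smul, LinearMap.smul_apply, smul_smul, smul_eq_mul]
    congr 1
    ring

end Act

end CfsgLib.MaxSub.SuPow
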